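import Cfsg.Agent.ZJ.ZJCenter

/-!
p-constrained, p-stable groups modulo the p'-core.
-/

set_option autoImplicit false

namespace CfsgLib.ZJ

open Subgroup CfsgLib.Functor
open scoped CfsgLib.Functor commutatorElement

variable {G : Type*} [Group G] [Finite G] {p : ℕ} [Fact p.Prime]

theorem isPGroup_inf_coprime {P N : Subgroup G} (hP : IsPGroup p P) (hN : (Nat.card N).Coprime p) :
    P ⊓ N = ⊥ := by
  rw [eq_bot_iff]
  intro x hx
  obtain ⟨k, hk⟩ := hP ⟨x, hx.1⟩
  have hk' : x ^ p ^ k = 1 := by simpa using congrArg Subtype.val hk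
  exact orderOf_eq_one_iff.mp (Nat.eq_one_of_dvd_coprimes (hN.pow_right k)
    (N.orderOf_dvd_natCard hx.2) (orderOf_dvd_of_pow_eq_one hk'))

theorem isSylowIn_sup_coprime {P N : Subgroup G} [N.Normal] (hP : IsPGroup p P)
    (hN : (Nat.card N).Coprime p) : IsSylowIn p P (P ⊔ N) := by
  refine ⟨le_sup_left, hP, fun h => ?_⟩
  have h1 : Nat.card P * P.relIndex (P ⊔ N) = Nat.card P * Nat.card N := by
    rw [← Solvable.card_sup_of_disjoint (A := P) (K := N) (le_normalizer_of_normal)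
      (isPGroup_inf_coprime hP hN), ← relIndex_bot_left, ← relIndex_bot_left]
    exact relIndex_mul_relIndex ⊥ P (P ⊔ N) bot_le le_sup_left
  rw [Nat.eq_of_mul_eq_mul_left Nat.card_pos h1] at h
  exact (Fact.out : p.Prime).coprime_iff_not_dvd.mp hN.symm h

/-- An element normalizing `P` modulo a normal p'-subgroup is, up to that subgroup, in `N(P)`. -/
theorem exists_mul_mem_normalizer {P N : Subgroup G} [N.Normal] (hP : IsPGroup p P)
    (hN : (Nat.card N).Coprime p) {g : G} (hg : g ∈ normalizer ((P ⊔ N : Subgroup G) : Set G)) :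
    ∃ n ∈ N, n * g ∈ normalizer (P : Set G) := by
  have hS := isSylowIn_sup_coprime hP hN
  obtain ⟨m, hm, hmeq⟩ := hS.exists_cj_eq (hS.cj_of_mem hg)
  rw [cj_cj, ← mem_normalizer_iff_cj] at hmeq
  obtain ⟨x, hx, n, hn, rfl⟩ :=
    (Solvable.mem_sup_of_le_normalizer (A := P) (K := N) le_normalizer_of_normal).mp hm
  refine ⟨n, hn, ?_⟩
  have := mul_mem (inv_mem (le_normalizer hx)) hmeq
  simpa [mul_assoc] using this

theorem exists_mul_mem_centralizer {P N : Subgroup G} [N.Normal] (hP : IsPGroup p P)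
    (hN : (Nat.card N).Coprime p) {g : G}
    (hg : ∀ x ∈ P, g * x * g⁻¹ * x⁻¹ ∈ N) :
    ∃ n ∈ N, n * g ∈ centralizer (P : Set G) := by
  have hgn : g ∈ normalizer ((P ⊔ N : Subgroup G) : Set G) := by
    refine mem_normalizer_iff_map_conj_eq.mpr (Solvable.eq_of_le_of_card_le ?_ ?_)
    · rw [Subgroup.map_sup]
      refine sup_le ?_ ?_
      · rintro _ ⟨x, hx, rfl⟩
        show g * x * g⁻¹ ∈ P ⊔ N
        rw [← inv_mul_cancel_right (g * x * g⁻¹) x]
        exact mul_mem (mem_sup_right (hg x hx)) (mem_sup_left hx)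
      · rintro _ ⟨x, hx, rfl⟩
        exact mem_sup_right ((inferInstance : N.Normal).conj_mem x hx g)
    · exact (Nat.card_congr ((P ⊔ N).equivMapOfInjective _ (MulAut.conj g).injective).toEquiv).le
  obtain ⟨n, hn, hng⟩ := exists_mul_mem_normalizer hP hN hgn
  refine ⟨n, hn, mem_centralizer_iff.mpr fun x hx => ?_⟩
  have h1 : n * g * x * (n * g)⁻¹ * x⁻¹ ∈ P :=
    P.mul_mem ((mem_normalizer_iff.mp hng x).mp hx) (P.inv_mem hx)
  have h2 : n * g * x * (n * g)⁻¹ * x⁻¹ ∈ N := by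
    rw [show n * g * x * (n * g)⁻¹ * x⁻¹ = n * (g * x * g⁻¹ * x⁻¹) * (x * n⁻¹ * x⁻¹) by group]
    exact mul_mem (mul_mem hn (hg x hx))
      ((inferInstance : N.Normal).conj_mem _ (inv_mem hn) x)
  have h3 : n * g * x * (n * g)⁻¹ * x⁻¹ ∈ (⊥ : Subgroup G) :=
    isPGroup_inf_coprime hP hN ▸ ⟨h1, h2⟩
  rw [mem_bot, mul_inv_eq_one, mul_inv_eq_iff_eq_mul] at h3
  exact h3.symm

theorem pPrimePCore_map_eq :
    (Cfsg.pPrimePCore p G).map (QuotientGroup.mk' (Cfsg.pPrimeCore p G)) =
      Cfsg.pCore p (G ⧸ Cfsg.pPrimeCore p G) :=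
  map_comap_eq_self_of_surjective (QuotientGroup.mk'_surjective _) _

theorem centralizer_pCore_quotient_le (hc : Cfsg.IsPConstrained p G) :
    centralizer (Cfsg.pCore p (G ⧸ Cfsg.pPrimeCore p G) : Set (G ⧸ Cfsg.pPrimeCore p G)) ≤
      Cfsg.pCore p (G ⧸ Cfsg.pPrimeCore p G) := by
  intro gb hgb
  obtain ⟨g, rfl⟩ := QuotientGroup.mk'_surjective (Cfsg.pPrimeCore p G) gb
  obtain ⟨P⟩ := (inferInstance : Nonempty (Sylow p ↥(Cfsg.pPrimePCore p G)))
  set P' := (P : Subgroup ↥(Cfsg.pPrimePCore p G)).map (Cfsg.pPrimePCore p G).subtype with hP'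
  obtain ⟨n, hn, hng⟩ := exists_mul_mem_centralizer (N := Cfsg.pPrimeCore p G)
    (P.2.map (Cfsg.pPrimePCore p G).subtype) (Solvable.coprime_card_pPrimeCore p) (g := g) (by
      intro x hx
      have hxb : QuotientGroup.mk' (Cfsg.pPrimeCore p G) x ∈
          Cfsg.pCore p (G ⧸ Cfsg.pPrimeCore p G) := by
        obtain ⟨⟨y, hy⟩, -, rfl⟩ := hx
        exact hy
      refine (QuotientGroup.eq_one_iff _).mp ?_
      show QuotientGroup.mk' (Cfsg.pPrimeCore p G) (g * x * g⁻¹ * x⁻¹) = 1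
      rw [map_mul, map_mul, map_mul, map_inv, map_inv, ← mem_centralizer_iff.mp hgb _ hxb,
        mul_inv_cancel_right, mul_inv_cancel])
  have h1 := mem_map_of_mem (QuotientGroup.mk' (Cfsg.pPrimeCore p G)) (hc P hng)
  rw [pPrimePCore_map_eq, map_mul] at h1
  rwa [show QuotientGroup.mk' (Cfsg.pPrimeCore p G) n = 1 from (QuotientGroup.eq_one_iff n).mpr hn,
    one_mul] at h1

theorem stableNormal_quotient (hs : Cfsg.IsPStable p G) :
    StableNormal p (G ⧸ Cfsg.pPrimeCore p G) := by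
  set N := Cfsg.pPrimeCore p G with hN
  set π := QuotientGroup.mk' N with hπ
  intro Pb hPbn hPb ab hq
  -- a power of the element centralizes
  obtain ⟨kE, hkE⟩ : ∃ k, Nat.card Pb = p ^ k := hPb.exists_card_eq
  have hcent : ab ^ p ^ kE ∈ centralizer (Pb : Set (G ⧸ N)) := by
    rw [mem_centralizer_iff]
    intro x hx
    set c := ⁅x, ab⁆ with hc
    have hcP : c ∈ Pb := by
      rw [hc, commutatorElement_def, mul_assoc x, mul_assoc x]
      exact mul_mem hx (hPbn.conj_mem _ (inv_mem hx) ab)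
    have hcc : Commute c ab := by
      have h := commutator_mem_commutator
        (commutator_mem_commutator hx (mem_zpowers ab)) (mem_zpowers ab)
      rw [hq, mem_bot, commutatorElement_eq_one_iff_mul_comm] at h
      exact h
    have key : ∀ j : ℕ, x * ab ^ j = c ^ j * (ab ^ j * x) := by
      intro j
      induction j with
      | zero => simp
      | succ j ih =>
        have hxa : x * ab = c * (ab * x) := by rw [hc, commutatorElement_def]; group
        rw [pow_succ ab, ← mul_assoc, ih]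
        calc c ^ j * (ab ^ j * x) * ab = c ^ j * (ab ^ j * (x * ab)) := by simp only [mul_assoc]
          _ = c ^ j * ((ab ^ j * c) * (ab * x)) := by rw [hxa]; simp only [mul_assoc]
          _ = c ^ (j + 1) * (ab ^ j * ab * x) := by
            rw [← (hcc.pow_right j).eq, pow_succ]; simp only [mul_assoc]
    have hpow : c ^ p ^ kE = 1 := orderOf_dvd_iff_pow_eq_one.mp (hkE ▸ Pb.orderOf_dvd_natCard hcP)
    rw [key, hpow, one_mul]
  -- split off the p-part
  obtain ⟨a, rfl⟩ := QuotientGroup.mk'_surjective N ab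
  obtain ⟨e, m, hpm, hord⟩ := Nat.exists_eq_pow_mul_and_not_dvd (orderOf_pos a).ne' p
    (Fact.out : p.Prime).one_lt.ne'
  have hcop : Nat.Coprime (p ^ (kE + e)) m :=
    ((Fact.out : p.Prime).coprime_iff_not_dvd.mpr hpm).pow_left _
  have hbez := Nat.gcd_eq_gcd_ab (p ^ (kE + e)) m
  rw [hcop.gcd_eq_one] at hbez
  set u := Nat.gcdA (p ^ (kE + e)) m
  set v := Nat.gcdB (p ^ (kE + e)) m
  set a0 := a ^ ((m : ℤ) * v) with ha0
  set t := a ^ (((p ^ (kE + e) : ℕ) : ℤ) * u) with ht
  have hat : a = t * a0 := by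
    rw [ha0, ht, ← zpow_add, ← hbez]
    simp
  have ha0p : a0 ^ p ^ e = 1 := by
    rw [ha0, ← zpow_natCast, ← zpow_mul, mul_comm, ← mul_assoc, zpow_mul, ← Nat.cast_mul, zpow_natCast,
      ← hord, pow_orderOf_eq_one, one_zpow]
  have htC : π t ∈ centralizer (Pb : Set (G ⧸ N)) := by
    rw [ht, map_zpow, zpow_mul, zpow_natCast, pow_add, pow_mul]
    exact (centralizer (Pb : Set (G ⧸ N))).zpow_mem (pow_mem hcent _) u
  have hq0 : ⁅⁅Pb, zpowers (π a0)⁆, zpowers (π a0)⁆ = ⊥ := by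
    have hle : zpowers (π a0) ≤ zpowers (π a) := zpowers_le.mpr (by
      rw [ha0, map_zpow]; exact (zpowers (π a)).zpow_mem (mem_zpowers _) _)
    exact le_bot_iff.mp ((commutator_mono (commutator_mono le_rfl hle) hle).trans hq.le)
  -- a p-subgroup normalized by the p-part
  set M := Pb.comap π with hM
  have hMn : M.Normal := inferInstance
  have hNM : N ≤ M := fun x hx => by
    rw [hM, mem_comap, show π x = 1 from (QuotientGroup.eq_one_iff x).mpr hx]
    exact Pb.one_mem
  obtain ⟨T, hT, ha0T⟩ := exists_sylowIn_ge (p := p) (Q := zpowers a0) (H := M ⊔ zpowers a0)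
    (by
      rintro ⟨y, i, rfl⟩
      refine ⟨e, Subtype.ext ?_⟩
      show (a0 ^ i) ^ p ^ e = 1
      rw [← zpow_natCast, zpow_comm, zpow_natCast, ha0p, one_zpow]) le_sup_right
  have hTM : IsSylowIn p (T ⊓ M) M := hT.inf_normal le_sup_left (pcomm_of_normal hMn _)
  set P := T ⊓ M with hP
  have hPn : zpowers a0 ≤ normalizer (P : Set G) := by
    refine ha0T.trans fun x hx => ?_
    rw [mem_normalizer_iff]
    intro y
    exact and_congr ⟨fun h => T.mul_mem (T.mul_mem hx h) (T.inv_mem hx), fun h => by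
      have := T.mul_mem (T.mul_mem (T.inv_mem hx) h) hx
      simpa [mul_assoc] using this⟩ ⟨fun h => hMn.conj_mem y h x, fun h => by
      have := hMn.conj_mem _ h x⁻¹
      simpa [mul_assoc] using this⟩
  have hPM : P ⊔ N = M := by
    refine Solvable.eq_of_le_of_card_le (sup_le inf_le_right hNM) ?_
    obtain ⟨kb, hkb⟩ : ∃ k, (N.subgroupOf M).index = p ^ k := by
      obtain ⟨k, hk⟩ := hPb.exists_card_eq
      refine ⟨k, ?_⟩
      rw [← hk, ← relIndex, hM]
      have := relIndex_ker M π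
      rw [QuotientGroup.ker_mk'] at this
      rw [this, hM, map_comap_eq_self_of_surjective (QuotientGroup.mk'_surjective N)]
    have h1 : (P ⊔ N).relIndex M ∣ p ^ kb := by
      rw [← hkb]
      exact relIndex_dvd_of_le_left M le_sup_right
    have h2 : ¬ p ∣ (P ⊔ N).relIndex M := fun h =>
      hTM.2.2 (h.trans (relIndex_dvd_of_le_left M le_sup_left))
    obtain ⟨j, -, hj⟩ := (Nat.dvd_prime_pow Fact.out).mp h1
    rcases Nat.eq_zero_or_pos j with rfl | hpos
    · exact card_le_of_le (relIndex_eq_one.mp (by simpa using hj))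
    · exact absurd (hj ▸ dvd_pow_self p hpos.ne') h2
  have hPpp : P ≤ Cfsg.pPrimePCore p G := fun x hx => by
    show π x ∈ Cfsg.pCore p (G ⧸ N)
    exact Solvable.le_pCore p hPbn hPb hx.2
  have hPA : ⁅⁅P, zpowers a0⁆, zpowers a0⁆ = ⊥ := by
    have h1 : ⁅P, zpowers a0⁆ ≤ P := by
      rw [commutator_le]
      intro x hx y hy
      rw [commutatorElement_def, mul_assoc x, mul_assoc x]
      exact P.mul_mem hx ((mem_normalizer_iff.mp (hPn hy) _).mp (P.inv_mem hx))
    have h2 : ⁅⁅P, zpowers a0⁆, zpowers a0⁆ ≤ P := by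
      refine (commutator_mono h1 le_rfl).trans ?_
      exact h1
    have h3 : ⁅⁅P, zpowers a0⁆, zpowers a0⁆ ≤ N := by
      have hPmap : P.map π ≤ Pb := map_le_iff_le_comap.mpr inf_le_right
      have h4 : (⁅⁅P, zpowers a0⁆, zpowers a0⁆).map π ≤ ⊥ := by
        rw [map_commutator, map_commutator, MonoidHom.map_zpowers, ← hq0]
        exact commutator_mono (commutator_mono hPmap le_rfl) le_rfl
      rw [map_le_iff_le_comap, MonoidHom.comap_bot, QuotientGroup.ker_mk'] at h4
      exact h4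
    exact le_bot_iff.mp ((le_inf h2 h3).trans
      (isPGroup_inf_coprime hTM.2.1 (Solvable.coprime_card_pPrimeCore p)).le)
  have hstep := hs.2.2 (zpowers a0) P (hT.2.1.to_le ha0T) hTM.2.1
    (fun y hy x hx => (mem_normalizer_iff.mp (hPn hy) x).mp hx) hPpp
    (by rw [sup_comm, hPM]; exact hMn) hPA
  have ha0N : a0 ∈ normalizer (P : Set G) := hPn (mem_zpowers a0)
  have hmem := hstep (mem_map_of_mem _ (show (⟨a0, ha0N⟩ : normalizer (P : Set G)) ∈
    (zpowers a0).subgroupOf _ from mem_subgroupOf.mpr (mem_zpowers a0)))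
  obtain ⟨D, hD, haD, hDp⟩ := (pcoreMod_iff _ _).mpr hmem
  have hsur : ∀ g : G, ∃ d ∈ normalizer (P : Set G), π d = π g := by
    intro g
    obtain ⟨n, hn, hng⟩ := exists_mul_mem_normalizer (N := N) hTM.2.1
      (Solvable.coprime_card_pPrimeCore p) (g := g) (pcomm_of_normal (hPM.symm ▸ hMn) ⊤ (mem_top g))
    exact ⟨n * g, hng, by rw [map_mul, show π n = 1 from (QuotientGroup.eq_one_iff n).mpr hn, one_mul]⟩
  set ψ : ↥(normalizer (P : Set G)) →* G ⧸ N := π.comp (normalizer (P : Set G)).subtype with hψ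
  have hψs : Function.Surjective ψ := fun y => by
    obtain ⟨g, rfl⟩ := QuotientGroup.mk'_surjective N y
    obtain ⟨d, hd, hde⟩ := hsur g
    exact ⟨⟨d, hd⟩, hde⟩
  refine ⟨D.map ψ ⊔ centralizer (Pb : Set (G ⧸ N)), ?_, ?_, ?_⟩
  · haveI := hD.map ψ hψs
    infer_instance
  · rw [hat, map_mul]
    exact mul_mem (mem_sup_right htC) (mem_sup_left ⟨_, haD, rfl⟩)
  · haveI := hD.map ψ hψs
    intro y hy
    obtain ⟨_, ⟨d, hd, rfl⟩, c, hc, rfl⟩ :=
      (mem_sup_of_normal_right (t := centralizer (Pb : Set (G ⧸ N)))).mp hy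
    obtain ⟨k, hk⟩ := hDp d hd
    refine ⟨k, ?_⟩
    have hdC : ψ d ^ p ^ k ∈ centralizer (Pb : Set (G ⧸ N)) := by
      rw [← map_pow, mem_centralizer_iff]
      intro xb hxb
      obtain ⟨x, rfl⟩ := QuotientGroup.mk'_surjective N xb
      obtain ⟨q, hq', n, hn, rfl⟩ := (Solvable.mem_sup_of_le_normalizer (A := P) (K := N)
        le_normalizer_of_normal).mp (show x ∈ P ⊔ N from hPM ▸ hxb)
      have hcm : q * ((d ^ p ^ k : normalizer (P : Set G)) : G) =
          ((d ^ p ^ k : normalizer (P : Set G)) : G) * q :=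
        mem_centralizer_iff.mp (mem_subgroupOf.mp hk) q hq'
      rw [map_mul, show π n = 1 from (QuotientGroup.eq_one_iff n).mpr hn, mul_one]
      show π q * π _ = π _ * π q
      rw [← map_mul, ← map_mul]
      exact congrArg π hcm
    rw [← QuotientGroup.eq_one_iff (N := centralizer (Pb : Set (G ⧸ N)))] at hdC ⊢
    rw [QuotientGroup.mk_pow, QuotientGroup.mk_mul, (QuotientGroup.eq_one_iff c).mpr hc, mul_one,
      ← QuotientGroup.mk_pow]
    exact hdC

/-- Images of the centre of the abelian Thompson subgroup. -/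
theorem centerThompsonAOf_map {H : Type*} [Group H] [Finite H] (f : G →* H) (U : Subgroup G)
    (hf : ∀ x ∈ U, f x = 1 → x = 1) :
    Cfsg.centerThompsonAOf (U.map f) = (Cfsg.centerThompsonAOf U).map f := by
  rw [← famCenter_abelian_eq, ← famCenter_abelian_eq]
  have hinj : ∀ x ∈ U, ∀ y ∈ U, f x = f y → x = y := fun x hx y hy h =>
    inv_mul_eq_one.mp (hf _ (U.mul_mem (U.inv_mem hx) hy) (by simp [h]))
  have hpull : ∀ C : Subgroup H, C ≤ U.map f → (C.comap f ⊓ U).map f = C := by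
    intro C hC
    refine le_antisymm (map_le_iff_le_comap.mpr inf_le_left) fun y hy => ?_
    obtain ⟨x, hx, rfl⟩ := hC hy
    exact ⟨x, ⟨hy, hx⟩, rfl⟩
  have hcard : ∀ A : Subgroup G, A ≤ U → Nat.card (A.map f) = Nat.card A := by
    intro A hA
    refine (Nat.card_congr (Equiv.ofBijective (f.subgroupMap A)
      ⟨fun x y h => Subtype.ext (hinj _ (hA x.2) _ (hA y.2) (congrArg Subtype.val h)),
        f.subgroupMap_surjective A⟩)).symm
  have hcomm : ∀ A : Subgroup G, A ≤ U → (IsMulCommutative (A.map f) ↔ IsMulCommutative A) := by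
    refine fun A hA => ⟨fun h => ⟨⟨fun x y => Subtype.ext (hinj _ (hA (x * y).2) _
      (hA (y * x).2) ?_)⟩⟩, fun h => Subgroup.map_isMulCommutative A f⟩
    simpa using congrArg Subtype.val (h.is_comm.comm (f.subgroupMap A x) (f.subgroupMap A y))
  have hfam : ∀ A : Subgroup G, A ∈ fam (fun A : Subgroup G => IsMulCommutative A) U →
      A.map f ∈ fam (fun A : Subgroup H => IsMulCommutative A) (U.map f) := by
    intro A hA
    refine ⟨(hcomm A hA.2.1).mpr hA.1, map_mono hA.2.1, fun C hC hCU => ?_⟩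
    rw [hcard A hA.2.1, ← hpull C hCU, hcard _ inf_le_right]
    exact hA.2.2 _ ((hcomm _ inf_le_right).mp ((hpull C hCU).symm ▸ hC)) inf_le_right
  obtain ⟨A0, hA0⟩ := exists_fam admissible_abelian U
  refine le_antisymm (fun y hy => ?_) ?_
  · have hy0 := mem_sInf.mp hy _ (hfam A0 hA0)
    obtain ⟨x, hx, rfl⟩ := hy0
    refine ⟨x, mem_sInf.mpr fun A hA => ?_, rfl⟩
    obtain ⟨x', hx', hxx⟩ := mem_sInf.mp hy _ (hfam A hA)
    exact hinj _ (hA.2.1 hx') _ (hA0.2.1 hx) hxx ▸ hx'
  · rintro _ ⟨x, hx, rfl⟩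
    refine mem_sInf.mpr fun C hC => ?_
    rw [← hpull C hC.2.1]
    refine mem_map_of_mem f (mem_sInf.mp hx _ ⟨(hcomm _ inf_le_right).mp ((hpull C hC.2.1).symm ▸ hC.1),
      inf_le_right, fun B hB hBU => ?_⟩)
    rw [← hcard B hBU, ← hcard _ (inf_le_right : C.comap f ⊓ U ≤ U), hpull C hC.2.1]
    exact hC.2.2 _ ((hcomm B hBU).mpr hB) (map_mono hBU)

theorem sup_normalizer_centerThompsonAOf (hp : p ≠ 2) (hc : Cfsg.IsPConstrained p G)
    (hs : Cfsg.IsPStable p G) (S : Sylow p G) :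
    Cfsg.pPrimeCore p G ⊔ normalizer (Cfsg.centerThompsonAOf (S : Subgroup G) : Set G) = ⊤ := by
  set N := Cfsg.pPrimeCore p G with hN
  have hcop : (Nat.card N).Coprime p := Solvable.coprime_card_pPrimeCore p
  set π := QuotientGroup.mk' N with hπ
  have hinj : ∀ x ∈ (S : Subgroup G), π x = 1 → x = 1 := fun x hx h =>
    mem_bot.mp (isPGroup_inf_coprime S.2 hcop ▸
      (⟨hx, (QuotientGroup.eq_one_iff x).mp h⟩ : x ∈ (S : Subgroup G) ⊓ N))
  set Sb := S.mapSurjective (f := π) (QuotientGroup.mk'_surjective N) with hSb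
  have h1 : (famCenter (fun A : Subgroup (G ⧸ N) => IsMulCommutative A) (Sb : Subgroup (G ⧸ N))).Normal :=
    famCenter_normal hp admissible_abelian Sb _ (stronglyClosed_self Sb) (stableNormal_quotient hs)
      (centralizer_pCore_quotient_le hc)
  rw [famCenter_abelian_eq, show (Sb : Subgroup (G ⧸ N)) = (S : Subgroup G).map π from rfl,
    centerThompsonAOf_map π _ hinj] at h1
  set Z := Cfsg.centerThompsonAOf (S : Subgroup G) with hZ
  have hZS : Z ≤ S := by
    rw [hZ, ← famCenter_abelian_eq]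
    exact famCenter_le admissible_abelian _
  have hcm : (Z.map π).comap π = Z ⊔ N := by rw [comap_map_eq, QuotientGroup.ker_mk']
  rw [eq_top_iff]
  intro g _
  have hg : g ∈ normalizer ((Z ⊔ N : Subgroup G) : Set G) := by
    rw [← hcm, normalizer_eq_top (H := (Z.map π).comap π)]
    exact mem_top g
  obtain ⟨n, hn, hng⟩ := exists_mul_mem_normalizer (S.2.to_le hZS) hcop hg
  rw [show g = n⁻¹ * (n * g) by group]
  exact mul_mem (mem_sup_left (inv_mem hn)) (mem_sup_right hng)

end CfsgLib.ZJ
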