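import Cfsg.Agent.ZJ.ZKinds

/-!
The ZJ theorem for the full centre of the elementary abelian Thompson subgroup.
-/

set_option autoImplicit false
set_option linter.style.haveILetI false

namespace CfsgLib.ZJ

open Subgroup CfsgLib.Functor
open scoped CfsgLib.Functor commutatorElement

universe u

variable {G : Type u} [Group G] [Finite G] {p : ℕ} [Fact p.Prime]

omit [Finite G] [Fact p.Prime] in
theorem thompsonSubgroupOf_eq_fam (U : Subgroup G) :
    Cfsg.thompsonSubgroupOf p U =
      sSup (fam (fun A : Subgroup G => Cfsg.IsElementaryAbelian p A) U) := by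
  rw [Thompson.thompsonSubgroupOf_eq]
  refine congrArg sSup (Set.ext fun A => ?_)
  exact ⟨fun h => ⟨h.2.1, h.1, fun B hB hBU => h.2.2 B hBU hB⟩,
    fun h => ⟨h.2.1, h.1, fun B hBU hB => h.2.2 B hB hBU⟩⟩

omit [Finite G] [Fact p.Prime] in
theorem centerThompsonOf_commute {U A : Subgroup G}
    (hA : A ∈ fam (fun A : Subgroup G => Cfsg.IsElementaryAbelian p A) U) {z a : G}
    (hz : z ∈ Cfsg.centerThompsonOf p U) (ha : a ∈ A) : a * z = z * a :=
  mem_centralizer_iff.mp hz.2 a (by rw [SetLike.mem_coe, thompsonSubgroupOf_eq_fam]; exact le_sSup hA ha)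

omit [Finite G] in
theorem normalizer_le_centerThompsonOf (U : Subgroup G) :
    normalizer (U : Set G) ≤ normalizer ((Cfsg.centerThompsonOf p U : Subgroup G) : Set G) := by
  intro g hg
  rw [mem_normalizer_iff_cj] at hg ⊢
  rw [← centerThompsonOf_map _ (MulAut.conj g).injective, hg]

/-- **The ZJ theorem** for the centre of the elementary abelian Thompson subgroup. -/
theorem inf_centerThompsonOf_normal (hp : p ≠ 2) (S : Sylow p G) (D : Subgroup G)
    (hD : Cfsg.IsStronglyClosed D (S : Subgroup G)) (hst : StableNormal p G) :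
    ∀ B : Subgroup G, B.Normal → IsPGroup p B → (B ⊓ Cfsg.centerThompsonOf p D).Normal := by
  set Q := fun A : Subgroup G => Cfsg.IsElementaryAbelian p A with hQdef
  have hQ : Admissible Q := admissible_elab hp
  set Z := Cfsg.centerThompsonOf p D with hZ
  have hSD : (S : Subgroup G) ≤ normalizer (D : Set G) := by
    intro s hs
    rw [mem_normalizer_iff]
    intro x
    refine ⟨fun hx => hD.2 x hx s (mul_mem (mul_mem hs (hD.1 hx)) (inv_mem hs)), fun hx => ?_⟩
    have := hD.2 _ hx s⁻¹ (mul_mem (mul_mem (inv_mem hs) (hD.1 hx)) (by simpa using hs))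
    simpa [mul_assoc] using this
  have hSZ : (S : Subgroup G) ≤ normalizer (Z : Set G) := hSD.trans (normalizer_le_centerThompsonOf D)
  have hZD : Z ≤ D := centerThompsonOf_le D
  intro B hBn hBp
  obtain ⟨n, hn⟩ : ∃ n, Nat.card B = n := ⟨_, rfl⟩
  induction n using Nat.strong_induction_on generalizing B with
  | _ n ih =>
    subst hn
    set Y := B ⊓ Z with hY
    set B1 := normalClosure (Y : Set G) with hB1
    by_contra hnot
    have hB1B : B1 ≤ B := normalClosure_le_normal (fun x hx => hx.1)
    have hB1eq : B1 = B := by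
      by_contra hne
      apply hnot
      have h1 := ih _ (Solvable.card_lt_of_lt (lt_of_le_of_ne hB1B hne)) B1 normalClosure_normal
        (hBp.to_le hB1B) rfl
      rwa [le_antisymm (inf_le_inf_right Z hB1B)
        (le_inf subset_normalClosure inf_le_right)] at h1
    have hBS : B ≤ S := by
      obtain ⟨R, hR⟩ := hBp.exists_le_sylow
      obtain ⟨g, rfl⟩ := MulAction.exists_smul_eq G R S
      intro x hx
      rw [Sylow.coe_subgroup_smul]
      exact ⟨g⁻¹ * x * g, hR (by simpa using hBn.conj_mem x hx g⁻¹), by simp [mul_assoc]⟩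
    have hSY : (S : Subgroup G) ≤ normalizer (Y : Set G) := by
      intro s hs
      rw [mem_normalizer_iff]
      intro x
      exact and_congr ⟨fun h => hBn.conj_mem x h s, fun h => by
        have := hBn.conj_mem _ h s⁻¹
        simpa [mul_assoc] using this⟩ (mem_normalizer_iff.mp (hSZ hs) x)
    -- the derived group of `B` is central in `B` and lies in `Z`
    have hB'lt : B ≠ ⊥ → ⁅B, B⁆ < B := by
      intro hB0
      haveI := hBp.isNilpotent
      haveI : Nontrivial B := (nontrivial_iff_ne_bot B).2 hB0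
      have h := Group.IsSolvable.commutator_lt_top_of_nontrivial B
      rw [← map_subtype_lt_map_subtype, map_subtype_commutator] at h
      rwa [← MonoidHom.range_eq_map, range_subtype] at h
    have hB0 : B ≠ ⊥ := by
      intro h0
      apply hnot
      have : Y = ⊥ := le_bot_iff.mp (inf_le_left.trans h0.le)
      rw [this]
      infer_instance
    have hB'n : (⁅B, B⁆ ⊓ Z).Normal :=
      ih _ (Solvable.card_lt_of_lt (hB'lt hB0)) _ inferInstance (hBp.to_le (commutator_le_self B)) rfl
    have hYB : ∀ y ∈ Y, ∀ x ∈ B, ⁅x, y⁆ ∈ ⁅B, B⁆ ⊓ Z := by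
      intro y hy x hx
      refine ⟨commutator_mem_commutator hx hy.1, ?_⟩
      rw [commutatorElement_def]
      exact Z.mul_mem ((mem_normalizer_iff.mp (hSZ (hBS hx)) y).mp hy.2) (Z.inv_mem hy.2)
    have hB'Z : ⁅B, B⁆ ≤ Z := by
      have h1 : B ≤ (centralizer ((B.map (QuotientGroup.mk' (⁅B, B⁆ ⊓ Z)) : Subgroup _) : Set _)).comap
          (QuotientGroup.mk' (⁅B, B⁆ ⊓ Z)) := by
        haveI := hB'n
        haveI : (B.map (QuotientGroup.mk' (⁅B, B⁆ ⊓ Z))).Normal :=
          hBn.map _ (QuotientGroup.mk'_surjective _)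
        conv_lhs => rw [← hB1eq]
        refine normalClosure_le_normal fun y hy => ?_
        rw [SetLike.mem_coe, mem_comap, mem_centralizer_iff]
        rintro _ ⟨x, hx, rfl⟩
        rw [← commutatorElement_eq_one_iff_mul_comm, ← map_commutatorElement]
        exact (QuotientGroup.eq_one_iff _).mpr (hYB y hy x hx)
      refine (commutator_le.mpr fun x hx y hy => ?_).trans (inf_le_right (a := ⁅B, B⁆))
      haveI := hB'n
      refine (QuotientGroup.eq_one_iff _).mp ?_
      rw [← QuotientGroup.mk'_apply (N := ⁅B, B⁆ ⊓ Z), map_commutatorElement,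
        commutatorElement_eq_one_iff_mul_comm]
      exact mem_centralizer_iff.mp (h1 hy) _ (mem_map_of_mem _ hx)
    have hB'cent : ⁅⁅B, B⁆, B⁆ = ⊥ := by
      rw [commutator_eq_bot_iff_le_centralizer]
      intro c hc
      rw [mem_centralizer_iff]
      intro x hx
      haveI : (⁅B, B⁆).Normal := inferInstance
      have h1 : B1 ≤ centralizer ((⁅B, B⁆ : Subgroup G) : Set G) := normalClosure_le_normal fun y hy =>
        mem_centralizer_iff.mpr fun d hd => centerThompsonOf_comm (hB'Z hd) hy.2
      exact (mem_centralizer_iff.mp (h1 (hB1eq.symm ▸ hx)) c hc).symm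
    -- the largest normal subgroup normalizing `Y`
    set N := normalizer (Y : Set G) with hN
    set L := N.normalCore with hL
    have hLN : L ≤ N := normalCore_le N
    have hBL : B ≤ L := normal_le_normalCore.mpr (hBS.trans hSY)
    have hSL : IsSylowIn p ((S : Subgroup G) ⊓ L) L :=
      (isSylowIn_top S).inf_normal le_top (by rw [normalizer_eq_top (H := L)])
    have hfrat : ∀ g : G, ∃ l ∈ L, ∃ m ∈ normalizer (((D ⊓ L : Subgroup G)) : Set G), g = m * l := by
      intro g
      obtain ⟨k, hk, hkeq⟩ := hSL.exists_cj_eq (hSL.cj_of_mem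
        (g := g) (by rw [normalizer_eq_top (H := L)]; exact mem_top g))
      rw [cj_cj, ← mem_normalizer_iff_cj] at hkeq
      refine ⟨g⁻¹ * k⁻¹ * g, ?_, k * g, ?_, by group⟩
      · simpa using (normalCore_normal N).conj_mem _ (inv_mem hk) g⁻¹
      have hstep : ∀ m ∈ normalizer (((S : Subgroup G) ⊓ L : Subgroup G) : Set G),
          ∀ x ∈ D ⊓ L, m * x * m⁻¹ ∈ D ⊓ L := fun m hm x hx =>
        have h := (mem_normalizer_iff.mp hm x).mp ⟨hD.1 hx.1, hx.2⟩
        ⟨hD.2 x hx.1 m h.1, h.2⟩
      rw [mem_normalizer_iff]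
      intro x
      refine ⟨hstep _ hkeq x, fun hx => ?_⟩
      have := hstep _ (inv_mem hkeq) _ hx
      simpa [mul_assoc] using this
    have hfam : ∀ A ∈ fam Q D, A ≤ L → fam Q (D ⊓ L) ⊆ fam Q D := fun A hA hAL C hC =>
      ⟨hC.1, hC.2.1.trans inf_le_left, fun E hE hED =>
        (hA.2.2 E hE hED).trans (hC.2.2 A hA.1 (le_inf hA.2.1 hAL))⟩
    have hmem : ∀ A ∈ fam Q D, A ≤ L → A ∈ fam Q (D ⊓ L) := fun A hA hAL =>
      ⟨hA.1, le_inf hA.2.1 hAL, fun E hE hEU => hA.2.2 E hE (hEU.trans inf_le_left)⟩
    -- some member of largest order is not in `L`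
    obtain ⟨A1, hA1, hA1L⟩ : ∃ A ∈ fam Q D, ¬ A ≤ L := by
      by_contra hcon
      push Not at hcon
      apply hnot
      obtain ⟨A1, hA1⟩ := exists_fam hQ D
      have hZeq : Cfsg.centerThompsonOf p (D ⊓ L) = Z := by
        have hJ : Cfsg.thompsonSubgroupOf p (D ⊓ L) = Cfsg.thompsonSubgroupOf p D := by
          rw [thompsonSubgroupOf_eq_fam, thompsonSubgroupOf_eq_fam]
          exact le_antisymm (sSup_le_sSup (hfam A1 hA1 (hcon A1 hA1)))
            (sSup_le_sSup fun A hA => hmem A hA (hcon A hA))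
        rw [hZ, Cfsg.centerThompsonOf, Cfsg.centerThompsonOf, hJ]
      rw [← normalizer_eq_top_iff, eq_top_iff]
      intro g _
      obtain ⟨l, hl, m, hm, rfl⟩ := hfrat g
      refine mul_mem ?_ (hLN hl)
      have hmZ := normalizer_le_centerThompsonOf (p := p) _ hm
      rw [hZeq] at hmZ
      rw [mem_normalizer_iff]
      intro x
      exact and_congr ⟨fun h => hBn.conj_mem x h m, fun h => by
        have := hBn.conj_mem _ h m⁻¹
        simpa [mul_assoc] using this⟩ (mem_normalizer_iff.mp hmZ x)
    obtain ⟨A, ⟨hA, hAL⟩, hmax⟩ := Set.exists_max_image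
      {A : Subgroup G | A ∈ fam Q D ∧ ¬ A ≤ L} (fun A => Nat.card ↥(A ⊓ B)) (Set.toFinite _)
      ⟨A1, hA1, hA1L⟩
    have hAS : A ≤ S := hA.2.1.trans hD.1
    have hAc : ∀ x ∈ A, ∀ y ∈ A, x * y = y * x := fun x hx y hy => Thompson.elab_commute hA.1 hx hy
    -- no normal subgroup acting on `B` as a p-group contains `A`
    have habs : ¬ ∀ a ∈ A, ∃ K : Subgroup G, K.Normal ∧ a ∈ K ∧
        ∀ x ∈ K, ∃ k, x ^ p ^ k ∈ centralizer (B : Set G) := by
      intro hall
      refine hAL fun a ha => ?_
      obtain ⟨K, hKn, haK, hKp⟩ := hall a ha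
      have hKN : K ≤ N := by
        refine le_of_sylowIn_of_mod ((isSylowIn_top S).inf_normal le_top
          (by rw [normalizer_eq_top (H := K)])) hKp (inf_le_left.trans hSY) ?_
        intro c hc
        rw [hN, mem_normalizer_iff]
        intro x
        constructor
        · intro hx
          rwa [← mem_centralizer_iff.mp hc.2 x hx.1, mul_inv_cancel_right]
        · intro hx
          have := mem_centralizer_iff.mp hc.2 _ hx.1
          rw [inv_mul_cancel_right] at this
          rwa [← mul_left_cancel this] at hx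
      exact (normal_le_normalCore.mpr hKN : K ≤ L) haK
    -- quadratic action on a subgroup normalizing `A`
    have hquad : ∀ C : Subgroup G, C ≤ normalizer (A : Set G) → ∀ a ∈ A,
        ⁅⁅C, zpowers a⁆, zpowers a⁆ = ⊥ := by
      intro C hC a ha
      have h1 : ⁅C, zpowers a⁆ ≤ A := by
        rw [commutator_le]
        intro x hx y hy
        have hy' := zpowers_le.mpr ha hy
        rw [commutatorElement_def]
        exact A.mul_mem ((mem_normalizer_iff.mp (hC hx) y).mp hy') (A.inv_mem hy')
      refine le_bot_iff.mp ((commutator_mono h1 (zpowers_le.mpr ha)).trans (le_of_eq ?_))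
      rw [commutator_eq_bot_iff_le_centralizer]
      exact fun x hx => mem_centralizer_iff.mpr fun y hy => hAc y hy x hx
    have hBA : ¬ B ≤ normalizer (A : Set G) := fun hle =>
      habs fun a ha => hst B hBp a (hquad B hle a ha)
    -- the abelian subgroup `A Z`
    set M := A ⊔ Z with hM
    have hMc : IsMulCommutative M := by
      rw [hM, sup_eq_closure]
      refine Subgroup.isMulCommutative_closure ?_
      rintro x (hx | hx) y (hy | hy)
      · exact hAc x hx y hy
      · exact centerThompsonOf_commute hA hy hx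
      · exact (centerThompsonOf_commute hA hx hy).symm
      · exact centerThompsonOf_comm hx hy
    have hMD : M ≤ D := sup_le hA.2.1 hZD
    have hMA : normalizer (M : Set G) ≤ normalizer (A : Set G) := by
      intro g hg
      have hel : Cfsg.IsElementaryAbelian p (Cfsg.omegaOne p M) := Thompson.elab_omegaOne
        fun x hx y hy => congrArg Subtype.val (hMc.is_comm.comm ⟨x, hx⟩ ⟨y, hy⟩)
      have heq : A = Cfsg.omegaOne p M := Solvable.eq_of_le_of_card_le
        (fun x hx => Thompson.mem_omegaOne (mem_sup_left hx) (hA.1.2 x hx))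
        (hA.2.2 _ hel ((Thompson.omegaOne_le M).trans hMD))
      rw [mem_normalizer_iff_cj] at hg ⊢
      rw [heq]
      conv_rhs => rw [← hg]
      exact Thompson.map_omegaOne (MulAut.conj g).toMonoidHom (MulAut.conj g).injective M
    obtain ⟨b, R, hb, hbM⟩ := exists_replacement_in
      (S.2.to_le (sup_le (hMD.trans hD.1) hBS)) hMc (hB'Z.trans le_sup_right)
      (by rw [normalizer_eq_top (H := B)]; exact le_top) (fun h => hBA (h.trans hMA))
    have hodd : Odd (orderOf b) := by
      obtain ⟨k, hk⟩ := IsPGroup.iff_orderOf.mp hBp ⟨b, hb⟩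
      rw [show orderOf b = p ^ k by simpa using hk]
      exact ((Fact.out : p.Prime).odd_of_ne_two hp).pow
    have hpodd : Odd p := (Fact.out : p.Prime).odd_of_ne_two hp
    set M' := repl M b with hM'
    have hM'D : M' ≤ D := (repl_le_sup M b).trans (sup_le hMD (by
      rintro _ ⟨a, ha, rfl⟩
      have := (mem_normalizer_iff.mp (hSD (inv_mem (hBS hb))) a).mp (hMD ha)
      simpa using this))
    have hM'c := R.isMulCommutative_repl (Or.inl hodd)
    set A' := Cfsg.omegaOne p M' with hA'def
    have hA'el : Cfsg.IsElementaryAbelian p A' := Thompson.elab_omegaOne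
      fun x hx y hy => congrArg Subtype.val (hM'c.is_comm.comm ⟨x, hx⟩ ⟨y, hy⟩)
    have hA' : A' ∈ fam Q D := ⟨hA'el, (Thompson.omegaOne_le M').trans hM'D, fun C hC hCD =>
      ((hA.2.2 C hC hCD).trans (card_le_of_le fun x hx =>
        Thompson.mem_omegaOne (mem_sup_left hx) (hA.1.2 x hx))).trans
        (R.card_omegaOne_le (Or.inl hodd) hpodd)⟩
    have hA'A : A' ≤ normalizer (A : Set G) :=
      (Thompson.omegaOne_le M').trans (R.repl_le_normalizer.trans hMA)
    -- `b` moves `A`
    have hbA : b ∉ normalizer (A : Set G) := by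
      intro h
      apply hbM
      rw [mem_normalizer_iff_cj, hM, Subgroup.map_sup, mem_normalizer_iff_cj.mp h,
        mem_normalizer_iff_cj.mp (hSZ (hBS hb))]
    have hA'L : A' ≤ L := by
      by_contra hnL
      refine absurd (hmax _ ⟨hA', hnL⟩) (not_le.mpr (Solvable.card_lt_of_lt (lt_of_le_of_ne
        (fun x hx => ⟨Thompson.mem_omegaOne (R.inf_le_repl inf_le_left ⟨mem_sup_left hx.1, hx.2⟩)
          (hA.1.2 x hx.1), hx.2⟩) fun heq => hbA ?_)))
      have hle : b⁻¹ ⋆ A ≤ A := by
        rintro _ ⟨a, ha, rfl⟩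
        have hk : a * b⁻¹ * a⁻¹ * b ∈ A ⊓ B := heq ▸ ⟨Thompson.mem_omegaOne
          (kappa_mem_repl (mem_sup_left ha))
          (R.kappa_pow_eq_one p hpodd (mem_sup_left ha) (hA.1.2 a ha)),
          R.kappa_mem (mem_sup_left ha)⟩
        have h2 := A.mul_mem (A.inv_mem hk.1) ha
        simpa [mul_assoc] using h2
      exact (inv_mem_iff (x := b)).mp
        (mem_normalizer_iff_cj.mpr (eq_of_le_of_card_le' hle (card_cj _ _).ge))
    -- `B` centralizes the Thompson subgroup of `D ∩ L`
    set JL := Cfsg.thompsonSubgroupOf p (D ⊓ L) with hJL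
    have hBX : B ≤ (D ⊓ L) ⊓ centralizer (JL : Set G) := by
      have hYX : Y ≤ centralizer (JL : Set G) := by
        intro y hy
        have h1 : JL ≤ centralizer {y} := by
          rw [hJL, thompsonSubgroupOf_eq_fam]
          exact sSup_le fun C hC c hc => mem_centralizer_singleton_iff.mpr
            (centerThompsonOf_commute (hfam _ hA' hA'L hC) hy.2 hc)
        exact mem_centralizer_iff.mpr fun j hj => mem_centralizer_singleton_iff.mp (h1 hj)
      rw [← hB1eq]
      refine (closure_le _).mpr fun z hz => ?_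
      obtain ⟨y, hy, hyz⟩ := Group.mem_conjugatesOfSet_iff.mp hz
      obtain ⟨g, rfl⟩ := isConj_iff.mp hyz
      obtain ⟨l, hl, m, hm, rfl⟩ := hfrat g
      have hy' : l * y * l⁻¹ ∈ Y := (mem_normalizer_iff.mp (hLN hl) y).mp hy
      refine ⟨?_, ?_⟩
      · have h2 := (mem_normalizer_iff.mp hm _).mp ⟨hZD hy'.2, hBL hy'.1⟩
        simpa [mul_assoc] using h2
      · refine mem_centralizer_iff.mpr fun j hj => ?_
        have hm' := mem_normalizer_iff.mp
          (Thompson.normalizer_le_normalizer_thompsonSubgroupOf (p := p) _ (inv_mem hm)) j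
        have h3 := mem_centralizer_iff.mp (hYX hy') _ (hm'.mp hj)
        calc j * (m * l * y * (m * l)⁻¹) =
            m * ((m⁻¹ * j * m⁻¹⁻¹) * (l * y * l⁻¹)) * m⁻¹ := by group
          _ = m * ((l * y * l⁻¹) * (m⁻¹ * j * m⁻¹⁻¹)) * m⁻¹ := by rw [h3]
          _ = _ := by group
    have hA'J : A' ≤ JL := by
      rw [hJL, thompsonSubgroupOf_eq_fam]
      exact le_sSup (hmem _ hA' hA'L)
    set B0 := Cfsg.omegaOne p B with hB0def
    have hB0A : B0 ≤ A' := by
      refine (closure_le _).mpr fun x hx => ?_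
      have hsup := Thompson.elab_sup hA'el (Thompson.elab_zpowers hx.2) (fun a ha =>
        mem_centralizer_iff.mpr fun w hw => by
          obtain ⟨i, rfl⟩ := hw
          exact (show Commute a x from mem_centralizer_iff.mp (hBX hx.1).2 a (hA'J ha)).zpow_right i
            |>.eq.symm)
      rw [SetLike.mem_coe, Solvable.eq_of_le_of_card_le (le_sup_left : A' ≤ A' ⊔ zpowers x)
        (hA'.2.2 _ hsup (sup_le hA'.2.1 (zpowers_le.mpr (hBX hx.1).1.1)))]
      exact mem_sup_right (mem_zpowers x)
    -- `p`-th powers lie in `Z`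
    have hbr : ∀ x ∈ B, ∀ y ∈ B, ∀ z ∈ B, Commute ⁅x, y⁆ z := fun x hx y hy z hz =>
      (mem_centralizer_iff.mp (commutator_eq_bot_iff_le_centralizer.mp hB'cent
        (commutator_mem_commutator hx hy)) z hz).symm
    have hpowmul : ∀ x ∈ B, ∀ y ∈ B, (x * y) ^ p =
        (⁅y, x⁆ ^ p) ^ ((p - 1) / 2) * (x ^ p * y ^ p) := by
      intro x hx y hy
      rw [mul_pow_of_central (z := ⁅y, x⁆) (by simp [commutatorElement_def, mul_assoc])
        (hbr y hy x hx x hx) (hbr y hy x hx y hy) p, ← pow_mul]
      congr 2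
      rw [Nat.choose_two_right]
      obtain ⟨m, hm⟩ := hpodd
      rw [hm, show 2 * m + 1 - 1 = 2 * m by omega, Nat.mul_div_assoc _ (Dvd.intro m rfl),
        Nat.mul_div_cancel_left m two_pos]
    set Bp := closure {z : G | ∃ x ∈ B, x ^ p = z} with hBpdef
    have hBpB : Bp ≤ B := (closure_le _).mpr fun z ⟨x, hx, hxz⟩ => hxz ▸ pow_mem hx p
    have hBpn : Bp.Normal := by
      rw [← normalizer_eq_top_iff, eq_top_iff]
      intro g _
      rw [mem_normalizer_iff_cj]
      refine eq_of_le_of_card_le' ?_ (card_cj _ _).ge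
      rw [hBpdef, MonoidHom.map_closure]
      refine closure_mono ?_
      rintro _ ⟨_, ⟨x, hx, rfl⟩, rfl⟩
      exact ⟨g * x * g⁻¹, hBn.conj_mem x hx g, by simp [conj_pow]⟩
    have hBplt : Bp < B := by
      refine lt_of_le_of_ne hBpB fun heq => ?_
      haveI := hBp.isNilpotent
      haveI : Nontrivial B := (nontrivial_iff_ne_bot B).2 hB0
      let π := (Abelianization.of : B →* Abelianization B)
      have hsurj : Function.Surjective π := QuotientGroup.mk'_surjective _
      have hpw : ∀ x : Abelianization B, ∃ y, y ^ p = x := by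
        intro x
        obtain ⟨x, rfl⟩ := hsurj x
        obtain ⟨x, hx⟩ := x
        have hx' : x ∈ Bp := heq.symm ▸ hx
        have key : Bp ≤ (((powMonoidHom p : Abelianization B →* _).range).comap π).map B.subtype :=
          (closure_le _).mpr fun z ⟨w, hw, hwz⟩ =>
            ⟨⟨z, hwz ▸ pow_mem hw p⟩, ⟨π ⟨w, hw⟩, by
              show π ⟨w, hw⟩ ^ p = _
              rw [← map_pow]
              exact congrArg π (Subtype.ext hwz)⟩, rfl⟩
        obtain ⟨w, ⟨v, hv⟩, hwx⟩ := key hx'
        exact ⟨v, hv.trans (congrArg π (Subtype.ext hwx))⟩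
      have hne : Nat.card (Abelianization B) ≠ 1 := by
        intro h1
        haveI : Subsingleton (B ⧸ commutator B) := (Nat.card_eq_one_iff_unique.mp h1).1
        have h2 : ∀ x : B, x ∈ commutator B := fun x =>
          (QuotientGroup.eq_one_iff x).mp (Subsingleton.elim _ _)
        exact (Group.IsSolvable.commutator_lt_top_of_nontrivial B).ne (eq_top_iff.mpr fun x _ => h2 x)
      obtain ⟨k, hk⟩ := (IsPGroup.iff_card.1 (hBp.to_quotient (commutator B)))
      obtain ⟨y, hy⟩ := exists_prime_orderOf_dvd_card' (G := Abelianization B) p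
        (by
          show p ∣ Nat.card (B ⧸ commutator B)
          rw [hk]
          exact dvd_pow_self p fun h0 => hne (by
            show Nat.card (B ⧸ commutator B) = 1
            rw [hk, h0, pow_zero]))
      have hinj : Function.Injective (powMonoidHom p : Abelianization B →* _) :=
        Finite.injective_iff_surjective.mpr hpw
      have h1 := hinj (show powMonoidHom p y = powMonoidHom p 1 by
        simpa [hy] using pow_orderOf_eq_one y)
      rw [h1, orderOf_one] at hy
      exact (Fact.out : p.Prime).one_lt.ne hy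
    have hW : (Bp ⊓ Z).Normal :=
      ih _ (Solvable.card_lt_of_lt hBplt) _ hBpn (hBp.to_le hBpB) rfl
    have hcomW : ∀ x ∈ B, ∀ y ∈ B, ⁅x, y⁆ ^ p ∈ Bp ⊓ Z := fun x hx y hy =>
      ⟨subset_closure ⟨_, commutator_le_self B (commutator_mem_commutator hx hy), rfl⟩,
        pow_mem (hB'Z (commutator_mem_commutator hx hy)) p⟩
    have hpZ : ∀ x ∈ B, x ^ p ∈ Bp ⊓ Z := by
      let U : Subgroup G :=
        { carrier := {x | x ∈ B ∧ x ^ p ∈ Bp ⊓ Z}
          one_mem' := ⟨one_mem B, by simp⟩
          mul_mem' := fun {x y} hx hy => ⟨mul_mem hx.1 hy.1, by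
            rw [hpowmul x hx.1 y hy.1]
            exact mul_mem (pow_mem (hcomW y hy.1 x hx.1) _) (mul_mem hx.2 hy.2)⟩
          inv_mem' := fun {x} hx => ⟨inv_mem hx.1, by rw [inv_pow]; exact inv_mem hx.2⟩ }
      intro x hx
      refine ((?_ : B1 ≤ U) (hB1eq.symm ▸ hx)).2
      refine (closure_le _).mpr fun z hz => ?_
      obtain ⟨y, hy, hyz⟩ := Group.mem_conjugatesOfSet_iff.mp hz
      obtain ⟨g, rfl⟩ := isConj_iff.mp hyz
      refine ⟨hBn.conj_mem y hy.1 g, ?_⟩
      rw [conj_pow]
      exact hW.conj_mem _ ⟨subset_closure ⟨y, hy.1, rfl⟩, pow_mem hy.2 p⟩ g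
    apply habs
    intro a ha
    -- `a` centralizes `B` modulo its elements of order `p`
    have hstep : ∀ x ∈ B, a * x * a⁻¹ * x⁻¹ ∈ B0 := by
      intro x hx
      set c := a * x * a⁻¹ * x⁻¹ with hc
      have hcB : c ∈ B := mul_mem (hBn.conj_mem x hx a) (inv_mem hx)
      have h1 : (c * x) ^ p = x ^ p := by
        rw [hc, inv_mul_cancel_right, conj_pow]
        rw [centerThompsonOf_commute hA (hpZ x hx).2 ha, mul_inv_cancel_right]
      rw [hpowmul c hcB x hx] at h1
      set z := ⁅x, c⁆ with hz
      have h2 : c ^ p = ((z ^ p) ^ ((p - 1) / 2))⁻¹ := by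
        rw [← mul_assoc, mul_eq_right] at h1
        exact eq_inv_of_mul_eq_one_right h1
      have hzc : Commute z c := hbr x hx c hcB c hcB
      have hzp : z ^ p = 1 := by
        have hj : ∀ j : ℕ, ⁅x, c ^ j⁆ = z ^ j := by
          intro j
          induction j with
          | zero => simp
          | succ j ih =>
            have h4 : c ^ j * z * (c ^ j)⁻¹ = z := by
              rw [← (hzc.pow_right j).eq, mul_inv_cancel_right]
            rw [pow_succ, pow_succ, ← ih,
              show ⁅x, c ^ j * c⁆ = ⁅x, c ^ j⁆ * (c ^ j * ⁅x, c⁆ * (c ^ j)⁻¹) by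
                simp [commutatorElement_def, mul_assoc], ← hz, h4]
        rw [← hj, h2, commutatorElement_eq_one_iff_mul_comm]
        exact (((hbr x hx c hcB x hx).pow_left p).pow_left ((p - 1) / 2)).inv_left.eq.symm
      exact Thompson.mem_omegaOne hcB (by rw [h2, hzp, one_pow, inv_one])
    haveI hB0n : B0.Normal := by
      rw [← normalizer_eq_top_iff, eq_top_iff]
      intro g _
      rw [mem_normalizer_iff_cj, hB0def,
        Thompson.map_omegaOne (MulAut.conj g).toMonoidHom (MulAut.conj g).injective,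
        mem_normalizer_iff_cj.mp (show g ∈ normalizer (B : Set G) by
          rw [normalizer_eq_top (H := B)]; exact mem_top g)]
    obtain ⟨K1, hK1n, haK1, hK1p⟩ := hst B0 (hBp.to_le (Thompson.omegaOne_le B)) a
      (hquad B0 (hB0A.trans hA'A) a ha)
    set π := QuotientGroup.mk' B0 with hπ
    haveI : (B.map π).Normal := hBn.map π (QuotientGroup.mk'_surjective B0)
    refine ⟨K1 ⊓ (centralizer ((B.map π : Subgroup _) : Set (G ⧸ B0))).comap π, inferInstance,
      ⟨haK1, ?_⟩, fun x hx => ?_⟩
    · refine mem_centralizer_iff.mpr ?_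
      rintro _ ⟨u, hu, rfl⟩
      have := (QuotientGroup.eq_one_iff _).mpr (hstep u hu)
      have h' : π (a * u * a⁻¹ * u⁻¹) = 1 := this
      rw [map_mul, map_mul, map_mul, map_inv, map_inv, mul_inv_eq_one, mul_inv_eq_iff_eq_mul] at h'
      exact h'.symm
    · obtain ⟨k, hk⟩ := hK1p x hx.1
      obtain ⟨j, hj⟩ := pow_mem_centralizer_of_step (hBp.to_le (Thompson.omegaOne_le B)) hk
        (B := B) (fun u hu => by
          refine (QuotientGroup.eq_one_iff _).mp ?_
          have hc := mem_centralizer_iff.mp (pow_mem (hx.2) (p ^ k) : π x ^ p ^ k ∈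
            centralizer ((B.map π : Subgroup _) : Set (G ⧸ B0))) _ (mem_map_of_mem π hu)
          show π (x ^ p ^ k * u * (x ^ p ^ k)⁻¹ * u⁻¹) = 1
          rw [map_mul, map_mul, map_mul, map_inv, map_inv, map_pow]
          rw [map_pow] at hc
          rw [← hc, mul_inv_cancel_right,
            mul_inv_cancel])
      exact ⟨k + j, by rw [pow_add, pow_mul]; exact hj⟩

theorem zkind_centerThompsonOf.{v} (hp : p ≠ 2) :
    ZKind.{v} p (fun _ _ U => Cfsg.centerThompsonOf p U) where
  map _ _ _ _ _ _ f U hf := centerThompsonOf_map f hf U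
  le _ _ _ U := centerThompsonOf_le U
  comm _ _ _ _ x hx y hy := centerThompsonOf_comm hx hy
  ne_bot _ _ _ _ hU h := fun h0 => omega_centerThompsonOf_ne_bot hU h
    (le_bot_iff.mp ((Thompson.omegaOne_le _).trans h0.le))
  inter_normal _ _ _ S D hD hst B hBn hBp := inf_centerThompsonOf_normal hp S D hD hst B hBn hBp

end CfsgLib.ZJ
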