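import Cfsg.Agent.ZJ.PStable
import Cfsg.Prelude.Def_Local

/-!
Forms of p-stability in groups without Qd(p) section, and the instability of Qd(p).
-/

set_option autoImplicit false

namespace CfsgLib.ZJ

open Subgroup

variable {G : Type*} [Group G] [Finite G] {p : ℕ} [Fact p.Prime]

theorem isPStableOn_of_free (hp : p ≠ 2) (hfree : ¬ Cfsg.Involves ↥(Cfsg.qd p) G)
    (P : Subgroup G) [P.Normal] (hP : IsPGroup p P) : Cfsg.IsPStableOn p P := fun a ha =>
  (pcoreMod_iff _ a).mp (pcoreMod_of_quadratic hp hfree P hP a ha)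

theorem isNormalizerPStable_of_free (hp : p ≠ 2) (hfree : ¬ Cfsg.Involves ↥(Cfsg.qd p) G) :
    Cfsg.IsNormalizerPStable p G := by
  intro P hP g hg hq
  set N := normalizer (P : Set G) with hN
  have hPn : (P.subgroupOf N).Normal := (normal_subgroupOf_iff_le_normalizer le_normalizer).2 le_rfl
  have hz : (zpowers (⟨g, hg⟩ : N)).map N.subtype = zpowers g := MonoidHom.map_zpowers _ _
  have hPm : (P.subgroupOf N).map N.subtype = P := map_subgroupOf_eq_of_le le_normalizer
  have hq' : ⁅⁅P.subgroupOf N, zpowers (⟨g, hg⟩ : N)⁆, zpowers (⟨g, hg⟩ : N)⁆ = ⊥ := by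
    apply Subgroup.map_injective N.subtype_injective
    rw [map_commutator, map_commutator, hz, hPm, hq, Subgroup.map_bot]
  have h1 := pcoreMod_of_quadratic hp (fun h => hfree (involves_of_subgroup N h)) (P.subgroupOf N)
    (hP.of_equiv (subgroupOfEquivOfLe le_normalizer).symm) ⟨g, hg⟩ hq'
  refine (pcoreMod_iff _ _).mp (h1.mono fun x hx => ?_)
  rw [mem_subgroupOf, mem_centralizer_iff]
  intro y hy
  exact congrArg Subtype.val
    (mem_centralizer_iff.mp hx ⟨y, le_normalizer hy⟩ (mem_subgroupOf.mpr hy))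

omit [Finite G] in
theorem isPStable_of_normalizer (hp : p ≠ 2) (hst : Cfsg.IsNormalizerPStable p G)
    (hO : Cfsg.pCore p G ≠ ⊥) : Cfsg.IsPStable p G := by
  refine ⟨(Fact.out : p.Prime).odd_of_ne_two hp, hO, ?_⟩
  rintro A P - hP - - - hq _ ⟨⟨a, ha⟩, haA, rfl⟩
  exact hst P hP a ha (le_bot_iff.mp
    ((commutator_mono (commutator_mono le_rfl (zpowers_le.mpr (mem_subgroupOf.mp haA)))
      (zpowers_le.mpr (mem_subgroupOf.mp haA))).trans hq.le))

theorem free_of_local_sl2_free (hp : p ≠ 2) (h : ∀ P : Subgroup G, IsPGroup p ↥P → P ≠ ⊥ →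
    ¬ Cfsg.Involves (Matrix.SpecialLinearGroup (Fin 2) (ZMod p)) ↥(normalizer ((P : Subgroup G) : Set G))) :
    ¬ Cfsg.Involves ↥(Cfsg.qd p) G := by
  intro hinv
  obtain ⟨K, f, hf⟩ := exists_surjective_of_involves hinv
  obtain ⟨π, hπ, hπv⟩ := exists_qd_linear (p := p)
  set W := (π.comp f).ker with hW
  obtain ⟨P⟩ := (inferInstance : Nonempty (Sylow p W))
  have hP1 : (P : Subgroup W) ≠ ⊥ := by
    intro hbot
    obtain ⟨x, hx⟩ := hf ⟨affMat 1 0 1, affMat_mem_qd 1 0 1⟩
    have hxW : x ∈ W := by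
      rw [hW, MonoidHom.mem_ker, MonoidHom.comp_apply, hx, hπv]
    have hd : p ∣ Nat.card W := by
      have h1 : orderOf (f x) ∣ orderOf x := orderOf_map_dvd f x
      have h2 : orderOf (f x) = p := by
        refine orderOf_eq_prime ?_ ?_
        · rw [hx]
          apply Subtype.ext
          have hpow : ∀ j : ℕ, (affMat (1 : ZMod p) 0 1) ^ j = affMat (j : ZMod p) 0 1 := by
            intro j
            induction j with
            | zero => simp [affMat_one]
            | succ j ih => rw [pow_succ, ih, affMat_mul]; simp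
          rw [SubmonoidClass.coe_pow, hpow, ZMod.natCast_self, affMat_one]
          rfl
        · rw [hx]
          intro h1
          have := (affMat_inj ((congrArg Subtype.val h1).trans affMat_one.symm)).1
          exact one_ne_zero this
      exact (h2 ▸ h1).trans (Subgroup.orderOf_dvd_natCard W hxW)
    exact P.ne_bot_of_dvd_card hd hbot
  have hsurj : ∀ A, ∃ x ∈ normalizer (((P : Subgroup W).map W.subtype : Subgroup K) : Set K),
      π (f x) = A := by
    intro A
    obtain ⟨x, rfl⟩ := (hπ.comp hf) A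
    have htop := Sylow.normalizer_sup_eq_top P
    obtain ⟨d, hd, w, hw, rfl⟩ := mem_sup_of_normal_right.mp (htop ▸ mem_top x)
    refine ⟨d, hd, ?_⟩
    show π (f d) = π (f (d * w))
    have : π (f w) = 1 := hw
    rw [map_mul, map_mul, this, mul_one]
  set Q : Subgroup K := (P : Subgroup W).map W.subtype with hQ
  set Q' : Subgroup G := Q.map K.subtype with hQ'
  refine h Q' ((P.2.map W.subtype).map K.subtype) ?_ ?_
  · rw [hQ', hQ, ne_eq, map_eq_bot_iff_of_injective _ K.subtype_injective,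
      map_eq_bot_iff_of_injective _ W.subtype_injective]
    exact hP1
  · set N := normalizer (Q : Set K) with hN
    have hle : N.map K.subtype ≤ normalizer (Q' : Set G) := le_normalizer_map _
    refine involves_of_surjective ((N.map K.subtype).subgroupOf (normalizer (Q' : Set G)))
      (((π.comp f).comp N.subtype).comp
        ((subgroupOfEquivOfLe hle).trans
          (N.equivMapOfInjective K.subtype K.subtype_injective).symm).toMonoidHom) ?_
    intro A
    obtain ⟨x, hx, hxA⟩ := hsurj A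
    obtain ⟨y, hy⟩ := ((subgroupOfEquivOfLe hle).trans
      (N.equivMapOfInjective K.subtype K.subtype_injective).symm).surjective ⟨x, hx⟩
    exact ⟨y, (congrArg (fun z : N => π (f z)) hy).trans hxA⟩

omit [Finite G] in
/-- Qd(p) is not p-stable. -/
theorem not_isNormalizerPStable_qd {X : Type*} [Group X] [Finite X] (hp : p ≠ 2)
    (e : X ≃* ↥(Cfsg.qd p)) : ¬ Cfsg.IsNormalizerPStable p X := by
  intro hst
  let tr : ZMod p → ZMod p → X := fun c d => e.symm ⟨affMat c d 1, affMat_mem_qd c d 1⟩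
  let σ : SL2 (ZMod p) → X := fun A => e.symm ⟨affMat 0 0 A, affMat_mem_qd 0 0 A⟩
  have htr : ∀ c d c' d', tr c d * tr c' d' = tr (c + c') (d + d') := fun c d c' d' => by
    simp only [tr, ← map_mul]
    congr 1
    exact Subtype.ext (by rw [Subgroup.coe_mul, affMat_mul]; simp)
  have hσ : ∀ A B, σ (A * B) = σ A * σ B := fun A B => by
    simp only [σ, ← map_mul]
    congr 1
    exact Subtype.ext (by rw [Subgroup.coe_mul, affMat_mul]; simp)
  have hact : ∀ A c d, σ A * tr c d = tr (A 0 0 * c + A 0 1 * d) (A 1 0 * c + A 1 1 * d) * σ A :=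
    fun A c d => by
    simp only [σ, tr, ← map_mul]
    congr 1
    exact Subtype.ext (by rw [Subgroup.coe_mul, Subgroup.coe_mul, affMat_mul, affMat_mul]; simp)
  have htr0 : tr 0 0 = 1 := by
    have := htr 0 0 0 0
    rw [add_zero] at this
    exact left_eq_mul.mp this.symm
  let P : Subgroup X :=
    { carrier := {x | ∃ c d, x = tr c d}
      one_mem' := ⟨0, 0, htr0.symm⟩
      mul_mem' := by
        rintro _ _ ⟨c, d, rfl⟩ ⟨c', d', rfl⟩
        exact ⟨_, _, htr c d c' d'⟩
      inv_mem' := by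
        rintro _ ⟨c, d, rfl⟩
        refine ⟨-c, -d, inv_eq_of_mul_eq_one_right ?_⟩
        rw [htr, add_neg_cancel, add_neg_cancel, htr0] }
  have hpow : ∀ c d (j : ℕ), tr c d ^ j = tr (j * c) (j * d) := by
    intro c d j
    induction j with
    | zero => simp [htr0]
    | succ j ih => rw [pow_succ, ih, htr, Nat.cast_succ, add_mul, add_mul, one_mul, one_mul]
  have hP : IsPGroup p P := by
    rintro ⟨_, c, d, rfl⟩
    refine ⟨1, Subtype.ext ?_⟩
    show tr c d ^ p ^ 1 = 1
    rw [pow_one, hpow, ZMod.natCast_self, zero_mul, zero_mul, htr0]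
  have hdec : ∀ x : X, ∃ c d A, x = tr c d * σ A := by
    intro x
    obtain ⟨c, d, A, h⟩ := exists_affMat_of_mem_qd (e x).2
    refine ⟨c, d, A, e.injective ?_⟩
    simp only [tr, σ, map_mul, MulEquiv.apply_symm_apply]
    exact Subtype.ext (by rw [Subgroup.coe_mul, affMat_mul, h]; simp)
  have hn : P.Normal := ⟨by
    rintro _ ⟨c, d, rfl⟩ x
    obtain ⟨c', d', A, rfl⟩ := hdec x
    refine ⟨A 0 0 * c + A 0 1 * d, A 1 0 * c + A 1 1 * d, ?_⟩
    rw [mul_assoc (tr c' d'), hact, ← mul_assoc (tr c' d'), htr, add_comm c', add_comm d', ← htr,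
      mul_inv_rev]
    group⟩
  have hσ1 : σ 1 = 1 := by
    have := hσ 1 1
    rw [one_mul] at this
    exact left_eq_mul.mp this
  let σh : SL2 (ZMod p) →* X := MonoidHom.mk' σ hσ
  let U : Subgroup X :=
    { carrier := {x | ∃ a : ZMod p, x = σ (upper a)}
      one_mem' := ⟨0, by rw [upper_zero, hσ1]⟩
      mul_mem' := by
        rintro _ _ ⟨a, rfl⟩ ⟨b, rfl⟩
        exact ⟨a + b, by rw [← hσ, upper_mul]⟩
      inv_mem' := by
        rintro _ ⟨a, rfl⟩
        exact ⟨-a, inv_eq_of_mul_eq_one_right (by rw [← hσ, upper_mul, add_neg_cancel, upper_zero, hσ1])⟩ }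
  set g := σ (upper 1) with hg
  have hgU : zpowers g ≤ U := zpowers_le.mpr ⟨1, rfl⟩
  let L : Subgroup X :=
    { carrier := {x | ∃ c, x = tr c 0}
      one_mem' := ⟨0, htr0.symm⟩
      mul_mem' := by
        rintro _ _ ⟨c, rfl⟩ ⟨c', rfl⟩
        exact ⟨c + c', by rw [htr, add_zero]⟩
      inv_mem' := by
        rintro _ ⟨c, rfl⟩
        exact ⟨-c, inv_eq_of_mul_eq_one_right (by rw [htr, add_neg_cancel, add_zero, htr0])⟩ }
  have hq : ⁅⁅P, zpowers g⁆, zpowers g⁆ = ⊥ := by
    have h1 : ⁅P, zpowers g⁆ ≤ L := by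
      rw [commutator_le]
      rintro _ ⟨c, d, rfl⟩ y hy
      obtain ⟨a, rfl⟩ := hgU hy
      refine ⟨-(a * d), ?_⟩
      rw [commutatorElement_def, mul_inv_eq_iff_eq_mul, mul_inv_eq_iff_eq_mul, mul_assoc, hact,
        ← mul_assoc, htr]
      simp [upper]
    rw [← le_bot_iff]
    refine (commutator_mono h1 le_rfl).trans ?_
    rw [commutator_le]
    rintro _ ⟨c, rfl⟩ y hy
    obtain ⟨a, rfl⟩ := hgU hy
    rw [mem_bot, commutatorElement_eq_one_iff_mul_comm, hact]
    simp [upper]
  have hPtop : normalizer (P : Set X) = ⊤ := normalizer_eq_top P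
  have hgN : g ∈ normalizer (P : Set X) := hPtop ▸ mem_top g
  obtain ⟨D, hD, hgD, hDp⟩ := (pcoreMod_iff _ _).mpr (hst P hP g hgN hq)
  let ν : SL2 (ZMod p) →* ↥(normalizer (P : Set X)) :=
    σh.codRestrict _ fun A => hPtop ▸ mem_top _
  have hu : upper 1 ∈ D.comap ν := hgD
  have hl : lower (1 : ZMod p) ∈ D.comap ν := by
    obtain ⟨w, w00, w01, w10, w11⟩ : ∃ w : SL2 (ZMod p),
        w 0 0 = 0 ∧ w 0 1 = -1 ∧ w 1 0 = 1 ∧ w 1 1 = 0 :=
      ⟨⟨!![0, -1; 1, 0], by simp [Matrix.det_fin_two]⟩, rfl, rfl, rfl, rfl⟩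
    have hw0 : lower 1 * (w * upper 1) = w := by
      apply sl2_ext <;> simp [sl2_mul, w00, w01, w10, w11]
    have hw : w * upper 1 * w⁻¹ = (lower 1)⁻¹ := by
      apply eq_inv_of_mul_eq_one_right
      rw [← mul_assoc, ← mul_assoc, mul_assoc (lower 1), hw0, mul_inv_cancel]
    have h1 := (hD.comap ν).conj_mem _ hu w
    rw [hw] at h1
    exact (inv_mem_iff).mp h1
  have hneg : ν (-1) ∈ D := by
    have := sl2_zmod_generated _ hu hl
    exact mem_comap.mp (this ▸ mem_top (-1 : SL2 (ZMod p)))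
  obtain ⟨k, hk⟩ := hDp _ hneg
  have hodd : Odd (p ^ k) := ((Fact.out : p.Prime).odd_of_ne_two hp).pow
  rw [← map_pow, hodd.neg_one_pow, mem_subgroupOf, mem_centralizer_iff] at hk
  have h3 : tr 1 0 * σ (-1) = σ (-1) * tr 1 0 := hk (tr 1 0) ⟨1, 0, rfl⟩
  rw [hact] at h3
  have h4 := mul_right_cancel h3
  simp only [tr, EmbeddingLike.apply_eq_iff_eq, Subtype.mk.injEq] at h4
  have h5 := (affMat_inj h4).1
  simp at h5
  have h2 : ((2 : ℕ) : ZMod p) = 0 := by
    push_cast
    linear_combination h5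
  exact hp ((Nat.prime_dvd_prime_iff_eq Fact.out Nat.prime_two).mp
    ((ZMod.natCast_eq_zero_iff _ _).mp h2))

end CfsgLib.ZJ
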