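import Cfsg.Agent.ZJ.QdSection
import Mathlib.FieldTheory.Finite.Basic

/-!
SL₂(p), p odd: a noncommutative Sylow 2-subgroup; perfectness for p > 3.
-/

set_option autoImplicit false

namespace CfsgLib.ZJ

open Subgroup

variable {p : ℕ} [Fact p.Prime]

theorem two_ne_zero_zmod (hp : p ≠ 2) : (2 : ZMod p) ≠ 0 := by
  intro h0
  have h' : ((2 : ℕ) : ZMod p) = 0 := by exact_mod_cast h0
  exact hp ((Nat.prime_dvd_prime_iff_eq Fact.out Nat.prime_two).mp
    ((ZMod.natCast_eq_zero_iff _ _).mp h'))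

theorem exists_two_group_noncomm (hp : p ≠ 2) :
    ∃ Q : Subgroup (SL2 (ZMod p)), IsPGroup 2 Q ∧ ∃ u ∈ Q, ∃ w ∈ Q, u * w ≠ w * u := by
  obtain ⟨a, b, hab⟩ := ZMod.sq_add_sq p (-1 : ZMod p)
  obtain ⟨u, u00, u01, u10, u11⟩ : ∃ u : SL2 (ZMod p),
      u 0 0 = a ∧ u 0 1 = b ∧ u 1 0 = b ∧ u 1 1 = -a :=
    ⟨⟨!![a, b; b, -a], by simp [Matrix.det_fin_two]; linear_combination -hab⟩, rfl, rfl, rfl, rfl⟩
  obtain ⟨w, w00, w01, w10, w11⟩ : ∃ w : SL2 (ZMod p),
      w 0 0 = 0 ∧ w 0 1 = 1 ∧ w 1 0 = -1 ∧ w 1 1 = 0 :=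
    ⟨⟨!![0, 1; -1, 0], by simp [Matrix.det_fin_two]⟩, rfl, rfl, rfl, rfl⟩
  have hu2 : u * u = -1 := by
    apply sl2_ext <;>
      simp only [sl2_mul, u00, u01, u10, u11, Matrix.SpecialLinearGroup.coe_neg,
        Matrix.SpecialLinearGroup.coe_one, Matrix.neg_apply, Matrix.one_apply] <;>
      simp <;> first | linear_combination hab | ring
  have hw2 : w * w = -1 := by
    apply sl2_ext <;>
      simp only [sl2_mul, w00, w01, w10, w11, Matrix.SpecialLinearGroup.coe_neg,
        Matrix.SpecialLinearGroup.coe_one, Matrix.neg_apply, Matrix.one_apply] <;> simp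
  have huw : u * w = -(w * u) := by
    apply sl2_ext <;>
      simp only [sl2_mul, u00, u01, u10, u11, w00, w01, w10, w11,
        Matrix.SpecialLinearGroup.coe_neg, Matrix.neg_apply] <;> ring
  have hpg : ∀ x : SL2 (ZMod p), x * x = -1 → IsPGroup 2 (zpowers x) := by
    intro x hx
    rintro ⟨y, k, rfl⟩
    refine ⟨2, Subtype.ext ?_⟩
    show (x ^ k) ^ 2 ^ 2 = 1
    have h4 : x ^ (4 : ℕ) = 1 := by
      rw [show x ^ (4 : ℕ) = (x * x) * (x * x) by simp [pow_succ, mul_assoc], hx]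
      apply sl2_ext <;> simp
    rw [show (2 : ℕ) ^ 2 = 4 from rfl, ← zpow_natCast, zpow_comm, zpow_natCast, h4, one_zpow]
  have hinv : w⁻¹ = -w := inv_eq_of_mul_eq_one_right (by rw [mul_neg, hw2, neg_neg])
  have hnorm : zpowers u ≤ normalizer (zpowers w : Set (SL2 (ZMod p))) := by
    rw [zpowers_le, mem_normalizer_iff_map_conj_eq, MonoidHom.map_zpowers]
    have h1 : (MulAut.conj u) w = w⁻¹ := by
      rw [MulAut.conj_apply, huw, hinv, neg_mul, mul_inv_cancel_right]
    show zpowers ((MulAut.conj u) w) = _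
    rw [h1, zpowers_inv]
  refine ⟨zpowers u ⊔ zpowers w, (hpg u hu2).to_sup_of_normal_right' (hpg w hw2) hnorm,
    u, mem_sup_left (mem_zpowers u), w, mem_sup_right (mem_zpowers w), ?_⟩
  rw [huw]
  intro h
  have h00 := congrArg (fun M : SL2 (ZMod p) => M 0 0) h
  have h01 := congrArg (fun M : SL2 (ZMod p) => M 0 1) h
  simp only [Matrix.SpecialLinearGroup.coe_neg, Matrix.neg_apply, sl2_mul, u00, u01, u10, u11,
    w00, w01, w10, w11] at h00 h01
  have hb : b = 0 := mul_left_cancel₀ (two_ne_zero_zmod hp) (by linear_combination -h00)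
  have ha : a = 0 := mul_left_cancel₀ (two_ne_zero_zmod hp) (by linear_combination h01)
  rw [ha, hb] at hab
  simp at hab

/-- A group mapping onto SL₂(p) from a subgroup has noncommutative Sylow 2-subgroups. -/
theorem sylow_two_noncomm {H : Type*} [Group H] [Finite H] (hp : p ≠ 2) (K : Subgroup H)
    (f : K →* SL2 (ZMod p)) (hf : Function.Surjective f) (T : Sylow 2 H) :
    ¬ IsMulCommutative T := by
  intro hT
  obtain ⟨Q, hQ, u, hu, w, hw, huw⟩ := exists_two_group_noncomm hp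
  obtain ⟨R, hR⟩ := hQ.exists_le_sylow
  obtain ⟨P⟩ := (inferInstance : Nonempty (Sylow 2 K))
  obtain ⟨g, hg⟩ := MulAction.exists_smul_eq (SL2 (ZMod p)) (P.mapSurjective hf) R
  obtain ⟨c, rfl⟩ := hf g
  have hmem : ∀ x ∈ (R : Subgroup (SL2 (ZMod p))), ∃ y ∈ (P : Subgroup K), f (c * y * c⁻¹) = x := by
    intro x hx
    rw [← hg, Sylow.coe_subgroup_smul] at hx
    obtain ⟨z, hz, rfl⟩ := hx
    obtain ⟨y, hy, rfl⟩ := hz
    exact ⟨y, hy, by simp⟩
  obtain ⟨y, hy, hyu⟩ := hmem u (hR hu)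
  obtain ⟨z, hz, hzw⟩ := hmem w (hR hw)
  obtain ⟨S, hS⟩ := (P.2.map K.subtype).exists_le_sylow
  obtain ⟨t, ht⟩ := MulAction.exists_smul_eq H S T
  have hcomm : Commute y z := by
    have hy' : (MulAut.conj t) (y : H) ∈ (T : Subgroup H) := by
      rw [← ht, Sylow.coe_subgroup_smul]
      exact ⟨_, hS ⟨y, hy, rfl⟩, rfl⟩
    have hz' : (MulAut.conj t) (z : H) ∈ (T : Subgroup H) := by
      rw [← ht, Sylow.coe_subgroup_smul]
      exact ⟨_, hS ⟨z, hz, rfl⟩, rfl⟩
    have h1 := congrArg Subtype.val (hT.is_comm.comm ⟨_, hy'⟩ ⟨_, hz'⟩)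
    simp only [Subgroup.coe_mul] at h1
    rw [← map_mul, ← map_mul] at h1
    exact Subtype.ext ((MulAut.conj t).injective h1)
  apply huw
  rw [← hyu, ← hzw, ← map_mul, ← map_mul]
  congr 1
  calc c * y * c⁻¹ * (c * z * c⁻¹) = c * (y * z) * c⁻¹ := by group
    _ = c * (z * y) * c⁻¹ := by rw [hcomm.eq]
    _ = c * z * c⁻¹ * (c * y * c⁻¹) := by group

/-- SL₂(p) is perfect for `p > 3`. -/
theorem sl2_commutator_top (hp : p ≠ 2) (hp3 : p ≠ 3) : commutator (SL2 (ZMod p)) = ⊤ := by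
  have h2 := two_ne_zero_zmod hp
  have h3 : (3 : ZMod p) ≠ 0 := by
    intro h0
    have h' : ((3 : ℕ) : ZMod p) = 0 := by exact_mod_cast h0
    exact hp3 ((Nat.prime_dvd_prime_iff_eq Fact.out Nat.prime_three).mp
      ((ZMod.natCast_eq_zero_iff _ _).mp h'))
  obtain ⟨d, d00, d01, d10, d11⟩ : ∃ d : SL2 (ZMod p),
      d 0 0 = 2 ∧ d 0 1 = 0 ∧ d 1 0 = 0 ∧ d 1 1 = 2⁻¹ :=
    ⟨⟨!![2, 0; 0, 2⁻¹], by simp [Matrix.det_fin_two, h2]⟩, rfl, rfl, rfl, rfl⟩
  refine sl2_zmod_generated _ ?_ ?_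
  · have h : d * upper (3⁻¹) = upper 1 * upper (3⁻¹) * d := by
      apply sl2_ext <;>
        simp only [sl2_mul, d00, d01, d10, d11, upper_00, upper_01, upper_10, upper_11] <;>
        field_simp <;> ring
    have hm := commutator_mem_commutator (mem_top d) (mem_top (upper (3⁻¹ : ZMod p)))
    rwa [← commutator_def, commutatorElement_def, h, mul_inv_cancel_right,
      mul_inv_cancel_right] at hm
  · have h : d⁻¹ * lower (3⁻¹) = lower 1 * lower (3⁻¹) * d⁻¹ := by
      obtain ⟨i00, i01, i10, i11⟩ := sl2_inv d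
      apply sl2_ext <;>
        simp only [sl2_mul, i00, i01, i10, i11, d00, d01, d10, d11, lower_00, lower_01, lower_10,
          lower_11] <;>
        field_simp <;> ring
    have hm := commutator_mem_commutator (mem_top d⁻¹) (mem_top (lower (3⁻¹ : ZMod p)))
    rwa [← commutator_def, commutatorElement_def, h, mul_inv_cancel_right,
      mul_inv_cancel_right] at hm

/-- A step in a p-separable chain cannot cut SL₂(p) for `p > 3`. -/
theorem sl2_step (hp : p ≠ 2) (hp3 : p ≠ 3) (N : Subgroup (SL2 (ZMod p))) [N.Normal] (n : ℕ)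
    (hn : ∀ x, x ^ n ∈ N) (hn' : (∃ m, n = p ^ m) ∨ n.Coprime p) : N = ⊤ := by
  rcases hn' with ⟨m, rfl⟩ | hco
  · by_contra hne
    haveI : Nontrivial (SL2 (ZMod p) ⧸ N) := QuotientGroup.nontrivial_iff.mpr hne
    have hP : IsPGroup p (SL2 (ZMod p) ⧸ N) := fun x => by
      obtain ⟨x, rfl⟩ := QuotientGroup.mk_surjective x
      exact ⟨m, by rw [← QuotientGroup.mk_pow]; exact (QuotientGroup.eq_one_iff _).mpr (hn x)⟩
    haveI := hP.isNilpotent
    haveI : Group.IsSolvable (SL2 (ZMod p) ⧸ N) := inferInstance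
    refine (Group.IsSolvable.commutator_lt_top_of_nontrivial (SL2 (ZMod p) ⧸ N)).ne ?_
    have := congrArg (Subgroup.map (QuotientGroup.mk' N)) (sl2_commutator_top hp hp3)
    rwa [commutator_def, map_commutator,
      map_top_of_surjective _ (QuotientGroup.mk'_surjective N)] at this
  · have key : ∀ x : SL2 (ZMod p), x ^ p = 1 → x ∈ N := by
      intro x hx
      have h1 : (QuotientGroup.mk' N x) = 1 := by
        refine orderOf_eq_one_iff.mp (Nat.eq_one_of_dvd_coprimes hco ?_ ?_)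
        · refine orderOf_dvd_of_pow_eq_one ?_
          rw [← map_pow]
          exact (QuotientGroup.eq_one_iff _).mpr (hn x)
        · refine orderOf_dvd_of_pow_eq_one ?_
          rw [← map_pow, hx, map_one]
      exact (QuotientGroup.eq_one_iff _).mp h1
    refine sl2_zmod_generated N (key _ ?_) (key _ ?_)
    · rw [upper_pow, ZMod.natCast_self, zero_mul, upper_zero]
    · rw [lower_pow, ZMod.natCast_self, zero_mul, lower_zero]

/-- A p-separable chain in a group with SL₂(p) as a subgroup image forces p = 3. -/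
theorem eq_three_of_chain {H : Type*} [Group H] (hp : p ≠ 2) {n : ℕ}
    (C : Fin (n + 1) → Subgroup H) (h0 : C 0 = ⊥) (hlast : C (Fin.last n) = ⊤)
    (hnorm : ∀ i, (C i).Normal)
    (hstep : ∀ i : Fin n, ∃ e : ℕ, (∀ x ∈ C i.succ, x ^ e ∈ C i.castSucc) ∧
      ((∃ m, e = p ^ m) ∨ e.Coprime p))
    (K : Subgroup H) (f : K →* SL2 (ZMod p)) (hf : Function.Surjective f) : p = 3 := by
  by_contra hp3
  have key : ∀ i : Fin (n + 1), ((C i).subgroupOf K).map f = ⊤ := by
    intro i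
    induction i using Fin.reverseInduction with
    | last => rw [hlast, top_subgroupOf, map_top_of_surjective f hf]
    | cast i ih =>
      obtain ⟨e, he, he'⟩ := hstep i
      haveI : ((C i.castSucc).subgroupOf K).Normal := (hnorm i.castSucc).subgroupOf K
      haveI : (((C i.castSucc).subgroupOf K).map f).Normal := Normal.map inferInstance f hf
      refine sl2_step hp hp3 _ e (fun x => ?_) he'
      have hx : x ∈ ((C i.succ).subgroupOf K).map f := ih ▸ mem_top x
      obtain ⟨y, hy, rfl⟩ := hx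
      exact ⟨y ^ e, mem_subgroupOf.mpr (by simpa using he _ (mem_subgroupOf.mp hy)), map_pow f y e⟩
  have h := key 0
  rw [h0, bot_subgroupOf, Subgroup.map_bot] at h
  have h1 : upper (1 : ZMod p) ∈ (⊥ : Subgroup (SL2 (ZMod p))) := h ▸ mem_top _
  have := congrArg (fun M : SL2 (ZMod p) => M 0 1) (mem_bot.mp h1)
  simp at this

end CfsgLib.ZJ
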