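import Cfsg.Agent.ZJ.QdSection

/-!
Sections: transitivity of involvement, and the relation between Qd(p) and SL₂(p).
-/

set_option autoImplicit false

namespace CfsgLib.ZJ

variable {G X : Type*} [Group G] [Group X]

/-- An involved group is the image of a subgroup. -/
theorem exists_surjective_of_involves (h : Cfsg.Involves X G) :
    ∃ (K : Subgroup G) (f : K →* X), Function.Surjective f := by
  obtain ⟨K, R, hn, ⟨e⟩⟩ := h
  exact ⟨K, e.toMonoidHom.comp (QuotientGroup.mk' _),
    e.surjective.comp (QuotientGroup.mk'_surjective _)⟩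

/-- Involvement passes from the image of a subgroup to the whole group. -/
theorem involves_of_hom {Y : Type*} [Group Y] (K : Subgroup G) (f : K →* Y)
    (hf : Function.Surjective f) (h : Cfsg.Involves X Y) : Cfsg.Involves X G := by
  obtain ⟨L, g, hg⟩ := exists_surjective_of_involves h
  refine involves_of_surjective ((L.comap f).map K.subtype)
    ((g.comp (f.subgroupComap L)).comp
      ((L.comap f).equivMapOfInjective K.subtype K.subtype_injective).symm.toMonoidHom)
    ((hg.comp (f.subgroupComap_surjective_of_surjective L hf)).comp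
      (MulEquiv.surjective _))

theorem involves_of_subgroup (H : Subgroup G) (h : Cfsg.Involves X H) : Cfsg.Involves X G :=
  involves_of_hom H (MonoidHom.id H) Function.surjective_id h

theorem involves_of_quotient (N : Subgroup G) [N.Normal] (h : Cfsg.Involves X (G ⧸ N)) :
    Cfsg.Involves X G :=
  involves_of_hom ⊤ ((QuotientGroup.mk' N).comp Subgroup.topEquiv.toMonoidHom)
    ((QuotientGroup.mk'_surjective N).comp (MulEquiv.surjective _)) h

/-- Involvement passes from a section to the whole group. -/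
theorem involves_of_section (K R : Subgroup G) [(R.subgroupOf K).Normal]
    (h : Cfsg.Involves X (K ⧸ R.subgroupOf K)) : Cfsg.Involves X G :=
  involves_of_subgroup K (involves_of_quotient _ h)

/-- The existential spelling of involvement used by some statements, inside a given subgroup. -/
theorem exists_section_le {Y : Type*} [Group Y] {K0 H : Subgroup G} (hK : K0 ≤ H) (f : K0 →* Y)
    (hf : Function.Surjective f) :
    ∃ (K L : Subgroup G) (_ : (L.subgroupOf K).Normal),
      K ≤ H ∧ Nonempty ((K ⧸ L.subgroupOf K) ≃* Y) := by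
  obtain ⟨R, hn, hR⟩ := exists_section_of_surjective K0 f hf
  exact ⟨K0, R, hn, hK, hR⟩

section Qd

variable {p : ℕ} [Fact p.Prime]

theorem affMat_inj {c d c' d' : ZMod p} {A A' : SL2 (ZMod p)}
    (h : affMat c d A = affMat c' d' A') : c = c' ∧ d = d' ∧ A = A' := by
  have e : ∀ i j, (affMat c d A).1 i j = (affMat c' d' A').1 i j := fun i j => by rw [h]
  refine ⟨by simpa [affMat] using e 0 2, by simpa [affMat] using e 1 2, ?_⟩
  exact sl2_ext (by simpa [affMat] using e 0 0) (by simpa [affMat] using e 0 1)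
    (by simpa [affMat] using e 1 0) (by simpa [affMat] using e 1 1)

theorem affMat_one : affMat (0 : ZMod p) 0 1 = 1 := by
  apply Matrix.SpecialLinearGroup.ext
  intro i j
  fin_cases i <;> fin_cases j <;> simp [affMat]

theorem exists_affMat_of_mem_qd {x : Matrix.SpecialLinearGroup (Fin 3) (ZMod p)}
    (hx : x ∈ Cfsg.qd p) : ∃ c d A, x = affMat c d A := by
  induction hx using Subgroup.closure_induction with
  | mem y hy => exact exists_affMat y hy
  | one => exact ⟨0, 0, 1, affMat_one.symm⟩
  | mul x y _ _ hx hy =>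
    obtain ⟨c, d, A, rfl⟩ := hx
    obtain ⟨c', d', A', rfl⟩ := hy
    exact ⟨_, _, _, affMat_mul c d c' d' A A'⟩
  | inv x _ hx =>
    obtain ⟨c, d, A, rfl⟩ := hx
    refine ⟨-(A⁻¹ 0 0 * c + A⁻¹ 0 1 * d), -(A⁻¹ 1 0 * c + A⁻¹ 1 1 * d), A⁻¹, ?_⟩
    refine inv_eq_of_mul_eq_one_left ?_
    rw [affMat_mul, inv_mul_cancel, neg_add_cancel, neg_add_cancel, affMat_one]

/-- The linear part, as a homomorphism from Qd(p) onto SL₂(p). -/
theorem exists_qd_linear :
    ∃ f : Cfsg.qd p →* SL2 (ZMod p), Function.Surjective f ∧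
      ∀ c d A, f ⟨affMat c d A, affMat_mem_qd c d A⟩ = A := by
  choose cf df Af h using fun x : Cfsg.qd p => exists_affMat_of_mem_qd x.2
  refine ⟨MonoidHom.mk' Af fun x y => ?_, fun A => ⟨⟨affMat 0 0 A, affMat_mem_qd 0 0 A⟩, ?_⟩,
    fun c d A => ?_⟩
  · have := (h (x * y)).symm
    rw [Subgroup.coe_mul, h x, h y, affMat_mul] at this
    exact (affMat_inj this).2.2
  · exact (affMat_inj (h ⟨affMat 0 0 A, affMat_mem_qd 0 0 A⟩)).2.2.symm
  · exact (affMat_inj (h ⟨affMat c d A, affMat_mem_qd c d A⟩)).2.2.symm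

theorem involves_sl2_of_qd (h : Cfsg.Involves ↥(Cfsg.qd p) G) :
    Cfsg.Involves (Matrix.SpecialLinearGroup (Fin 2) (ZMod p)) G := by
  obtain ⟨K, f, hf⟩ := exists_surjective_of_involves h
  obtain ⟨g, hg, -⟩ := exists_qd_linear (p := p)
  exact involves_of_surjective K (g.comp f) (hg.comp hf)

end Qd

end CfsgLib.ZJ
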