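import Cfsg.Agent.ZJ.ZJThm
import Cfsg.Agent.ZJ.Stable
import Cfsg.Agent.PLocal.Thompson

/-!
Z(J) in both versions as intersections, and the normality and characteristicity of Z(J).
-/

set_option autoImplicit false

namespace CfsgLib.ZJ

open Subgroup CfsgLib.Functor

universe u

variable {G : Type u} [Group G] [Finite G] {p : ℕ} [Fact p.Prime] {Q : Subgroup G → Prop}

omit [Finite G] in
theorem pcomm_of_normal {K : Subgroup G} (hK : K.Normal) (U : Subgroup G) :
    U ≤ normalizer (K : Set G) := by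
  rw [normalizer_eq_top (H := K)]; exact le_top

theorem stableNormal_of_isPStableOn
    (hst : ∀ (P : Subgroup G) [P.Normal], IsPGroup p P → Cfsg.IsPStableOn p P) :
    StableNormal p G := fun P _ hP a hq => (pcoreMod_iff _ a).mpr (hst P hP a hq)

theorem stableNormal_of_free (hp : p ≠ 2) (hfree : ¬ Cfsg.Involves ↥(Cfsg.qd p) G) :
    StableNormal p G := fun P _ hP a hq => pcoreMod_of_quadratic hp hfree P hP a hq

theorem stableNormal_of_normalizer (hst : Cfsg.IsNormalizerPStable p G) : StableNormal p G := by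
  intro P hPn hP a hq
  have htop : normalizer (P : Set G) = ⊤ := normalizer_eq_top P
  obtain ⟨D, hD, haD, hDp⟩ := (pcoreMod_iff _ _).mpr (hst P hP a (htop ▸ mem_top a) hq)
  refine ⟨D.map (normalizer (P : Set G)).subtype,
    hD.map _ (fun x => ⟨⟨x, htop ▸ mem_top x⟩, rfl⟩), ⟨_, haD, rfl⟩, ?_⟩
  rintro _ ⟨x, hx, rfl⟩
  obtain ⟨k, hk⟩ := hDp x hx
  exact ⟨k, by simpa [mem_subgroupOf] using hk⟩

omit [Finite G] [Fact p.Prime] in
theorem stronglyClosed_self (S : Sylow p G) :
    Cfsg.IsStronglyClosed (S : Subgroup G) (S : Subgroup G) := ⟨le_rfl, fun _ _ _ h => h⟩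

/-- The normality of `famCenter` in a p-constrained p-stable group. -/
theorem famCenter_normal (hp : p ≠ 2) (hQ : Admissible Q) (S : Sylow p G) (D : Subgroup G)
    (hD : Cfsg.IsStronglyClosed D (S : Subgroup G)) (hst : StableNormal p G)
    (hc : centralizer (Cfsg.pCore p G : Set G) ≤ Cfsg.pCore p G) : (famCenter Q D).Normal := by
  have hO : IsPGroup p (Cfsg.pCore p G) := Solvable.isPGroup_pCore p
  have hn := inf_famCenter_normal hp hQ S D hD hst _ (Solvable.pCore_normal p) hO
  suffices famCenter Q D ≤ Cfsg.pCore p G by rwa [inf_eq_right.mpr this] at hn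
  intro z hz
  set Z := famCenter Q D with hZ
  have hOS : Cfsg.pCore p G ≤ S := by
    obtain ⟨R, hR⟩ := hO.exists_le_sylow
    obtain ⟨g, rfl⟩ := MulAction.exists_smul_eq G R S
    intro x hx
    rw [Sylow.coe_subgroup_smul]
    exact ⟨g⁻¹ * x * g, hR (by simpa using (Solvable.pCore_normal p).conj_mem x hx g⁻¹),
      by simp [mul_assoc]⟩
  have hSD : (S : Subgroup G) ≤ normalizer (Z : Set G) := by
    refine le_trans (fun s hs => mem_normalizer_iff.mpr fun x => ?_) (normalizer_le_famCenter hQ D)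
    refine ⟨fun hx => hD.2 x hx s (mul_mem (mul_mem hs (hD.1 hx)) (inv_mem hs)), fun hx => ?_⟩
    have := hD.2 _ hx s⁻¹ (mul_mem (mul_mem (inv_mem hs) (hD.1 hx)) (by simpa using hs))
    simpa [mul_assoc] using this
  have hzZ : zpowers z ≤ Z := zpowers_le.mpr hz
  have hq : ⁅⁅Cfsg.pCore p G, zpowers z⁆, zpowers z⁆ = ⊥ := by
    have h1 : ⁅Cfsg.pCore p G, zpowers z⁆ ≤ Z := by
      rw [commutator_le]
      intro x hx y hy
      rw [commutatorElement_def]
      exact Z.mul_mem ((mem_normalizer_iff.mp (hSD (hOS hx)) y).mp (hzZ hy)) (Z.inv_mem (hzZ hy))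
    refine le_bot_iff.mp ((commutator_mono h1 hzZ).trans (le_of_eq ?_))
    rw [commutator_eq_bot_iff_le_centralizer]
    exact fun x hx => mem_centralizer_iff.mpr fun y hy => famCenter_comm hQ hy hx
  obtain ⟨K, hK, hzK, hKp⟩ := hst _ hO z hq
  refine Solvable.le_pCore p hK (fun x => ?_) hzK
  obtain ⟨k, hk⟩ := hKp x x.2
  obtain ⟨j, hj⟩ := hO ⟨_, hc hk⟩
  exact ⟨k + j, Subtype.ext (by simpa [pow_add, pow_mul] using congrArg Subtype.val hj)⟩

/-- An automorphism fixes `famCenter Q S` once this is normal. -/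
theorem famCenter_characteristic (hQ : Admissible Q) (S : Sylow p G)
    (hn : (famCenter Q (S : Subgroup G)).Normal) :
    (famCenter Q (S : Subgroup G)).Characteristic := by
  refine characteristic_iff_map_eq.mpr fun e => ?_
  rw [famCenter_map hQ e]
  have hcard : Nat.card ((S : Subgroup G).map e.toMonoidHom) =
      p ^ (Nat.card G).factorization p := by
    rw [← S.card_eq_multiplicity]
    exact (Nat.card_congr ((S : Subgroup G).equivMapOfInjective _ e.injective).toEquiv).symm
  obtain ⟨g, hg⟩ := MulAction.exists_smul_eq G S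
    (Sylow.ofCard ((S : Subgroup G).map e.toMonoidHom) hcard)
  have hg' : (S : Subgroup G).map e.toMonoidHom = (S : Subgroup G).map (MulAut.conj g).toMonoidHom := by
    have h := congrArg (fun T : Sylow p G => (T : Subgroup G)) hg
    simp only [Sylow.coe_subgroup_smul, Sylow.coe_ofCard] at h
    exact h.symm
  rw [hg', ← famCenter_map hQ]
  exact mem_normalizer_iff_map_conj_eq.mp (by rw [normalizer_eq_top (H := famCenter Q (S : Subgroup G))]; exact mem_top g)

theorem admissible_abelian : Admissible (fun A : Subgroup G => IsMulCommutative A) where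
  bot := inferInstance
  comm _ h := h
  map e A h := by
    haveI := h
    exact Subgroup.map_isMulCommutative A e.toMonoidHom
  repl A B b _ R ho := R.isMulCommutative_repl (Or.inl ho)

theorem admissible_elab (hp : p ≠ 2) :
    Admissible (fun A : Subgroup G => Cfsg.IsElementaryAbelian p A) where
  bot := Thompson.elab_bot
  comm _ h := h.1
  map e A h := Thompson.elab_map _ h
  repl A B b h R ho := ⟨R.isMulCommutative_repl (Or.inl ho), fun x hx =>
    R.pow_eq_one (Or.inl ho) p ((Fact.out : p.Prime).odd_of_ne_two hp) h.2 hx⟩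

theorem famCenter_elab_eq (U : Subgroup G) :
    famCenter (fun A : Subgroup G => Cfsg.IsElementaryAbelian p A) U =
      Cfsg.omegaOne p (Cfsg.centerThompsonOf p U) := by
  have hmx : ∀ A, A ∈ fam (fun A : Subgroup G => Cfsg.IsElementaryAbelian p A) U ↔
      A ∈ Thompson.maxIn p U := fun A =>
    ⟨fun h => ⟨h.2.1, h.1, fun B hBU hB => h.2.2 B hB hBU⟩,
      fun h => ⟨h.2.1, h.1, fun B hB hBU => h.2.2 B hBU hB⟩⟩
  rw [Cfsg.centerThompsonOf, Thompson.thompsonSubgroupOf_eq]
  refine le_antisymm (fun x hx => ?_) (le_sInf fun A hA => ?_)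
  · obtain ⟨A0, hA0⟩ := Thompson.exists_maxIn (p := p) U
    have hxA := mem_sInf.mp hx
    refine Thompson.mem_omegaOne ⟨(le_sSup hA0) (hxA A0 ((hmx A0).mpr hA0)), ?_⟩
      (hA0.2.1.2 x (hxA A0 ((hmx A0).mpr hA0)))
    have : sSup (Thompson.maxIn p U) ≤ centralizer {x} := sSup_le fun A hA a ha =>
      mem_centralizer_singleton_iff.mpr (Thompson.elab_commute hA.2.1 ha (hxA A ((hmx A).mpr hA)))
    exact mem_centralizer_iff.mpr fun j hj => mem_centralizer_singleton_iff.mp (this hj)
  · refine (closure_le _).mpr fun x hx => ?_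
    have hA' := (hmx A).mp hA
    have hxU : x ∈ U := (sSup_le fun B hB => hB.1 : sSup (Thompson.maxIn p U) ≤ U) hx.1.1
    have hAx : ∀ a ∈ A, Commute a x := fun a ha =>
      mem_centralizer_iff.mp hx.1.2 a (le_sSup hA' ha)
    have hnorm : zpowers x ≤ normalizer (A : Set G) := by
      refine (zpowers_le.mpr (mem_centralizer_iff.mpr hAx)).trans ?_
      intro c hc
      rw [mem_normalizer_iff]
      intro y
      constructor
      · intro hy
        rwa [← mem_centralizer_iff.mp hc y hy, mul_inv_cancel_right]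
      · intro hy
        have := mem_centralizer_iff.mp hc _ hy
        rw [inv_mul_cancel_right] at this
        rwa [← mul_left_cancel this] at hy
    have hcomm : ∀ a ∈ A, ∀ y ∈ zpowers x, Commute a y := by
      rintro a ha _ ⟨k, rfl⟩
      exact (hAx a ha).zpow_right k
    let M : Subgroup G :=
      { carrier := {y | ∃ a ∈ A, ∃ c ∈ zpowers x, y = a * c}
        one_mem' := ⟨1, A.one_mem, 1, one_mem _, (one_mul 1).symm⟩
        mul_mem' := by
          rintro _ _ ⟨a, ha, c, hc, rfl⟩ ⟨a', ha', c', hc', rfl⟩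
          exact ⟨a * a', mul_mem ha ha', c * c', mul_mem hc hc',
            (hcomm a' ha' c hc).symm.mul_mul_mul_comm a c'⟩
        inv_mem' := by
          rintro _ ⟨a, ha, c, hc, rfl⟩
          exact ⟨a⁻¹, inv_mem ha, c⁻¹, inv_mem hc, by
            rw [mul_inv_rev, ← ((hcomm a ha c hc).inv_inv).eq]⟩ }
    have hM : Cfsg.IsElementaryAbelian p M := by
      refine ⟨⟨⟨?_⟩⟩, ?_⟩
      · rintro ⟨_, a, ha, c, hc, rfl⟩ ⟨_, a', ha', c', hc', rfl⟩
        refine Subtype.ext ?_
        show a * c * (a' * c') = a' * c' * (a * c)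
        obtain ⟨i, rfl⟩ := hc
        obtain ⟨j, rfl⟩ := hc'
        exact (Commute.mul_left
          ((show Commute a a' from Thompson.elab_commute hA'.2.1 ha ha').mul_right ((hAx a ha).zpow_right j))
          (((hAx a' ha').zpow_right i).symm.mul_right ((Commute.refl x).zpow_zpow i j)))
      · rintro _ ⟨a, ha, c, hc, rfl⟩
        rw [(hcomm a ha c hc).mul_pow, hA'.2.1.2 a ha, one_mul]
        obtain ⟨i, rfl⟩ := hc
        rw [← zpow_natCast, zpow_comm, zpow_natCast, hx.2, one_zpow]
    have hAM : A ≤ M := fun a ha => ⟨a, ha, 1, one_mem _, (mul_one a).symm⟩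
    have hMU : M ≤ U := by
      rintro _ ⟨a, ha, c, hc, rfl⟩
      exact U.mul_mem (hA'.1 ha) (zpowers_le.mpr hxU hc)
    have := Solvable.eq_of_le_of_card_le hAM (hA'.2.2 M hMU hM)
    rw [this]
    exact ⟨1, A.one_mem, x, mem_zpowers x, (one_mul x).symm⟩

theorem famCenter_abelian_eq (U : Subgroup G) :
    famCenter (fun A : Subgroup G => IsMulCommutative A) U = Cfsg.centerThompsonAOf U := by
  have himg : ∀ A, A ∈ fam (fun A : Subgroup G => IsMulCommutative A) U ↔
      ∃ A₀ ∈ Cfsg.maxAbelianSubgroups U, A₀.map U.subtype = A := by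
    intro A
    constructor
    · rintro ⟨hA, hAU, hmax⟩
      refine ⟨A.subgroupOf U, ⟨?_, fun B hB => ?_⟩, map_subgroupOf_eq_of_le hAU⟩
      · exact ⟨⟨fun x y => Subtype.ext (Subtype.ext (by
          simpa using congrArg Subtype.val (hA.is_comm.comm ⟨_, x.2⟩ ⟨_, y.2⟩)))⟩⟩
      · rw [Nat.card_congr (subgroupOfEquivOfLe hAU).toEquiv,
          Nat.card_congr (B.equivMapOfInjective _ U.subtype_injective).toEquiv]
        haveI := hB
        exact hmax _ (Subgroup.map_isMulCommutative B U.subtype) (map_subtype_le B)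
    · rintro ⟨A₀, hA₀, rfl⟩
      haveI := hA₀.1
      refine ⟨Subgroup.map_isMulCommutative A₀ U.subtype, map_subtype_le A₀, fun B hB hBU => ?_⟩
      rw [← Nat.card_congr (subgroupOfEquivOfLe hBU).toEquiv,
        ← Nat.card_congr (A₀.equivMapOfInjective _ U.subtype_injective).toEquiv]
      exact hA₀.2 _ ⟨⟨fun x y => Subtype.ext (Subtype.ext (by
        simpa using congrArg Subtype.val (hB.is_comm.comm ⟨_, x.2⟩ ⟨_, y.2⟩)))⟩⟩
  have hJ : Cfsg.thompsonSubgroupAOf U = sSup (fam (fun A : Subgroup G => IsMulCommutative A) U) := by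
    rw [Cfsg.thompsonSubgroupAOf, Cfsg.thompsonSubgroupA]
    refine le_antisymm (map_le_iff_le_comap.mpr (sSup_le fun A₀ hA₀ => ?_)) (sSup_le fun A hA => ?_)
    · exact map_le_iff_le_comap.mp (le_sSup ((himg _).mpr ⟨A₀, hA₀, rfl⟩))
    · obtain ⟨A₀, hA₀, rfl⟩ := (himg A).mp hA
      exact map_mono (le_sSup hA₀)
  rw [Cfsg.centerThompsonAOf, hJ]
  obtain ⟨A0, hA0⟩ := exists_fam admissible_abelian U
  refine le_antisymm ?_ (le_sInf fun A hA => ?_)
  · intro x hx
    refine ⟨le_sSup hA0 (Subgroup.mem_sInf.mp hx A0 hA0), ?_⟩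
    have : sSup (fam (fun A : Subgroup G => IsMulCommutative A) U) ≤ centralizer {x} :=
      sSup_le fun A hA a ha => mem_centralizer_singleton_iff.mpr
        (congrArg Subtype.val (hA.1.is_comm.comm ⟨a, ha⟩ ⟨x, Subgroup.mem_sInf.mp hx A hA⟩))
    exact mem_centralizer_iff.mpr fun j hj => mem_centralizer_singleton_iff.mp (this hj)
  · intro x hx
    have hxU : x ∈ U := (sSup_le fun B hB => hB.2.1 :
      sSup (fam (fun A : Subgroup G => IsMulCommutative A) U) ≤ U) hx.1
    have hAx : ∀ a ∈ A, a * x = x * a := fun a ha => mem_centralizer_iff.mp hx.2 a (le_sSup hA ha)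
    have hcl : IsMulCommutative (closure (insert x (A : Set G))) := by
      refine Subgroup.isMulCommutative_closure ?_
      rintro a (rfl | ha) b (rfl | hb)
      · rfl
      · exact (hAx b hb).symm
      · exact hAx a ha
      · exact congrArg Subtype.val (hA.1.is_comm.comm ⟨a, ha⟩ ⟨b, hb⟩)
    have hle : closure (insert x (A : Set G)) ≤ U :=
      (closure_le _).mpr (Set.insert_subset hxU hA.2.1)
    have heq := Solvable.eq_of_le_of_card_le
      (fun a ha => subset_closure (Set.mem_insert_of_mem x ha)) (hA.2.2 _ hcl hle)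
    rw [heq]
    exact subset_closure (Set.mem_insert x _)

end CfsgLib.ZJ
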