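import Cfsg.Agent.ZJ.Alperin
import Cfsg.Agent.ZJ.ZJCenter

/-!
Control of strong fusion in a group with nontrivial p-core.
-/

set_option autoImplicit false

namespace CfsgLib.ZJ

open Subgroup CfsgLib.Functor
open scoped CfsgLib.Functor commutatorElement

variable {G : Type*} [Group G] [Finite G] {p : ℕ} [Fact p.Prime]

/-- The elements that are in the p-core modulo the centralizer of the p-core. -/
def coreKer (p : ℕ) (G : Type*) [Group G] [Finite G] : Subgroup G :=
  (Cfsg.pCore p (G ⧸ centralizer (Cfsg.pCore p G : Set G))).comap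
    (QuotientGroup.mk' (centralizer (Cfsg.pCore p G : Set G)))

theorem mem_coreKer {x : G} :
    x ∈ coreKer p G ↔ PCoreMod p (centralizer (Cfsg.pCore p G : Set G)) x :=
  (pcoreMod_iff _ x).symm

instance coreKer_normal : (coreKer p G).Normal := Normal.comap inferInstance _

theorem coreKer_pow {x : G} (hx : x ∈ coreKer p G) :
    ∃ k, x ^ p ^ k ∈ centralizer (Cfsg.pCore p G : Set G) := by
  obtain ⟨D, -, hxD, hD⟩ := mem_coreKer.mp hx
  exact hD x hxD

theorem pCore_le_sylow (S : Sylow p G) : Cfsg.pCore p G ≤ S := by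
  obtain ⟨R, hR⟩ := (Solvable.isPGroup_pCore p : IsPGroup p (Cfsg.pCore p G)).exists_le_sylow
  obtain ⟨g, rfl⟩ := MulAction.exists_smul_eq G R S
  intro x hx
  rw [Sylow.coe_subgroup_smul]
  exact ⟨g⁻¹ * x * g, hR (by simpa using (Solvable.pCore_normal p).conj_mem x hx g⁻¹),
    by simp [mul_assoc]⟩

theorem inf_coreKer_sylowIn (S : Sylow p G) :
    IsSylowIn p ((S : Subgroup G) ⊓ coreKer p G) (coreKer p G) :=
  (isSylowIn_top S).inf_normal le_top (by rw [normalizer_eq_top (H := coreKer p G)])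

theorem coreKer_le_sup (S : Sylow p G) :
    coreKer p G ≤ ((S : Subgroup G) ⊓ coreKer p G) ⊔ centralizer (Cfsg.pCore p G : Set G) :=
  le_of_sylowIn_of_mod (inf_coreKer_sylowIn S) (fun _ hx => coreKer_pow hx) le_sup_left
    (inf_le_right.trans le_sup_right)

/-- Every element is a product of one centralizing the p-core and one normalizing the Sylow
subgroup of the core kernel. -/
theorem exists_centralizer_mul_normalizer (S : Sylow p G) (g : G) :
    ∃ c ∈ centralizer (Cfsg.pCore p G : Set G),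
      ∃ e ∈ normalizer (((S : Subgroup G) ⊓ coreKer p G : Subgroup G) : Set G), g = c * e := by
  set T := (S : Subgroup G) ⊓ coreKer p G with hT
  obtain ⟨k, hk, hkeq⟩ := (inf_coreKer_sylowIn S).exists_cj_eq ((inf_coreKer_sylowIn S).cj_of_mem
    (g := g) (by rw [normalizer_eq_top (H := coreKer p G)]; exact mem_top g))
  rw [cj_cj, ← mem_normalizer_iff_cj] at hkeq
  obtain ⟨t, ht, c, hc, hkc⟩ :=
    mem_sup_of_normal_right.mp (coreKer_le_sup S (inv_mem hk))
  refine ⟨t * c * t⁻¹, (inferInstance : (centralizer (Cfsg.pCore p G : Set G)).Normal).conj_mem c hc t,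
    t * (k * g), mul_mem (le_normalizer ht) hkeq, ?_⟩
  calc g = k⁻¹ * (k * g) := by group
    _ = _ := by rw [← hkc]; group

/-- An abelian subgroup, normalized by the Sylow subgroup, is normal when the core kernel meets the
Sylow subgroup in the p-core only. -/
theorem normal_of_coreKer (S : Sylow p G) {W : Subgroup G} (hWS : W ≤ S)
    (hSW : (S : Subgroup G) ≤ normalizer (W : Set G)) (hcomm : ∀ x ∈ W, ∀ y ∈ W, x * y = y * x)
    (hst : StableNormal p G) (hT : (S : Subgroup G) ⊓ coreKer p G ≤ Cfsg.pCore p G)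
    (hn : (Cfsg.pCore p G ⊓ W).Normal) : W.Normal := by
  suffices W ≤ Cfsg.pCore p G by rwa [inf_eq_right.mpr this] at hn
  intro z hz
  refine hT ⟨hWS hz, mem_coreKer.mpr (hst _ (Solvable.isPGroup_pCore p) z ?_)⟩
  have hzW : zpowers z ≤ W := zpowers_le.mpr hz
  have h1 : ⁅Cfsg.pCore p G, zpowers z⁆ ≤ W := by
    rw [commutator_le]
    intro x hx y hy
    rw [commutatorElement_def]
    exact W.mul_mem ((mem_normalizer_iff.mp (hSW (pCore_le_sylow S hx)) y).mp (hzW hy))
      (W.inv_mem (hzW hy))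
  refine le_bot_iff.mp ((commutator_mono h1 hzW).trans (le_of_eq ?_))
  rw [commutator_eq_bot_iff_le_centralizer]
  exact fun x hx => mem_centralizer_iff.mpr fun y hy => hcomm y hy x hx

/-- A power of an element stabilizing `1 ≤ P ≤ B` centralizes `B`. -/
theorem pow_mem_centralizer_of_step {P B : Subgroup G} {x : G} (hP : IsPGroup p P)
    (hxP : x ∈ centralizer (P : Set G)) (hxB : ∀ u ∈ B, x * u * x⁻¹ * u⁻¹ ∈ P) :
    ∃ k, x ^ p ^ k ∈ centralizer (B : Set G) := by
  obtain ⟨k, hk⟩ := hP.exists_card_eq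
  refine ⟨k, mem_centralizer_iff.mpr fun u hu => ?_⟩
  set z := x * u * x⁻¹ * u⁻¹ with hz
  have hzP : z ∈ P := hxB u hu
  have hzx : Commute z x := mem_centralizer_iff.mp hxP z hzP
  have key : ∀ j : ℕ, x ^ j * u = z ^ j * u * x ^ j := by
    intro j
    induction j with
    | zero => simp
    | succ j ih =>
      have hxu : x * u = z * u * x := by rw [hz]; group
      rw [pow_succ, mul_assoc, hxu, ← mul_assoc, ← mul_assoc, ← (hzx.pow_right j).eq, mul_assoc z,
        ih, pow_succ' z]
      simp only [mul_assoc]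
  have hzk : z ^ p ^ k = 1 := orderOf_dvd_iff_pow_eq_one.mp (hk ▸ P.orderOf_dvd_natCard hzP)
  rw [key, hzk, one_mul]

end CfsgLib.ZJ
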