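import Cfsg.Agent.ZJ.Constrained
import Cfsg.Agent.ZJ.ControlCore
import Cfsg.Agent.Transfer.Frobenius
import Cfsg.Agent.Transfer.Basic

/-!
Reduction of normal p-complement theorems to a critical configuration.
-/

set_option autoImplicit false
set_option linter.style.haveILetI false

namespace CfsgLib.ZJ

open Subgroup CfsgLib.Functor
open scoped CfsgLib.Functor commutatorElement

universe u

variable {p : ℕ} [Fact p.Prime]

section Closure

variable {G H : Type*} [Group G] [Group H] [Finite G] [Finite H]

theorem hnpc_of_surjective (f : G →* H) (hf : Function.Surjective f)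
    (h : Cfsg.HasNormalPComplement p G) : Cfsg.HasNormalPComplement p H := by
  rw [PResidual.hasNormalPComplement_iff] at h
  obtain ⟨k, hk⟩ := PResidual.exists_index_pResidual (G := G) (p := p)
  haveI : ((Cfsg.pResidual p G).map f).Normal := Normal.map inferInstance f hf
  have hd : ((Cfsg.pResidual p G).map f).index ∣ p ^ k :=
    hk ▸ index_map_dvd (Cfsg.pResidual p G) hf
  obtain ⟨j, -, hj⟩ := (Nat.dvd_prime_pow Fact.out).mp hd
  exact PResidual.hasNormalPComplement_of_normal (h.coprime_dvd_left (card_map_dvd _ f)) hj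

theorem hnpc_of_quotient (N : Subgroup G) [N.Normal] (hN : (Nat.card N).Coprime p)
    (h : Cfsg.HasNormalPComplement p (G ⧸ N)) : Cfsg.HasNormalPComplement p G := by
  rw [PResidual.hasNormalPComplement_iff] at h
  obtain ⟨k, hk⟩ := PResidual.exists_index_pResidual (G := G ⧸ N) (p := p)
  refine PResidual.hasNormalPComplement_of_normal
    (N := (Cfsg.pResidual p (G ⧸ N)).comap (QuotientGroup.mk' N)) (k := k) ?_ ?_
  · have e := QuotientGroup.card_preimage_mk N ((Cfsg.pResidual p (G ⧸ N) : Subgroup (G ⧸ N)) : Set (G ⧸ N))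
    change Nat.card ↥((Cfsg.pResidual p (G ⧸ N)).comap (QuotientGroup.mk' N)) = _ at e
    rw [e]
    exact hN.mul_left h
  · rw [index_comap_of_surjective _ (QuotientGroup.mk'_surjective N), hk]

theorem hnpc_of_le {A B : Subgroup G} (hAB : A ≤ B) (h : Cfsg.HasNormalPComplement p B) :
    Cfsg.HasNormalPComplement p A :=
  PResidual.hasNormalPComplement_of_injective (inclusion hAB) (inclusion_injective hAB) h

theorem hnpc_subgroupMap {M : Subgroup G} (X : Subgroup M) :
    Cfsg.HasNormalPComplement p (X.map M.subtype) → Cfsg.HasNormalPComplement p X :=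
  PResidual.hasNormalPComplement_of_injective
    (X.equivMapOfInjective _ M.subtype_injective).toMonoidHom (MulEquiv.injective _)

/-- A p'-group with a normalizing Sylow subgroup as maximal subgroup is commutative. -/
theorem comm_of_maximal_sylow (P : Sylow p G) (K : Subgroup G) [K.Normal]
    (hK : (Nat.card K).Coprime p)
    (hmax : ∀ M : Subgroup G, (P : Subgroup G) ≤ M → M = P ∨ M = ⊤) :
    ∀ x ∈ K, ∀ y ∈ K, x * y = y * x := by
  by_cases hK1 : K = ⊥
  · intro x hx y hy
    rw [hK1, mem_bot] at hx hy
    rw [hx, hy]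
  -- a subgroup of `K` normalized by `P` is trivial or everything
  have key : ∀ T : Subgroup G, T ≤ K → (P : Subgroup G) ≤ normalizer (T : Set G) → T ≠ ⊥ → T = K := by
    intro T hTK hPT hT1
    have hdT : (P : Subgroup G) ⊓ T = ⊥ :=
      isPGroup_inf_coprime P.2 (hK.coprime_dvd_left (card_dvd_of_le hTK))
    rcases hmax ((P : Subgroup G) ⊔ T) le_sup_left with h | h
    · exact absurd (le_bot_iff.mp (hdT ▸ le_inf (h ▸ le_sup_right) le_rfl)) hT1
    · refine Solvable.eq_of_le_of_card_le hTK ?_
      have h1 := Solvable.card_sup_of_disjoint hPT hdT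
      have h2 := Solvable.card_sup_of_disjoint (A := (P : Subgroup G)) (K := K)
        le_normalizer_of_normal (isPGroup_inf_coprime P.2 hK)
      rw [h, card_top] at h1
      have h3 : Nat.card ↥((P : Subgroup G) ⊔ K) ≤ Nat.card G := card_le_card_group _
      rw [h2, h1] at h3
      exact Nat.le_of_mul_le_mul_left h3 Nat.card_pos
  obtain ⟨q, hq, hqK⟩ := Nat.exists_prime_and_dvd
    (fun h => hK1 (eq_bot_of_card_eq _ h) : Nat.card K ≠ 1)
  haveI := Fact.mk hq
  obtain ⟨Q0⟩ := (inferInstance : Nonempty (Sylow q K))
  set N := normalizer (((Q0 : Subgroup K).map K.subtype : Subgroup G) : Set G) with hN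
  have hsup : N ⊔ K = ⊤ := Q0.normalizer_sup_eq_top
  obtain ⟨R⟩ := (inferInstance : Nonempty (Sylow p N))
  obtain ⟨S, hS⟩ := (R.2.map N.subtype).exists_le_sylow
  have hRS : (R : Subgroup N).map N.subtype = S := by
    refine Solvable.eq_of_le_of_card_le hS ?_
    rw [card_map_of_injective N.subtype_injective, S.card_eq_multiplicity, R.card_eq_multiplicity]
    refine Nat.pow_le_pow_right (Fact.out : p.Prime).pos (le_of_eq ?_)
    have hd : N.index ∣ Nat.card K := by
      have h1 := Solvable.card_sup_mul_card_inf (A := N) (K := K) le_normalizer_of_normal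
      rw [hsup, card_top, ← N.card_mul_index, mul_assoc] at h1
      exact ⟨_, (Nat.eq_of_mul_eq_mul_left Nat.card_pos h1).symm⟩
    conv_lhs => rw [← N.card_mul_index]
    rw [Nat.factorization_mul Nat.card_pos.ne' index_ne_zero_of_finite, Finsupp.add_apply,
      Nat.factorization_eq_zero_of_not_dvd fun h => (Fact.out : p.Prime).coprime_iff_not_dvd.mp
        hK.symm (h.trans hd), add_zero]
  obtain ⟨g, hg⟩ := MulAction.exists_smul_eq G S P
  have hPS : g ⋆ (S : Subgroup G) = P := by
    rw [← hg, Sylow.coe_subgroup_smul]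
    rfl
  set T := g ⋆ (Q0 : Subgroup K).map K.subtype with hTdef
  have hTK : T ≤ K := cj_le_iff.mpr fun x hx =>
    (inferInstance : K.Normal).conj_mem x (map_subtype_le _ hx) g
  have hPT : (P : Subgroup G) ≤ normalizer (T : Set G) := by
    rw [← hPS, ← hRS, cj_le_iff]
    intro x hx
    rw [hTdef, mem_normalizer_iff_cj, cj_cj,
      show g * x * g⁻¹ * g = g * x by group, ← cj_cj,
      mem_normalizer_iff_cj.mp (map_subtype_le _ hx)]
  have hT1 : T ≠ ⊥ := by
    intro h
    have h1 := congrArg (fun U : Subgroup G => Nat.card U) h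
    simp only [hTdef, card_cj, card_map_of_injective K.subtype_injective, card_bot] at h1
    exact Q0.ne_bot_of_dvd_card hqK (eq_bot_of_card_eq _ h1)
  have hTeq := key T hTK hPT hT1
  have hKq : IsPGroup q K := hTeq ▸ ((Q0.2.map _).map _)
  haveI := hKq.isNilpotent
  haveI := (nontrivial_iff_ne_bot K).2 hK1
  haveI : ((center K).map K.subtype).Normal := inferInstance
  have hZ := key ((center K).map K.subtype) (map_subtype_le _) le_normalizer_of_normal
    (fun h => Group.IsNilpotent.center_ne_bot (G := K)
      (by rwa [map_eq_bot_iff_of_injective _ K.subtype_injective] at h))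
  intro x hx y hy
  rw [← hZ] at hx
  obtain ⟨z, hz, rfl⟩ := hx
  exact congrArg Subtype.val (mem_center_iff.mp hz ⟨y, hy⟩).symm

end Closure

/-- A family of local subgroups `X i U ≤ N(E i U)` attached to the p-subgroups `U`. -/
structure LocalSystem (p : ℕ) {ι : Type}
    (E X : ι → ∀ (G : Type u) [Group G], Subgroup G → Subgroup G) : Prop where
  le : ∀ (i : ι) (G : Type u) [Group G] [Finite G] (U : Subgroup G), E i G U ≤ U
  ne_bot : ∀ (i : ι) (G : Type u) [Group G] [Finite G] (U : Subgroup G),
    IsPGroup p U → U ≠ ⊥ → E i G U ≠ ⊥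
  normalizer_le : ∀ (i : ι) (G : Type u) [Group G] [Finite G] (U : Subgroup G),
    normalizer (U : Set G) ≤ normalizer ((E i G U : Subgroup G) : Set G)
  le_normalizer : ∀ (i : ι) (G : Type u) [Group G] [Finite G] (U : Subgroup G),
    X i G U ≤ normalizer ((E i G U : Subgroup G) : Set G)
  self_le : ∀ (i : ι) (G : Type u) [Group G] [Finite G] (U : Subgroup G), U ≤ X i G U
  map : ∀ (i : ι) (G : Type u) [Group G] [Finite G] (M : Subgroup G) (R : Subgroup M),
    (X i M R).map M.subtype ≤ X i G (R.map M.subtype)
  quot : ∀ (i : ι) (G : Type u) [Group G] [Finite G] (N : Subgroup G) [N.Normal],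
    (Nat.card N).Coprime p → ∀ U : Subgroup G, IsPGroup p U →
      X i (G ⧸ N) (U.map (QuotientGroup.mk' N)) ≤ (X i G U).map (QuotientGroup.mk' N)

variable {ι : Type} {E X : ι → ∀ (G : Type u) [Group G], Subgroup G → Subgroup G}

/-- Complements in the locals of a system give one in the group, given the critical configuration. -/
theorem LocalSystem.hasNormalPComplement (K : LocalSystem p E X)
    (Good : ∀ (G : Type u) [Group G], Prop)
    (hsub : ∀ (G : Type u) [Group G] [Finite G] (M : Subgroup G), Good G → Good M)
    (hquo : ∀ (G : Type u) [Group G] [Finite G] (N : Subgroup G) [N.Normal], Good G → Good (G ⧸ N))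
    (final : ∀ (G : Type u) [Group G] [Finite G] (P : Sylow p G), Good G →
      (∀ i, Cfsg.HasNormalPComplement p (X i G (P : Subgroup G))) →
      centralizer (Cfsg.pCore p G : Set G) ≤ Cfsg.pCore p G →
      (∀ M : Subgroup G, (P : Subgroup G) ≤ M → M = P ∨ M = ⊤) →
      ∀ L : Subgroup G, (∀ x : G, ∃ k, x ^ p ^ k ∈ L) →
        (∀ x ∈ L, ∀ y ∈ L, x * y * x⁻¹ * y⁻¹ ∈ Cfsg.pCore p G) → L.Normal →
        (∀ x ∈ L, ∃ m : ℕ, m.Coprime p ∧ x ^ m ∈ Cfsg.pCore p G) →
        Cfsg.HasNormalPComplement p G)
    (G : Type u) [Group G] [Finite G] (P : Sylow p G) (hgood : Good G)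
    (hN : ∀ i, Cfsg.HasNormalPComplement p (X i G (P : Subgroup G))) :
    Cfsg.HasNormalPComplement p G := by
  obtain ⟨n, hn⟩ : ∃ n, Nat.card G = n := ⟨_, rfl⟩
  induction n using Nat.strong_induction_on generalizing G with
  | _ n ih =>
    subst hn
    by_contra hG
    -- the criterion in a proper subgroup
    have sub : ∀ (M : Subgroup G), M ≠ ⊤ → ∀ (R : Sylow p M),
        (∀ i, Cfsg.HasNormalPComplement p (X i G ((R : Subgroup M).map M.subtype))) →
        Cfsg.HasNormalPComplement p M := fun M hM R h =>
      ih _ (Solvable.card_lt_of_ne_top hM) M R (hsub G M hgood)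
        (fun i => hnpc_subgroupMap _ (hnpc_of_le (K.map i G M _) (h i))) rfl
    have supP : ∀ M : Subgroup G, M ≠ ⊤ → (P : Subgroup G) ≤ M →
        Cfsg.HasNormalPComplement p M := by
      intro M hM hPM
      refine sub M hM (P.subtype hPM) ?_
      rw [Sylow.coe_subtype, map_subgroupOf_eq_of_le hPM]
      exact hN
    -- a normal p-subgroup
    have hex : ∃ Q : Subgroup G, IsPGroup p Q ∧ Q ≠ ⊥ ∧
        ¬ Cfsg.HasNormalPComplement p (normalizer (Q : Set G)) := by
      by_contra h
      exact hG (Fusion.hasNormalPComplement_iff_locals.mpr fun Q hQ hQ1 => by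
        by_contra h'
        exact h ⟨Q, hQ, hQ1, h'⟩)
    obtain ⟨Q, ⟨hQ, hQ1, hQn⟩, hQmax⟩ := Set.exists_max_image
      {Q : Subgroup G | IsPGroup p Q ∧ Q ≠ ⊥ ∧
        ¬ Cfsg.HasNormalPComplement p (normalizer (Q : Set G))}
      (fun Q => (Nat.card (normalizer (Q : Set G))).factorization p) (Set.toFinite _) hex
    obtain ⟨R⟩ := (inferInstance : Nonempty (Sylow p (normalizer (Q : Set G))))
    set T := (R : Subgroup (normalizer (Q : Set G))).map (normalizer (Q : Set G)).subtype with hT
    have hTp : IsPGroup p T := R.2.map _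
    obtain ⟨S, hTS⟩ := hTp.exists_le_sylow
    have hT1 : T ≠ ⊥ := by
      intro h
      rw [hT, map_eq_bot_iff_of_injective _ (subtype_injective _)] at h
      refine R.ne_bot_of_dvd_card ?_ h
      refine dvd_trans ?_ (card_dvd_of_le (Subgroup.le_normalizer (H := Q)))
      obtain ⟨k, hk⟩ := hQ.exists_card_eq
      rw [hk]
      refine dvd_pow_self p fun h0 => hQ1 (eq_bot_of_card_eq _ ?_)
      rw [hk, h0, pow_zero]
    have hTcard : Nat.card T = p ^ (Nat.card (normalizer (Q : Set G))).factorization p := by
      rw [hT, card_map_of_injective (subtype_injective _), R.card_eq_multiplicity]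
    have hTS' : T = S := by
      by_contra hne
      have hlt : T.subgroupOf (S : Subgroup G) < ⊤ := by
        refine lt_top_iff_ne_top.mpr fun h => hne ?_
        exact le_antisymm hTS (subgroupOf_eq_top.mp h)
      haveI := S.2.isNilpotent
      have hlt' := Group.normalizerCondition_of_isNilpotent (T.subgroupOf (S : Subgroup G)) hlt
      have h1 : ∀ i, p ^ ((Nat.card (normalizer (Q : Set G))).factorization p + 1) ∣
          Nat.card (normalizer ((E i G T : Subgroup G) : Set G)) := by
        intro i
        set U := (normalizer ((T.subgroupOf (S : Subgroup G) : Subgroup _) : Set (S : Subgroup G))).map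
          (S : Subgroup G).subtype with hU
        have hUN : U ≤ normalizer ((E i G T : Subgroup G) : Set G) := by
          refine le_trans ?_ (K.normalizer_le i G T)
          rw [hU, ← map_subgroupOf_eq_of_le hTS]
          simpa [map_subgroupOf_eq_of_le hTS] using
            (le_normalizer_map (S : Subgroup G).subtype (H := T.subgroupOf (S : Subgroup G)))
        obtain ⟨m, hm⟩ := (S.2.to_le (map_subtype_le _) : IsPGroup p U).exists_card_eq
        have hTU : Nat.card T < Nat.card U := by
          have h0 := Solvable.card_lt_of_lt hlt'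
          rw [Nat.card_congr (subgroupOfEquivOfLe hTS).toEquiv] at h0
          refine lt_of_lt_of_eq h0 ?_
          exact Nat.card_congr (equivMapOfInjective _ _ (subtype_injective _)).toEquiv
        rw [hTcard, hm] at hTU
        refine (dvd_trans ?_ (hm ▸ card_dvd_of_le hUN))
        exact pow_dvd_pow p ((Nat.pow_lt_pow_iff_right (Fact.out : p.Prime).one_lt).mp hTU)
      have h2 : ∀ i, Cfsg.HasNormalPComplement p (X i G T) := by
        intro i
        refine hnpc_of_le (K.le_normalizer i G T) ?_
        by_contra h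
        have hle := hQmax (E i G T) ⟨hTp.to_le (K.le i G T), K.ne_bot i G T hTp hT1, h⟩
        have := ((Fact.out : p.Prime).pow_dvd_iff_le_factorization Nat.card_pos.ne').mp (h1 i)
        omega
      refine hQn (sub _ (fun htop => ?_) R h2)
      apply hne
      refine Solvable.eq_of_le_of_card_le hTS ?_
      rw [hTcard, S.card_eq_multiplicity, htop, card_top]
    have hQnormal : Q.Normal := by
      obtain ⟨g, hg⟩ := MulAction.exists_smul_eq G S P
      have hPQ : (P : Subgroup G) ≤ normalizer ((g ⋆ Q : Subgroup G) : Set G) := by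
        rw [← hg, Sylow.coe_subgroup_smul]
        rw [← hTS']
        refine le_trans (map_mono (map_subtype_le _)) ?_
        exact le_normalizer_map _
      by_contra hnn
      have hne : normalizer ((g ⋆ Q : Subgroup G) : Set G) ≠ ⊤ := fun h =>
        hnn (by
          haveI : (g ⋆ Q).Normal := normalizer_eq_top_iff.mp h
          have := (inferInstance : (g ⋆ Q).Normal)
          refine ⟨fun x hx y => ?_⟩
          have h3 := this.conj_mem _ (conj_mem_cj (g := g) hx) (g * y * g⁻¹)
          have h4 := mem_cj.mp h3
          simpa [mul_assoc] using h4)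
      refine hQn (PResidual.hasNormalPComplement_of_injective
        (((MulAut.conj g).toMonoidHom.comp (normalizer (Q : Set G)).subtype).codRestrict
          (normalizer ((g ⋆ Q : Subgroup G) : Set G)) fun x => le_normalizer_map _ ⟨_, x.2, rfl⟩)
        (fun a b h => Subtype.ext ((MulAut.conj g).injective (congrArg Subtype.val h)))
        (supP _ hne hPQ))
    set H := Cfsg.pCore p G with hH
    have hH1 : H ≠ ⊥ := fun h => hQ1 (le_bot_iff.mp (h ▸ Solvable.le_pCore p hQnormal hQ))
    -- no normal p'-subgroup
    have hO : Cfsg.pPrimeCore p G = ⊥ := by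
      by_contra hne
      set N := Cfsg.pPrimeCore p G with hNdef
      have hcop : (Nat.card N).Coprime p := Solvable.coprime_card_pPrimeCore p
      set π := QuotientGroup.mk' N with hπ
      have hinj : ∀ x ∈ (P : Subgroup G), π x = 1 → x = 1 := fun x hx h =>
        mem_bot.mp (isPGroup_inf_coprime P.2 hcop ▸
          (⟨hx, (QuotientGroup.eq_one_iff x).mp h⟩ : x ∈ (P : Subgroup G) ⊓ N))
      refine hG (hnpc_of_quotient N hcop (ih _ (Solvable.card_quotient_lt hne) _
        (P.mapSurjective (QuotientGroup.mk'_surjective N)) (hquo G N hgood) (fun i => ?_) rfl))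
      refine hnpc_of_le (K.quot i G N hcop _ P.2) ?_
      exact hnpc_of_surjective (π.subgroupMap (X i G (P : Subgroup G)))
        (π.subgroupMap_surjective _) (hN i)
    -- the quotient by the p-core
    set π := QuotientGroup.mk' H with hπ
    set Pb := P.mapSurjective (f := π) (QuotientGroup.mk'_surjective H) with hPb
    have hPbc : (Pb : Subgroup (G ⧸ H)).comap π = P := by
      show ((P : Subgroup G).map π).comap π = _
      rw [comap_map_eq, QuotientGroup.ker_mk']
      exact sup_eq_left.mpr (pCore_le_sylow P)
    have hquot : Cfsg.HasNormalPComplement p (G ⧸ H) := by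
      by_cases hb : (Pb : Subgroup (G ⧸ H)) = ⊥
      · refine PResidual.hasNormalPComplement_of_normal (N := ⊤) (k := 0) ?_ (by simp)
        rw [card_top]
        exact PResidual.coprime_of_not_dvd Fact.out fun h => Pb.ne_bot_of_dvd_card h hb
      refine ih _ (Solvable.card_quotient_lt hH1) _ Pb (hquo G H hgood) (fun i => ?_) rfl
      set Zb := E i (G ⧸ H) (Pb : Subgroup (G ⧸ H)) with hZb
      set M := (X i (G ⧸ H) (Pb : Subgroup (G ⧸ H))).comap π with hM
      have hPM : (P : Subgroup G) ≤ M := hPbc ▸ comap_mono (K.self_le i _ _)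
      have hMne : M ≠ ⊤ := by
        intro htop
        have hn : Zb.Normal := normalizer_eq_top_iff.mp (by
          rw [eq_top_iff]
          intro y _
          obtain ⟨y, rfl⟩ := QuotientGroup.mk'_surjective H y
          exact K.le_normalizer i _ _ (mem_comap.mp (htop ▸ mem_top y : y ∈ M)))
        apply K.ne_bot i _ _ Pb.2 hb
        rw [← hZb, ← map_comap_eq_self_of_surjective (QuotientGroup.mk'_surjective H) Zb,
          Subgroup.map_eq_bot_iff, QuotientGroup.ker_mk']
        exact Solvable.le_pCore p (hn.comap _) (P.2.to_le (hPbc ▸ comap_mono (K.le i _ _)))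
      exact hnpc_of_surjective (π.subgroupComap _)
        (π.subgroupComap_surjective_of_surjective _ (QuotientGroup.mk'_surjective H))
        (supP M hMne hPM)
    set Lb := Cfsg.pResidual p (G ⧸ H) with hLb
    have hLcop := PResidual.hasNormalPComplement_iff.mp hquot
    set L := Lb.comap π with hL
    -- the centralizer of the p-core
    have hC : centralizer (H : Set G) ≤ H := by
      set C := centralizer (H : Set G) with hC
      -- first inside `L`
      have h1 : C ⊓ L ≤ H := by
        haveI : (H.subgroupOf (C ⊓ L)).Normal := inferInstance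
        obtain ⟨R⟩ := (inferInstance : Nonempty (Sylow p ↥(C ⊓ L)))
        have hRH : ∀ r : (C ⊓ L : Subgroup G), r ∈ (R : Subgroup ↥(C ⊓ L)) → (r : G) ∈ H := by
          intro r hr
          refine (QuotientGroup.eq_one_iff _).mp (mem_bot.mp ?_)
          rw [← isPGroup_inf_coprime ((R.2.map (Subgroup.subtype _)).map π) hLcop]
          exact ⟨⟨r, ⟨r, hr, rfl⟩, rfl⟩, r.2.2⟩
        have hRc : normalizer ((R : Subgroup ↥(C ⊓ L)) : Set ↥(C ⊓ L)) ≤
            centralizer ((R : Subgroup ↥(C ⊓ L)) : Set ↥(C ⊓ L)) := fun x _ =>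
          mem_centralizer_iff.mpr fun r hr => Subtype.ext
            (mem_centralizer_iff.mp x.2.1 r (hRH r hr))
        have hnc := TransferBasic.hasNormalPComplement_of_le_centralizer R hRc
        have hA : (Cfsg.pResidual p ↥(C ⊓ L)).map (C ⊓ L).subtype ≤ Cfsg.pPrimeCore p G := by
          refine Solvable.le_pPrimeCore p ?_ ?_
          · exact inferInstance
          · rw [card_map_of_injective (subtype_injective _)]
            exact PResidual.hasNormalPComplement_iff.mp hnc
        rw [hO, le_bot_iff, map_eq_bot_iff_of_injective _ (subtype_injective _)] at hA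
        intro x hx
        refine hRH ⟨x, hx⟩ ?_
        have : IsPGroup p ↥(C ⊓ L) := by
          intro y
          refine ⟨_, mem_bot.mp (hA ▸ PResidual.pow_mem_pResidual Fact.out y)⟩
        rw [← R.3 (this.to_subgroup ⊤) le_top]
        exact mem_top _
      refine Solvable.le_pCore p inferInstance fun c => ?_
      obtain ⟨k, hk⟩ := (PResidual.isPGroup_quotient_pResidual (G := G ⧸ H) (p := p))
        (QuotientGroup.mk' Lb (π c))
      have hk' : (c : G) ^ p ^ k ∈ C ⊓ L := ⟨pow_mem c.2 _, mem_comap.mpr (by
        rw [map_pow]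
        exact (QuotientGroup.eq_one_iff _).mp ((map_pow (QuotientGroup.mk' Lb) _ _).trans hk))⟩
      obtain ⟨j, hj⟩ := Solvable.isPGroup_pCore p ⟨_, h1 hk'⟩
      exact ⟨k + j, Subtype.ext (by simpa [pow_add, pow_mul] using congrArg Subtype.val hj)⟩
    -- the Sylow subgroup is maximal
    have hPmax : ∀ M : Subgroup G, (P : Subgroup G) ≤ M → M = P ∨ M = ⊤ := by
      intro M hPM
      by_cases hM : M = ⊤
      · exact Or.inr hM
      refine Or.inl (le_antisymm ?_ hPM)
      have hnc := supP M hM hPM
      have hcop := PResidual.hasNormalPComplement_iff.mp hnc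
      set N := (Cfsg.pResidual p M).map M.subtype with hNdef
      have hNcop : (Nat.card N).Coprime p := by
        rwa [hNdef, card_map_of_injective M.subtype_injective]
      have hMN : M ≤ normalizer (N : Set G) := by
        refine le_trans ?_ (le_normalizer_map M.subtype)
        rw [normalizer_eq_top, ← MonoidHom.range_eq_map, range_subtype]
      have hN1 : N ≤ centralizer (H : Set G) := by
        intro x hx
        refine mem_centralizer_iff.mpr fun h hh => commutatorElement_eq_one_iff_mul_comm.mp ?_
        refine mem_bot.mp (isPGroup_inf_coprime (Solvable.isPGroup_pCore p) hNcop ▸ ⟨?_, ?_⟩)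
        · rw [commutatorElement_def, mul_assoc, mul_assoc]
          refine mul_mem hh ?_
          rw [← mul_assoc]
          exact (Solvable.pCore_normal p).conj_mem _ (inv_mem hh) x
        · rw [commutatorElement_def]
          exact mul_mem ((mem_normalizer_iff.mp (hMN (hPM (pCore_le_sylow P hh))) x).mp hx)
            (N.inv_mem hx)
      have hN2 : N = ⊥ := le_bot_iff.mp (isPGroup_inf_coprime (Solvable.isPGroup_pCore p) hNcop ▸
        le_inf (hN1.trans hC) le_rfl)
      rw [hNdef, map_eq_bot_iff_of_injective _ M.subtype_injective] at hN2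
      have hMp : IsPGroup p M := fun y =>
        ⟨_, mem_bot.mp (hN2 ▸ PResidual.pow_mem_pResidual Fact.out y)⟩
      exact (P.3 hMp hPM).le
    refine hG (final G P hgood hN hC hPmax L (fun x => ?_) ?_ inferInstance fun x hx => ?_)
    · obtain ⟨k, hk⟩ := (PResidual.isPGroup_quotient_pResidual (G := G ⧸ H) (p := p))
        (QuotientGroup.mk' Lb (π x))
      refine ⟨k, mem_comap.mpr ?_⟩
      rw [map_pow]
      exact (QuotientGroup.eq_one_iff _).mp ((map_pow (QuotientGroup.mk' Lb) _ _).trans hk)
    · intro x hx y hy
      refine (QuotientGroup.eq_one_iff _).mp ?_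
      show π (x * y * x⁻¹ * y⁻¹) = 1
      rw [map_mul, map_mul, map_mul, map_inv, map_inv,
        comm_of_maximal_sylow Pb Lb hLcop (fun M hM => ?_) _ hx _ hy, mul_inv_cancel_right,
        mul_inv_cancel]
      rcases hPmax (M.comap π) (hPbc ▸ comap_mono hM) with h | h
      · left
        rw [← map_comap_eq_self_of_surjective (QuotientGroup.mk'_surjective H) M, h]
        rfl
      · right
        rw [← map_comap_eq_self_of_surjective (QuotientGroup.mk'_surjective H) M, h]
        exact map_top_of_surjective π (QuotientGroup.mk'_surjective H)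
    · refine ⟨Nat.card Lb, hLcop, (QuotientGroup.eq_one_iff _).mp ?_⟩
      show π (x ^ Nat.card Lb) = 1
      rw [map_pow]
      have h := pow_card_eq_one' (G := Lb) (x := ⟨π x, hx⟩)
      exact congrArg Subtype.val h

end CfsgLib.ZJ
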