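import Cfsg.Agent.ZJ.ControlMain
import Cfsg.Agent.ZJ.SL2Facts
import Cfsg.Agent.ZJ.Reduction

/-!
The Glauberman–Thompson normal p-complement theorem for centres of Thompson subgroups.
-/

set_option autoImplicit false
set_option linter.style.haveILetI false

namespace CfsgLib.ZJ

open Subgroup CfsgLib.Functor
open scoped CfsgLib.Functor commutatorElement

universe u

variable {p : ℕ} [Fact p.Prime]

variable {Z : ∀ (G : Type u) [Group G], Subgroup G → Subgroup G}

theorem ZKind.map_hom (K : ZKind p Z) {G H : Type u} [Group G] [Group H] [Finite G] [Finite H]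
    (f : G →* H) (U : Subgroup G) (hf : ∀ x ∈ U, f x = 1 → x = 1) :
    Z H (U.map f) = (Z G U).map f := by
  have h1 : Function.Injective (f.comp U.subtype) := by
    rw [injective_iff_map_eq_one]
    exact fun x hx => Subtype.ext (hf x x.2 hx)
  have e : (⊤ : Subgroup U).map U.subtype = U := by rw [← MonoidHom.range_eq_map, range_subtype]
  conv_lhs => rw [← e]
  rw [map_map, K.map U H _ ⊤ h1, ← map_map, ← K.map U G _ ⊤ U.subtype_injective, e]

/-- With an abelian normal p-complement modulo the p-core, `Qd(p)` is not involved. -/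
theorem free_of_critical (hp : p ≠ 2) {G : Type u} [Group G] [Finite G]
    (L : Subgroup G) (hL : ∀ x : G, ∃ k, x ^ p ^ k ∈ L)
    (hab : ∀ x ∈ L, ∀ y ∈ L, x * y * x⁻¹ * y⁻¹ ∈ Cfsg.pCore p G) :
    ¬ Cfsg.Involves ↥(Cfsg.qd p) G := by
  haveI : Fact (Nat.Prime 2) := ⟨Nat.prime_two⟩
  intro h
  obtain ⟨M, f, hf⟩ := exists_surjective_of_involves (involves_sl2_of_qd h)
  obtain ⟨T⟩ := (inferInstance : Nonempty (Sylow 2 G))
  refine sylow_two_noncomm hp M f hf T ⟨⟨fun a b => ?_⟩⟩
  have hTL : ∀ t : T, (t : G) ∈ L := by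
    intro t
    obtain ⟨k, hk⟩ := hL t
    obtain ⟨n, hn⟩ := T.2 t
    have ht : (t : G) ^ 2 ^ n = 1 := by simpa using congrArg Subtype.val hn
    obtain ⟨m, hm⟩ := exists_pow_eq_self_of_coprime (x := (t : G)) (n := p ^ k)
      (((Nat.coprime_primes Fact.out Nat.prime_two).mpr hp).pow k n |>.coprime_dvd_right
        (orderOf_dvd_of_pow_eq_one ht))
    rw [← hm]
    exact pow_mem hk m
  have hd : (T : Subgroup G) ⊓ Cfsg.pCore p G = ⊥ := isPGroup_inf_coprime T.2 (by
    obtain ⟨j, hj⟩ := (Solvable.isPGroup_pCore p (G := G)).exists_card_eq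
    rw [hj]
    exact ((Nat.coprime_primes Fact.out Nat.prime_two).mpr hp).pow_left j)
  have hab' : (a : G) * b * (a : G)⁻¹ * (b : G)⁻¹ ∈ (⊥ : Subgroup G) :=
    hd ▸ ⟨(T : Subgroup G).mul_mem ((T : Subgroup G).mul_mem ((T : Subgroup G).mul_mem a.2 b.2) ((T : Subgroup G).inv_mem a.2)) ((T : Subgroup G).inv_mem b.2), hab _ (hTL a) _ (hTL b)⟩
  rw [mem_bot, mul_inv_eq_one, mul_inv_eq_iff_eq_mul] at hab'
  exact Subtype.ext hab'

/-- The last configuration: `O_{p'}(G) = 1`, the Sylow subgroup is maximal and `G / O_p(G)` has an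
abelian normal p-complement. -/
theorem ZKind.normal_of_critical (hp : p ≠ 2) (K : ZKind p Z) {G : Type u} [Group G] [Finite G]
    (P : Sylow p G) (hC : centralizer (Cfsg.pCore p G : Set G) ≤ Cfsg.pCore p G)
    (L : Subgroup G) (hL : ∀ x : G, ∃ k, x ^ p ^ k ∈ L)
    (hab : ∀ x ∈ L, ∀ y ∈ L, x * y * x⁻¹ * y⁻¹ ∈ Cfsg.pCore p G) :
    (Z G (P : Subgroup G)).Normal := by
  have hfree := free_of_critical hp L hL hab
  have hst := stableNormal_of_free hp hfree
  refine normal_of_coreKer P (K.le G _) (le_normalizer.trans (K.normalizer_le _)) (K.comm G _) hst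
    ?_ (K.inter_normal G P _ (stronglyClosed_self P) hst _ (Solvable.pCore_normal p)
      (Solvable.isPGroup_pCore p))
  intro x hx
  obtain ⟨D, hD, hxD, hDp⟩ := mem_coreKer.mp hx.2
  refine Solvable.le_pCore p hD (fun d => ?_) hxD
  obtain ⟨k, hk⟩ := hDp d d.2
  obtain ⟨j, hj⟩ := Solvable.isPGroup_pCore p ⟨_, hC hk⟩
  exact ⟨k + j, Subtype.ext (by simpa [pow_add, pow_mul] using congrArg Subtype.val hj)⟩

/-- The normalizers of a centre of Thompson subgroup form a local system. -/
theorem ZKind.localSystem (K : ZKind p Z) :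
    LocalSystem p (fun (_ : Unit) G _ U => Z G U)
      (fun (_ : Unit) G _ U => normalizer ((Z G U : Subgroup G) : Set G)) where
  le _ G _ _ U := K.le G U
  ne_bot _ G _ _ U := K.ne_bot G U
  normalizer_le _ _ _ _ U := K.normalizer_le U
  le_normalizer _ _ _ _ _ := le_rfl
  self_le _ _ _ _ U := le_normalizer.trans (K.normalizer_le U)
  map _ G _ _ M R := by
    show _ ≤ normalizer ((Z G (R.map M.subtype) : Subgroup G) : Set G)
    rw [K.map M G M.subtype _ M.subtype_injective]
    exact le_normalizer_map _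
  quot _ G _ _ N _ hcop U hU := by
    set π := QuotientGroup.mk' N with hπ
    have hinj : ∀ x ∈ U, π x = 1 → x = 1 := fun x hx h => mem_bot.mp
      (isPGroup_inf_coprime hU hcop ▸ (⟨hx, (QuotientGroup.eq_one_iff x).mp h⟩ : x ∈ U ⊓ N))
    show normalizer ((Z (G ⧸ N) (U.map π) : Subgroup (G ⧸ N)) : Set (G ⧸ N)) ≤ _
    rw [K.map_hom π U hinj]
    intro y hy
    obtain ⟨g, rfl⟩ := QuotientGroup.mk'_surjective N y
    have hg' : g ∈ normalizer ((Z G U ⊔ N : Subgroup G) : Set G) := by
      have e : ((Z G U).map π).comap π = Z G U ⊔ N := by rw [comap_map_eq, QuotientGroup.ker_mk']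
      rw [← e]
      exact le_normalizer_comap π hy
    obtain ⟨m, hm, hmg⟩ := exists_mul_mem_normalizer (hU.to_le (K.le G U)) hcop hg'
    exact ⟨m * g, hmg, by rw [map_mul, show π m = 1 from (QuotientGroup.eq_one_iff m).mpr hm, one_mul]⟩

/-- **The Glauberman–Thompson normal p-complement theorem.** -/
theorem ZKind.hasNormalPComplement (hp : p ≠ 2) (K : ZKind p Z) (G : Type u) [Group G] [Finite G]
    (P : Sylow p G)
    (hN : Cfsg.HasNormalPComplement p (normalizer ((Z G (P : Subgroup G) : Subgroup G) : Set G))) :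
    Cfsg.HasNormalPComplement p G := by
  refine K.localSystem.hasNormalPComplement (fun _ _ => True) (fun _ _ _ _ _ => trivial)
    (fun _ _ _ _ _ _ => trivial) (fun G _ _ P _ hN hC _ L hL hab _ _ => ?_) G P trivial fun _ => hN
  have hW := K.normal_of_critical hp P hC L hL hab
  have h := hN ()
  rw [normalizer_eq_top (H := Z G (P : Subgroup G))] at h
  exact hnpc_of_surjective (topEquiv : (⊤ : Subgroup G) ≃* G).toMonoidHom (MulEquiv.surjective _) h

end CfsgLib.ZJ
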