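import Cfsg.Agent.ZJ.Involve
import Cfsg.Agent.Invol.BaerSuzuki
import Cfsg.Agent.Solvable.Basics
import Mathlib.GroupTheory.QuotientGroup.Basic

/-!
p-stability for groups with no section isomorphic to Qd(p).
-/

set_option autoImplicit false

namespace CfsgLib.ZJ

open Subgroup

variable {G : Type*} [Group G] {p : ℕ}

/-- `n` lies in a normal subgroup that is a `p`-group modulo `C`. -/
def PCoreMod (p : ℕ) (C : Subgroup G) (n : G) : Prop :=
  ∃ D : Subgroup G, D.Normal ∧ n ∈ D ∧ ∀ x ∈ D, ∃ k, x ^ p ^ k ∈ C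

theorem PCoreMod.mono {C C' : Subgroup G} (h : C ≤ C') {n : G} (hn : PCoreMod p C n) :
    PCoreMod p C' n := by
  obtain ⟨D, hD, hnD, hp⟩ := hn
  exact ⟨D, hD, hnD, fun x hx => (hp x hx).imp fun _ hk => h hk⟩

variable [Finite G]

theorem pcoreMod_iff (C : Subgroup G) [C.Normal] (n : G) :
    PCoreMod p C n ↔ (QuotientGroup.mk n : G ⧸ C) ∈ Cfsg.pCore p (G ⧸ C) := by
  constructor
  · rintro ⟨D, hD, hn, hp⟩
    refine Solvable.le_pCore p (hD.map _ (QuotientGroup.mk'_surjective C)) ?_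
      (mem_map_of_mem (QuotientGroup.mk' C) hn)
    rintro ⟨_, x, hx, rfl⟩
    obtain ⟨k, hk⟩ := hp x hx
    refine ⟨k, Subtype.ext ?_⟩
    show (QuotientGroup.mk' C x) ^ p ^ k = 1
    rw [← map_pow]
    exact (QuotientGroup.eq_one_iff _).mpr hk
  · intro h
    refine ⟨(Cfsg.pCore p (G ⧸ C)).comap (QuotientGroup.mk' C), inferInstance, h, fun x hx => ?_⟩
    obtain ⟨k, hk⟩ := Solvable.isPGroup_pCore p ⟨_, hx⟩
    refine ⟨k, (QuotientGroup.eq_one_iff _).mp ?_⟩
    have hk' := congrArg Subtype.val hk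
    simpa using hk'

variable [Fact p.Prime]

/-- A quadratic element outside the p-core has a conjugate with which it acts on a natural plane. -/
theorem exists_plane_of_not_pcoreMod {V : Type*} [AddCommGroup V] [Module (ZMod p) V] [Finite V]
    (hp : p ≠ 2) (ρ : G →* Module.End (ZMod p) V) (n : G)
    (hq : (ρ n - 1) * (ρ n - 1) = 0) (hn : ¬ PCoreMod p ρ.ker n) :
    ∃ g : G, ∃ v w : V, NaturalPlane (ρ n) (ρ (g * n * g⁻¹)) v w := by
  rw [pcoreMod_iff] at hn
  obtain ⟨gb, hgb⟩ := not_forall.mp fun h => hn (Invol.mem_pCore_of_pairs _ h)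
  obtain ⟨g, rfl⟩ := QuotientGroup.mk_surjective gb
  obtain ⟨⟨y, hy⟩, hy'⟩ := not_forall.mp hgb
  have e : closure ({(QuotientGroup.mk n : G ⧸ ρ.ker),
      QuotientGroup.mk g * QuotientGroup.mk n * (QuotientGroup.mk g)⁻¹} : Set (G ⧸ ρ.ker)) =
      (closure ({n, g * n * g⁻¹} : Set G)).map (QuotientGroup.mk' ρ.ker) := by
    rw [MonoidHom.map_closure, Set.image_pair]
    rfl
  rw [e] at hy
  obtain ⟨x, hx, rfl⟩ := hy
  have hb : (ρ (g * n * g⁻¹) - 1) * (ρ (g * n * g⁻¹) - 1) = 0 := by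
    have h1 : ρ g * ρ g⁻¹ = 1 := by rw [← map_mul, mul_inv_cancel, map_one]
    have h2 : ρ g⁻¹ * ρ g = 1 := by rw [← map_mul, inv_mul_cancel, map_one]
    have h3 : ρ (g * n * g⁻¹) - 1 = ρ g * (ρ n - 1) * ρ g⁻¹ := by
      rw [map_mul, map_mul, mul_sub, sub_mul, mul_one, h1]
    rw [h3, mul_assoc _ (ρ g⁻¹), ← mul_assoc (ρ g⁻¹) (ρ g * (ρ n - 1)),
      ← mul_assoc (ρ g⁻¹) (ρ g), h2, one_mul, ← mul_assoc, mul_assoc (ρ g) (ρ n - 1) (ρ n - 1),
      hq, mul_zero, zero_mul]
  obtain ⟨h, -, v, w, hvw⟩ := quadratic_plane hp ρ n (g * n * g⁻¹) hq hb ⟨x, hx, fun j hj => by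
    refine hy' ⟨j, Subtype.ext ?_⟩
    show (QuotientGroup.mk' ρ.ker x) ^ p ^ j = 1
    rw [← map_pow]
    exact (QuotientGroup.eq_one_iff _).mpr hj⟩
  exact ⟨h, v, w, hvw⟩

/-- A quadratic element on an elementary abelian subgroup, outside the p-core of the group acting,
yields sections isomorphic to SL₂(p) and to Qd(p). -/
theorem sections_of_quadratic (hp : p ≠ 2) {V : Subgroup G} (hV : Cfsg.IsElementaryAbelian p V)
    (H : Subgroup G) (hH : H ≤ normalizer (V : Set G)) (n : H)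
    (hq : ⁅⁅V, zpowers (n : G)⁆, zpowers (n : G)⁆ = ⊥)
    (hn : ¬ PCoreMod p ((centralizer (V : Set G)).subgroupOf H) n) :
    ∃ K0 : Subgroup G, K0 ≤ H ∧ (∃ f : K0 →* SL2 (ZMod p), Function.Surjective f) ∧
      ∃ D : Subgroup G, D ≤ V ⊔ K0 ∧ ∃ f : D →* Cfsg.qd p, Function.Surjective f := by
  set ρ : H →* Module.End (ZMod p) (ElabMod V hV) := (conjEnd hV).comp (inclusion hH) with hρ
  have hker : ρ.ker = (centralizer (V : Set G)).subgroupOf H := by
    ext x
    rw [MonoidHom.mem_ker, mem_subgroupOf]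
    exact conjEnd_eq_one_iff hV (inclusion hH x)
  rw [← hker] at hn
  obtain ⟨g, v, w, hvw⟩ := exists_plane_of_not_pcoreMod hp ρ n
    (conjEnd_quadratic hV (inclusion hH n) hq) hn
  obtain ⟨h1, h2⟩ := sections_of_plane hV hp (inclusion hH n) (inclusion hH (g * n * g⁻¹)) hvw
  refine ⟨_, (closure_le _).mpr ?_, h1, h2⟩
  rintro x (rfl | rfl)
  · exact n.2
  · exact (g * n * g⁻¹).2

/-- An element centralizing both layers of a chain `1 ≤ V ≤ P` has p-th power centralizing `P`. -/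
theorem pow_mem_centralizer_of_chain {V P : Subgroup G} (hV : Cfsg.IsElementaryAbelian p V)
    {x : G} (hxV : x ∈ centralizer (V : Set G)) (hxP : ∀ u ∈ P, x * u * x⁻¹ * u⁻¹ ∈ V) :
    x ^ p ∈ centralizer (P : Set G) := by
  rw [mem_centralizer_iff]
  intro u hu
  set z := x * u * x⁻¹ * u⁻¹ with hz
  have hzx : ∀ j : ℕ, Commute (x ^ j) z := fun j =>
    ((show Commute z x from mem_centralizer_iff.mp hxV z (hxP u hu)).symm).pow_left j
  have key : ∀ j : ℕ, x ^ j * u = z ^ j * u * x ^ j := by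
    intro j
    induction j with
    | zero => simp
    | succ j ih =>
      have hxu : x * u = z * u * x := by rw [hz]; group
      rw [pow_succ, mul_assoc, hxu, ← mul_assoc, ← mul_assoc, (hzx j).eq,
        mul_assoc z, ih, pow_succ' z]
      simp only [mul_assoc]
  rw [key p, hV.2 z (hxP u hu), one_mul]

/-- In a group with no section isomorphic to Qd(p), an element acting quadratically on a normal
p-subgroup lies in the p-core modulo its centralizer. -/
theorem pcoreMod_of_quadratic.{u} {G : Type u} [Group G] [Finite G] {p : ℕ} [Fact p.Prime]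
    (hp : p ≠ 2) (hfree : ¬ Cfsg.Involves ↥(Cfsg.qd p) G) (P : Subgroup G) [P.Normal]
    (hP : IsPGroup p P) (a : G) (hq : ⁅⁅P, zpowers a⁆, zpowers a⁆ = ⊥) :
    PCoreMod p (centralizer (P : Set G)) a := by
  obtain ⟨n, hn⟩ : ∃ n, Nat.card G = n := ⟨_, rfl⟩
  induction n using Nat.strong_induction_on generalizing G with
  | _ n ih =>
    subst hn
    by_cases hP1 : P = ⊥
    · refine ⟨⊤, inferInstance, mem_top a, fun x _ => ⟨0, ?_⟩⟩
      rw [hP1, mem_centralizer_iff]
      intro u hu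
      rw [mem_bot.mp hu, one_mul, mul_one]
    have hsol : Group.IsSolvable P := by
      haveI := hP.isNilpotent
      infer_instance
    obtain ⟨V, hVn, hV1, hVP, hVc, -, q, hq', hVq, -⟩ :=
      Solvable.exists_normal_elementary_le (N := P) hP1 hsol
    have hV : Cfsg.IsElementaryAbelian p V := by
      obtain ⟨x, hx, hx1'⟩ := V.bot_or_exists_ne_one.resolve_left hV1
      obtain ⟨k, hk⟩ := (hP.to_le hVP) ⟨x, hx⟩
      have hk' : x ^ p ^ k = 1 := by simpa using congrArg Subtype.val hk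
      have hqp : q = p := by
        haveI := Fact.mk hq'
        have hox : orderOf x = q := orderOf_eq_prime (hVq x hx) hx1'
        have hd := orderOf_dvd_of_pow_eq_one hk'
        rw [hox] at hd
        exact (Nat.prime_dvd_prime_iff_eq hq' Fact.out).mp (hq'.dvd_of_dvd_pow hd)
      exact ⟨hVc, hqp ▸ hVq⟩
    -- the layer `V`
    have hqV : ⁅⁅V, zpowers a⁆, zpowers a⁆ = ⊥ :=
      le_bot_iff.mp ((commutator_mono (commutator_mono hVP le_rfl) le_rfl).trans hq.le)
    have h1 : PCoreMod p (centralizer (V : Set G)) a := by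
      by_contra hcon
      have hH : (⊤ : Subgroup G) ≤ normalizer (V : Set G) := by simp [normalizer_eq_top]
      have hno : ¬ PCoreMod p ((centralizer (V : Set G)).subgroupOf (⊤ : Subgroup G))
          (⟨a, mem_top a⟩ : (⊤ : Subgroup G)) := by
        rintro ⟨D, hD, haD, hDp⟩
        refine hcon ⟨D.map (⊤ : Subgroup G).subtype,
          hD.map _ (fun x => ⟨⟨x, mem_top x⟩, rfl⟩), ⟨_, haD, rfl⟩, ?_⟩
        rintro _ ⟨x, hx, rfl⟩
        obtain ⟨k, hk⟩ := hDp x hx
        exact ⟨k, mem_subgroupOf.mp hk⟩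
      obtain ⟨K0, -, -, D, -, f, hf⟩ := sections_of_quadratic hp hV ⊤ hH ⟨a, mem_top a⟩ hqV hno
      exact hfree (involves_of_surjective D f hf)
    -- the quotient by `V`
    have hlt : Nat.card (G ⧸ V) < Nat.card G := Solvable.card_quotient_lt hV1
    have hPn : (P.map (QuotientGroup.mk' V)).Normal :=
      Normal.map inferInstance _ (QuotientGroup.mk'_surjective V)
    have hqq : ⁅⁅P.map (QuotientGroup.mk' V), zpowers (QuotientGroup.mk' V a)⁆,
        zpowers (QuotientGroup.mk' V a)⁆ = ⊥ := by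
      rw [← MonoidHom.map_zpowers, ← map_commutator, ← map_commutator, hq, Subgroup.map_bot]
    obtain ⟨D2, hD2, haD2, hD2p⟩ := ih _ hlt (fun h => hfree (involves_of_quotient V h))
      (P.map (QuotientGroup.mk' V)) (hP.map _) (QuotientGroup.mk' V a) hqq rfl
    obtain ⟨D1, hD1, haD1, hD1p⟩ := h1
    refine ⟨D1 ⊓ D2.comap (QuotientGroup.mk' V), inferInstance, ⟨haD1, haD2⟩, fun x hx => ?_⟩
    obtain ⟨k1, hk1⟩ := hD1p x hx.1
    obtain ⟨k2, hk2⟩ := hD2p _ hx.2
    refine ⟨k1 + k2 + 1, ?_⟩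
    rw [pow_succ, pow_mul]
    refine pow_mem_centralizer_of_chain (P := P) hV ?_ fun u hu => ?_
    · rw [pow_add, pow_mul]
      exact pow_mem hk1 _
    · have h3 : QuotientGroup.mk' V (x ^ p ^ (k1 + k2)) ∈
          centralizer ((P.map (QuotientGroup.mk' V) : Subgroup (G ⧸ V)) : Set (G ⧸ V)) := by
        rw [map_pow, pow_add, mul_comm, pow_mul]
        exact pow_mem hk2 _
      have h4 := mem_centralizer_iff.mp h3 _ (mem_map_of_mem _ hu)
      refine (QuotientGroup.eq_one_iff _).mp ?_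
      show QuotientGroup.mk' V (x ^ p ^ (k1 + k2) * u * (x ^ p ^ (k1 + k2))⁻¹ * u⁻¹) = 1
      rw [map_mul, map_mul, map_mul, map_inv, map_inv, ← h4, mul_inv_cancel_right, mul_inv_cancel]

end CfsgLib.ZJ
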