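import Cfsg.Prelude.Def_Transfer
import Mathlib.Algebra.Module.ZMod
import Mathlib.Algebra.Module.LinearMap.End
import Mathlib.GroupTheory.Commutator.Basic

/-!
An elementary abelian p-subgroup as a module over `ZMod p` for the elements normalizing it.
-/

set_option autoImplicit false

namespace CfsgLib.ZJ

variable {G : Type*} [Group G] {p : ℕ}

/-- Conjugation on a normalized subgroup, as a homomorphism from the normalizer. -/
def conjHom (V : Subgroup G) : ↥(Subgroup.normalizer (V : Set G)) →* MulAut V where
  toFun n :=
    { toFun := fun v => ⟨(n : G) * v * (n : G)⁻¹, (Subgroup.mem_normalizer_iff.mp n.2 v).mp v.2⟩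
      invFun := fun v => ⟨(n : G)⁻¹ * v * (n : G), by
        have := (Subgroup.mem_normalizer_iff.mp ((Subgroup.normalizer (V : Set G)).inv_mem n.2) v).mp v.2
        simpa using this⟩
      left_inv := fun v => Subtype.ext (by simp [mul_assoc])
      right_inv := fun v => Subtype.ext (by simp [mul_assoc])
      map_mul' := fun v w => Subtype.ext (by simp [mul_assoc]) }
  map_one' := by ext; simp
  map_mul' a b := by ext; simp [mul_assoc]

@[simp] theorem conjHom_apply {V : Subgroup G} (n : ↥(Subgroup.normalizer (V : Set G))) (v : V) :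
    ((conjHom V n v : V) : G) = (n : G) * v * (n : G)⁻¹ := rfl

/-- The additive group of an elementary abelian subgroup. -/
def ElabMod (V : Subgroup G) (_hV : Cfsg.IsElementaryAbelian p V) : Type _ := Additive V

variable {V : Subgroup G} (hV : Cfsg.IsElementaryAbelian p V)

instance elabModAddCommGroup : AddCommGroup (ElabMod V hV) :=
  { (inferInstance : AddGroup (Additive V)) with
    add_comm := fun a b => hV.1.is_comm.comm (Additive.toMul a) (Additive.toMul b) }

instance elabModModule : Module (ZMod p) (ElabMod V hV) :=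
  AddCommGroup.zmodModule (fun x => by
    show Additive.ofMul ((Additive.toMul (α := V) x) ^ p) = Additive.ofMul 1
    congr 1
    exact Subtype.ext (hV.2 _ (Additive.toMul (α := V) x).2))

instance elabModFinite [Finite G] : Finite (ElabMod V hV) :=
  (inferInstance : Finite (Additive V))

/-- An element of `V` as a vector. -/
def toVec (v : V) : ElabMod V hV := Additive.ofMul v

/-- A vector as an element of `V`. -/
def ofVec (x : ElabMod V hV) : V := Additive.toMul (α := V) x

@[simp] theorem ofVec_toVec (v : V) : ofVec hV (toVec hV v) = v := rfl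
@[simp] theorem toVec_ofVec (x : ElabMod V hV) : toVec hV (ofVec hV x) = x := rfl
theorem ofVec_add (x y : ElabMod V hV) : ofVec hV (x + y) = ofVec hV x * ofVec hV y := rfl
theorem ofVec_zero : ofVec hV 0 = 1 := rfl
theorem ofVec_neg (x : ElabMod V hV) : ofVec hV (-x) = (ofVec hV x)⁻¹ := rfl
theorem ofVec_sub (x y : ElabMod V hV) : ofVec hV (x - y) = ofVec hV x * (ofVec hV y)⁻¹ := by
  rw [sub_eq_add_neg, ofVec_add, ofVec_neg]

theorem ofVec_injective : Function.Injective (ofVec hV) := fun _ _ h => h

/-- A normalizing element as a linear map. -/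
def conjEnd : ↥(Subgroup.normalizer (V : Set G)) →* Module.End (ZMod p) (ElabMod V hV) where
  toFun n := AddMonoidHom.toZModLinearMap p
    ({ toFun := fun x => toVec hV (conjHom V n (ofVec hV x))
       map_zero' := by rw [ofVec_zero, map_one]; rfl
       map_add' := fun x y => by rw [ofVec_add, map_mul]; rfl } :
      ElabMod V hV →+ ElabMod V hV)
  map_one' := by
    apply LinearMap.ext
    intro x
    show toVec hV (conjHom V 1 (ofVec hV x)) = x
    rw [map_one]
    rfl
  map_mul' a b := by
    apply LinearMap.ext
    intro x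
    show toVec hV (conjHom V (a * b) (ofVec hV x))
      = toVec hV (conjHom V a (ofVec hV (toVec hV (conjHom V b (ofVec hV x)))))
    rw [map_mul]
    rfl

theorem ofVec_conjEnd (n : ↥(Subgroup.normalizer (V : Set G))) (x : ElabMod V hV) :
    ((ofVec hV (conjEnd hV n x) : V) : G) = (n : G) * (ofVec hV x : G) * (n : G)⁻¹ := rfl

theorem conjEnd_eq_one_iff (n : ↥(Subgroup.normalizer (V : Set G))) :
    conjEnd hV n = 1 ↔ (n : G) ∈ Subgroup.centralizer (V : Set G) := by
  rw [Subgroup.mem_centralizer_iff]
  constructor
  · intro h v hv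
    have := congrArg (fun f : Module.End (ZMod p) (ElabMod V hV) =>
      ((ofVec hV (f (toVec hV ⟨v, hv⟩)) : V) : G)) h
    simp only [ofVec_conjEnd, ofVec_toVec, Module.End.one_apply] at this
    exact (mul_inv_eq_iff_eq_mul.mp this).symm
  · intro h
    apply LinearMap.ext
    intro x
    apply ofVec_injective
    apply Subtype.ext
    rw [ofVec_conjEnd, Module.End.one_apply, ← h _ (ofVec hV x).2, mul_inv_cancel_right]

theorem conjEnd_quadratic (n : ↥(Subgroup.normalizer (V : Set G)))
    (hq : ⁅⁅V, Subgroup.zpowers (n : G)⁆, Subgroup.zpowers (n : G)⁆ = ⊥) :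
    (conjEnd hV n - 1) * (conjEnd hV n - 1) = 0 := by
  apply LinearMap.ext
  intro x
  set y := (conjEnd hV n - 1) x with hy
  have hval : ((ofVec hV y : V) : G) ∈ ⁅V, Subgroup.zpowers (n : G)⁆ := by
    rw [hy, LinearMap.sub_apply, ofVec_sub, Subgroup.coe_mul, ofVec_conjEnd, Subgroup.coe_inv,
      Module.End.one_apply, Subgroup.commutator_comm]
    exact Subgroup.commutator_mem_commutator (Subgroup.mem_zpowers _) (ofVec hV x).2
  have hc := Subgroup.commutator_mem_commutator hval (Subgroup.mem_zpowers (n : G))
  rw [hq, Subgroup.mem_bot, commutatorElement_eq_one_iff_mul_comm] at hc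
  show (conjEnd hV n - 1) y = 0
  rw [LinearMap.sub_apply, Module.End.one_apply, sub_eq_zero]
  apply ofVec_injective
  apply Subtype.ext
  rw [ofVec_conjEnd, ← hc, mul_inv_cancel_right]

end CfsgLib.ZJ
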