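import Cfsg.Agent.ZJ.Quadratic
import Cfsg.Agent.ZJ.ConjModule
import Cfsg.Prelude.Def_PLocal
import Cfsg.Prelude.Def_LocalEven
import Mathlib.GroupTheory.Sylow
import Mathlib.GroupTheory.QuotientGroup.Basic

/-!
A natural SL₂(p)-plane inside a group yields sections isomorphic to SL₂(p) and to Qd(p).
-/

set_option autoImplicit false

namespace CfsgLib.ZJ

open scoped Classical

theorem sl2_zmod_generated {p : ℕ} [Fact p.Prime] (S : Subgroup (SL2 (ZMod p)))
    (hu : upper 1 ∈ S) (hl : lower 1 ∈ S) : S = ⊤ := by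
  refine eq_top_iff.mpr fun M _ => sl2_upper_lower_induction M S (fun a => ?_) (fun a => ?_)
  · have := S.pow_mem hu a.val
    rwa [upper_pow, mul_one, ZMod.natCast_zmod_val] at this
  · have := S.pow_mem hl a.val
    rwa [lower_pow, mul_one, ZMod.natCast_zmod_val] at this

/-- From a surjection out of a subgroup, a section. -/
theorem exists_section_of_surjective {G : Type*} [Group G] {X : Type*} [Group X] (K : Subgroup G)
    (f : K →* X) (hf : Function.Surjective f) :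
    ∃ (R : Subgroup G) (_ : (R.subgroupOf K).Normal), Nonempty (K ⧸ R.subgroupOf K ≃* X) := by
  have e : (f.ker.map K.subtype).subgroupOf K = f.ker :=
    Subgroup.comap_map_eq_self_of_injective K.subtype_injective f.ker
  have hn : ((f.ker.map K.subtype).subgroupOf K).Normal := by
    rw [e]
    infer_instance
  exact ⟨f.ker.map K.subtype, hn, ⟨(QuotientGroup.quotientMulEquivOfEq e).trans
    (QuotientGroup.quotientKerEquivOfSurjective f hf)⟩⟩

theorem involves_of_surjective {G X : Type*} [Group G] [Group X] (K : Subgroup G)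
    (f : K →* X) (hf : Function.Surjective f) : Cfsg.Involves X G := by
  obtain ⟨R, hn, h⟩ := exists_section_of_surjective K f hf
  exact ⟨K, R, hn, h⟩

/-- The affine matrix with translation part `(c, d)` and linear part `A`. -/
def affMat {p : ℕ} [Fact p.Prime] (c d : ZMod p) (A : SL2 (ZMod p)) :
    Matrix.SpecialLinearGroup (Fin 3) (ZMod p) :=
  ⟨!![A 0 0, A 0 1, c; A 1 0, A 1 1, d; 0, 0, 1], by
    simp [Matrix.det_fin_three]
    linear_combination sl2_det A⟩

theorem affMat_mul {p : ℕ} [Fact p.Prime] (c d c' d' : ZMod p) (A A' : SL2 (ZMod p)) :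
    affMat c d A * affMat c' d' A' =
      affMat (c + (A 0 0 * c' + A 0 1 * d')) (d + (A 1 0 * c' + A 1 1 * d')) (A * A') := by
  apply Matrix.SpecialLinearGroup.ext
  intro i j
  rw [Matrix.SpecialLinearGroup.coe_mul, Matrix.mul_apply, Fin.sum_univ_three]
  fin_cases i <;> fin_cases j <;> simp [affMat, sl2_mul] <;> ring

theorem exists_affMat {p : ℕ} [Fact p.Prime] (M : Matrix.SpecialLinearGroup (Fin 3) (ZMod p))
    (h : (M : Matrix (Fin 3) (Fin 3) (ZMod p)) 2 0 = 0 ∧
      (M : Matrix (Fin 3) (Fin 3) (ZMod p)) 2 1 = 0 ∧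
      (M : Matrix (Fin 3) (Fin 3) (ZMod p)) 2 2 = 1) :
    ∃ c d A, M = affMat c d A := by
  have hd := M.det_coe
  rw [Matrix.det_fin_three, h.1, h.2.1, h.2.2] at hd
  refine ⟨M 0 2, M 1 2, ⟨!![M 0 0, M 0 1; M 1 0, M 1 1], ?_⟩, ?_⟩
  · rw [Matrix.det_fin_two]
    simp
    linear_combination hd
  · apply Matrix.SpecialLinearGroup.ext
    intro i j
    fin_cases i <;> fin_cases j <;> simp [affMat, h.1, h.2.1, h.2.2]

theorem affMat_mem_qd {p : ℕ} [Fact p.Prime] (c d : ZMod p) (A : SL2 (ZMod p)) :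
    affMat c d A ∈ Cfsg.qd p :=
  Subgroup.subset_closure ⟨rfl, rfl, rfl⟩

/-- A plane normalized by a group mapping onto SL₂(p), meeting it trivially, gives Qd(p). -/
theorem exists_qd_surjection {G : Type*} [Group G] {p : ℕ} [Fact p.Prime] (K0 : Subgroup G)
    (D0 : Subgroup K0) (φ : K0 →* SL2 (ZMod p)) (ι : Multiplicative (ZMod p × ZMod p) →* G)
    (hι : Function.Injective ι)
    (hact : ∀ (g : K0) (c d : ZMod p), (g : G) * ι (Multiplicative.ofAdd (c, d)) * (g : G)⁻¹ =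
      ι (Multiplicative.ofAdd (φ g 0 0 * c + φ g 0 1 * d, φ g 1 0 * c + φ g 1 1 * d)))
    (hD0surj : ∀ M, ∃ d ∈ D0, φ d = M)
    (hdisj : ∀ (z : Multiplicative (ZMod p × ZMod p)) (d : D0), ι z = ((d : K0) : G) → ι z = 1) :
    ∃ D : Subgroup G, D ≤ ι.range ⊔ K0 ∧ ∃ f : D →* Cfsg.qd p, Function.Surjective f := by
  -- the semidirect product inside `G`
  let act : Multiplicative (ZMod p × ZMod p) → D0 → G := fun z d => ι z * ((d : K0) : G)
  have hinj : ∀ z d z' d', act z d = act z' d' → z = z' ∧ d = d' := by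
    intro z d z' d' e
    have e1 : ι (z'⁻¹ * z) = (((d' * d⁻¹ : D0) : K0) : G) := by
      simp only [map_mul, map_inv, Subgroup.coe_mul, Subgroup.coe_inv]
      rw [inv_mul_eq_iff_eq_mul, ← mul_assoc, eq_mul_inv_iff_mul_eq]
      exact e
    have e2 := hdisj (z'⁻¹ * z) (d' * d⁻¹) e1
    rw [← map_one ι] at e2
    have e3 : z = z' := (inv_mul_eq_one.mp (hι e2)).symm
    subst e3
    exact ⟨rfl, Subtype.ext (Subtype.ext (mul_left_cancel e))⟩
  have hmul : ∀ z d z' (d' : D0), ∃ z'', act z d * act z' d' = act z'' (d * d') ∧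
      (Multiplicative.toAdd z'').1 = (Multiplicative.toAdd z).1 +
        (φ d 0 0 * (Multiplicative.toAdd z').1 + φ d 0 1 * (Multiplicative.toAdd z').2) ∧
      (Multiplicative.toAdd z'').2 = (Multiplicative.toAdd z).2 +
        (φ d 1 0 * (Multiplicative.toAdd z').1 + φ d 1 1 * (Multiplicative.toAdd z').2) := by
    intro z d z' d'
    obtain ⟨⟨c, c'⟩, rfl⟩ := Multiplicative.ofAdd.surjective z'
    refine ⟨z * Multiplicative.ofAdd
      (φ d 0 0 * c + φ d 0 1 * c', φ d 1 0 * c + φ d 1 1 * c'), ?_, rfl, rfl⟩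
    show ι z * ((d : K0) : G) * (ι (Multiplicative.ofAdd (c, c')) * ((d' : K0) : G)) =
      ι (z * Multiplicative.ofAdd (φ d 0 0 * c + φ d 0 1 * c', φ d 1 0 * c + φ d 1 1 * c')) *
        (((d * d' : D0) : K0) : G)
    rw [map_mul, ← hact d c c']
    simp only [Subgroup.coe_mul]
    group
  let D : Subgroup G :=
    { carrier := {x | ∃ z d, x = act z d}
      one_mem' := ⟨1, 1, by simp [act]⟩
      mul_mem' := by
        rintro _ _ ⟨z, d, rfl⟩ ⟨z', d', rfl⟩
        obtain ⟨z'', hz'', -⟩ := hmul z d z' d'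
        exact ⟨z'', d * d', hz''⟩
      inv_mem' := by
        rintro _ ⟨z, d, rfl⟩
        obtain ⟨⟨c, c'⟩, rfl⟩ := Multiplicative.ofAdd.surjective z
        refine ⟨Multiplicative.ofAdd (φ (d⁻¹ : D0) 0 0 * -c + φ (d⁻¹ : D0) 0 1 * -c',
          φ (d⁻¹ : D0) 1 0 * -c + φ (d⁻¹ : D0) 1 1 * -c'), d⁻¹, ?_⟩
        show (ι (Multiplicative.ofAdd (c, c')) * ((d : K0) : G))⁻¹ = _ * (((d⁻¹ : D0) : K0) : G)
        have := hact ((d⁻¹ : D0) : K0) (-c) (-c')
        have hneg : ι (Multiplicative.ofAdd (-c, -c')) = (ι (Multiplicative.ofAdd (c, c')))⁻¹ := by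
          rw [← map_inv]
          rfl
        rw [hneg] at this
        rw [← this]
        simp only [Subgroup.coe_inv]
        group }
  refine ⟨D, ?_, ?_⟩
  · rintro _ ⟨z, d, rfl⟩
    exact Subgroup.mul_mem_sup ⟨z, rfl⟩ (d : K0).2
  have hdec : ∀ x : D, ∃ z d, (x : G) = act z d := fun x => x.2
  choose zf df hzd using hdec
  let f : D →* Cfsg.qd p := MonoidHom.mk'
    (fun x => ⟨affMat (Multiplicative.toAdd (zf x)).1 (Multiplicative.toAdd (zf x)).2 (φ (df x)),
      affMat_mem_qd _ _ _⟩) (by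
      intro x y
      apply Subtype.ext
      obtain ⟨z'', hz'', e1, e2⟩ := hmul (zf x) (df x) (zf y) (df y)
      have hxy : act (zf (x * y)) (df (x * y)) = act z'' (df x * df y) := by
        rw [← hzd, ← hz'', ← hzd, ← hzd]
        rfl
      obtain ⟨ez, ed⟩ := hinj _ _ _ _ hxy
      rw [Subgroup.coe_mul, affMat_mul]
      show affMat _ _ _ = affMat _ _ _
      rw [ez, ed, e1, e2, Subgroup.coe_mul, map_mul])
  refine ⟨f, ?_⟩
  rintro ⟨M, hM⟩
  suffices ∃ x : D, (f x : Matrix.SpecialLinearGroup (Fin 3) (ZMod p)) = M by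
    obtain ⟨x, hx⟩ := this
    exact ⟨x, Subtype.ext hx⟩
  induction hM using Subgroup.closure_induction with
  | mem y hy =>
    obtain ⟨c, d, A, rfl⟩ := exists_affMat y hy
    obtain ⟨g, hg, rfl⟩ := hD0surj A
    refine ⟨⟨act (Multiplicative.ofAdd (c, d)) ⟨g, hg⟩, _, _, rfl⟩, ?_⟩
    set x : D := ⟨act (Multiplicative.ofAdd (c, d)) ⟨g, hg⟩, _, _, rfl⟩
    obtain ⟨ez, ed⟩ := hinj _ _ _ _ (hzd x).symm
    show affMat _ _ _ = _
    rw [ez, ed]
    rfl
  | one => exact ⟨1, by simp⟩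
  | mul y z _ _ hy hz =>
    obtain ⟨x, rfl⟩ := hy
    obtain ⟨x', rfl⟩ := hz
    exact ⟨x * x', by simp⟩
  | inv y _ hy =>
    obtain ⟨x, rfl⟩ := hy
    exact ⟨x⁻¹, by simp⟩


variable {G : Type*} [Group G] [Finite G] {p : ℕ} [Fact p.Prime] {V : Subgroup G}
  (hV : Cfsg.IsElementaryAbelian p V)

/-- Two elements on a natural plane give a section isomorphic to SL₂(p), and, when `p` is odd, one
isomorphic to Qd(p). -/
theorem sections_of_plane (hp : p ≠ 2) (n n' : ↥(Subgroup.normalizer (V : Set G)))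
    {v w : ElabMod V hV} (h : NaturalPlane (conjEnd hV n) (conjEnd hV n') v w) :
    (∃ f : ↥(Subgroup.closure {(n : G), (n' : G)}) →* SL2 (ZMod p), Function.Surjective f) ∧
      ∃ D : Subgroup G, D ≤ V ⊔ Subgroup.closure {(n : G), (n' : G)} ∧
        ∃ f : D →* Cfsg.qd p, Function.Surjective f := by
  have hle : Subgroup.closure {(n : G), (n' : G)} ≤ Subgroup.normalizer (V : Set G) :=
    (Subgroup.closure_le _).mpr (by rintro x (rfl | rfl); exacts [n.2, n'.2])
  set K0 := Subgroup.closure {(n : G), (n' : G)} with hK0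
  set σ : K0 →* Module.End (ZMod p) (ElabMod V hV) :=
    (conjEnd hV).comp (Subgroup.inclusion hle) with hσ
  let a : K0 := ⟨n, Subgroup.subset_closure (by simp)⟩
  let a' : K0 := ⟨n', Subgroup.subset_closure (by simp)⟩
  have hpa : PlaneMat σ v w a (upper 1) := by
    have e : σ a = conjEnd hV n := rfl
    simp [PlaneMat, e, h.fv, h.fw, add_comm]
  have hpa' : PlaneMat σ v w a' (lower (-1)) := by
    have e : σ a' = conjEnd hV n' := rfl
    simp [PlaneMat, e, h.fv', h.fw', sub_eq_add_neg]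
  have hgen : Subgroup.closure ({a, a'} : Set K0) = ⊤ := by
    apply Subgroup.map_injective K0.subtype_injective
    rw [MonoidHom.map_closure, Set.image_pair, ← MonoidHom.range_eq_map, Subgroup.range_subtype]
    rfl
  obtain ⟨φ0, hφ0⟩ := exists_plane_hom σ v w h.ind {a, a'} (by
    rintro x (rfl | rfl)
    exacts [⟨_, hpa⟩, ⟨_, hpa'⟩])
  let φ : K0 →* SL2 (ZMod p) :=
    φ0.comp ((MulEquiv.subgroupCongr hgen.symm).toMonoidHom.comp Subgroup.topEquiv.symm.toMonoidHom)
  have hφ : ∀ g : K0, PlaneMat σ v w g (φ g) := fun g => hφ0 ⟨g, by rw [hgen]; trivial⟩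
  have hsurj : Function.Surjective φ := by
    rw [← MonoidHom.range_eq_top]
    apply sl2_zmod_generated
    · exact ⟨a, planeMat_unique σ v w h.ind (hφ a) hpa⟩
    · refine ⟨a'⁻¹, ?_⟩
      rw [map_inv, planeMat_unique σ v w h.ind (hφ a') hpa']
      exact inv_eq_of_mul_eq_one_right (by rw [lower_mul, neg_add_cancel, lower_zero])
  refine ⟨⟨φ, hsurj⟩, ?_⟩
  have hp' := (Fact.out : p.Prime)
  have h2 : (2 : ZMod p) ≠ 0 := by
    intro h0
    have h' : ((2 : ℕ) : ZMod p) = 0 := by exact_mod_cast h0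
    exact hp ((Nat.prime_dvd_prime_iff_eq hp' Nat.prime_two).mp
      ((ZMod.natCast_eq_zero_iff _ _).mp h'))
  have hne : (-1 : SL2 (ZMod p)) ≠ 1 := by
    intro h0
    have := congrArg (fun M : SL2 (ZMod p) => M 0 0) h0
    simp at this
    exact h2 (by linear_combination (-1 : ZMod p) * this)
  -- the plane as a subgroup
  let ι : Multiplicative (ZMod p × ZMod p) →* G :=
    { toFun := fun x => ((ofVec hV ((Multiplicative.toAdd x).1 • v + (Multiplicative.toAdd x).2 • w) : V) : G)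
      map_one' := by simp [ofVec_zero]
      map_mul' := fun x y => by
        rw [← Subgroup.coe_mul, ← ofVec_add]
        congr 2
        simp only [toAdd_mul, Prod.fst_add, Prod.snd_add, add_smul]
        abel }
  have hι : Function.Injective ι := by
    rw [injective_iff_map_eq_one]
    intro x hx
    have : (Multiplicative.toAdd x).1 • v + (Multiplicative.toAdd x).2 • w = 0 :=
      ofVec_injective hV (Subtype.ext hx)
    obtain ⟨e1, e2⟩ := h.ind _ _ this
    exact Multiplicative.toAdd.injective (Prod.ext e1 e2)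
  set W : Subgroup G := ι.range with hW
  have hWV : W ≤ V := by
    rintro _ ⟨x, rfl⟩
    exact (ofVec hV _).2
  have hact : ∀ (g : K0) (c d : ZMod p), (g : G) * ι (Multiplicative.ofAdd (c, d)) * (g : G)⁻¹ =
      ι (Multiplicative.ofAdd (φ g 0 0 * c + φ g 0 1 * d, φ g 1 0 * c + φ g 1 1 * d)) := by
    intro g c d
    obtain ⟨g1, g2⟩ := hφ g
    show (g : G) * ((ofVec hV (c • v + d • w) : V) : G) * (g : G)⁻¹ = _
    refine (ofVec_conjEnd hV (Subgroup.inclusion hle g) (c • v + d • w)).symm.trans ?_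
    show ((ofVec hV (σ g (c • v + d • w)) : V) : G) = _
    rw [map_add, map_smul, map_smul, g1, g2]
    show _ = ((ofVec hV ((φ g 0 0 * c + φ g 0 1 * d) • v + (φ g 1 0 * c + φ g 1 1 * d) • w) : V) : G)
    congr 2
    module
  -- a 2-element mapping to the central involution
  obtain ⟨u₀, hu₀⟩ := hsurj (-1)
  set U : Subgroup K0 := (Subgroup.zpowers (-1 : SL2 (ZMod p))).comap φ with hU
  have hUn : U.Normal := by
    have : (Subgroup.zpowers (-1 : SL2 (ZMod p))).Normal := ⟨fun z hz g => by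
      obtain ⟨k, rfl⟩ := hz
      have hc : Commute g ((-1 : SL2 (ZMod p)) ^ k) := (Commute.neg_one_right g).zpow_right k
      rw [hc.eq, mul_inv_cancel_right]
      exact ⟨k, rfl⟩⟩
    exact this.comap φ
  obtain ⟨e, m, hm, hem⟩ := Nat.exists_eq_two_pow_mul_odd (orderOf_pos u₀).ne'
  set u := u₀ ^ m with hu
  have hφu : φ u = -1 := by rw [hu, map_pow, hu₀, hm.neg_one_pow]
  have hu2 : u ^ 2 ^ e = 1 := by
    rw [hu, ← pow_mul, mul_comm, ← hem, pow_orderOf_eq_one]
  have huU : u ∈ U := by rw [hU, Subgroup.mem_comap, hφu]; exact Subgroup.mem_zpowers _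
  have hPu : IsPGroup 2 (Subgroup.zpowers (⟨u, huU⟩ : U)) := by
    intro y
    obtain ⟨y, k, rfl⟩ := y
    refine ⟨e, Subtype.ext (Subtype.ext ?_)⟩
    show (u ^ k) ^ 2 ^ e = 1
    rw [← zpow_natCast, zpow_comm, zpow_natCast, hu2, one_zpow]
  obtain ⟨P, hP⟩ := hPu.exists_le_sylow
  have huP : (⟨u, huU⟩ : U) ∈ (P : Subgroup U) := hP (Subgroup.mem_zpowers _)
  set T : Subgroup K0 := (P : Subgroup U).map U.subtype with hT
  set D0 : Subgroup K0 := Subgroup.normalizer (T : Set K0) with hD0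
  have hD0surj : ∀ M, ∃ d ∈ D0, φ d = M := by
    intro M
    obtain ⟨g, rfl⟩ := hsurj M
    have hfr : D0 ⊔ U = ⊤ := Sylow.normalizer_sup_eq_top P
    obtain ⟨d, hd, x, hx, rfl⟩ := Subgroup.mem_sup_of_normal_right.mp (hfr ▸ Subgroup.mem_top g)
    obtain ⟨k, hk⟩ := hx
    refine ⟨d * u ^ k, D0.mul_mem hd (D0.zpow_mem
      (Subgroup.le_normalizer (show u ∈ T from ⟨_, huP, rfl⟩)) k), ?_⟩
    simp only at hk
    rw [map_mul, map_mul, map_zpow, hφu, hk]
  -- `W` meets `D0` trivially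
  have hdisj : ∀ x ∈ W, ∀ d ∈ D0, x = ((d : K0) : G) → x = 1 := by
    intro x hxW d hd hxd
    obtain ⟨z, hz⟩ := hxW
    obtain ⟨⟨c, c'⟩, rfl⟩ := Multiplicative.ofAdd.surjective z
    have h1 : u * d * u⁻¹ * d⁻¹ ∈ T := by
      have huT : u ∈ T := ⟨_, huP, rfl⟩
      have := (Subgroup.mem_normalizer_iff.mp hd u⁻¹).mp (T.inv_mem huT)
      have e : u * d * u⁻¹ * d⁻¹ = u * (d * u⁻¹ * d⁻¹) := by group
      rw [e]
      exact T.mul_mem huT this
    have h2x : ((u * d * u⁻¹ * d⁻¹ : K0) : G) = x⁻¹ * x⁻¹ := by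
      have := hact u c c'
      rw [hz, hφu] at this
      have hneg : ι (Multiplicative.ofAdd ((-1 : SL2 (ZMod p)) 0 0 * c + (-1 : SL2 (ZMod p)) 0 1 * c',
          (-1 : SL2 (ZMod p)) 1 0 * c + (-1 : SL2 (ZMod p)) 1 1 * c')) = x⁻¹ := by
        rw [← hz, ← map_inv]
        congr 1
        show Multiplicative.ofAdd _ = Multiplicative.ofAdd (-(c, c'))
        simp
      rw [hneg] at this
      simp only [Subgroup.coe_mul, Subgroup.coe_inv, ← hxd, this]
    have hpx : (x⁻¹ * x⁻¹) ^ p = 1 := by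
      have hxV : x ∈ V := hWV ⟨_, hz⟩
      exact hV.2 _ (V.mul_mem (V.inv_mem hxV) (V.inv_mem hxV))
    obtain ⟨t, ht, hte⟩ := h1
    obtain ⟨j, hj⟩ := P.2 ⟨t, ht⟩
    have h2p : (x⁻¹ * x⁻¹) ^ 2 ^ j = 1 := by
      have hj' := congrArg (fun y : ↥(P : Subgroup U) => (((y : U) : K0) : G)) hj
      simp only [SubmonoidClass.coe_pow, OneMemClass.coe_one] at hj'
      rw [← h2x, ← hte]
      exact hj'
    have hxx : x⁻¹ * x⁻¹ = 1 :=
      orderOf_eq_one_iff.mp (Nat.eq_one_of_dvd_coprimes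
        (Nat.Coprime.pow_right j ((Nat.coprime_primes hp' Nat.prime_two).mpr hp))
        (orderOf_dvd_of_pow_eq_one hpx) (orderOf_dvd_of_pow_eq_one h2p))
    have hxinv : x⁻¹ = 1 := by
      have h3 : (x⁻¹) ^ 2 = 1 := by rw [pow_two, hxx]
      have h4 : (x⁻¹) ^ p = 1 := hV.2 _ (V.inv_mem (hWV ⟨_, hz⟩))
      exact orderOf_eq_one_iff.mp (Nat.eq_one_of_dvd_coprimes
        ((Nat.coprime_primes hp' Nat.prime_two).mpr hp)
        (orderOf_dvd_of_pow_eq_one h4) (orderOf_dvd_of_pow_eq_one h3))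
    exact inv_eq_one.mp hxinv
  obtain ⟨D, hD, f, hf⟩ := exists_qd_surjection K0 D0 φ ι hι hact hD0surj
    (fun z d e => hdisj _ ⟨z, rfl⟩ d d.2 e)
  refine ⟨D, hD.trans (sup_le_sup ?_ le_rfl), f, hf⟩
  rintro _ ⟨z, rfl⟩
  exact hWV ⟨z, rfl⟩

end CfsgLib.ZJ
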