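import Mathlib.LinearAlgebra.Matrix.SpecialLinearGroup
import Mathlib.LinearAlgebra.Matrix.FixedDetMatrices
import Mathlib.Data.ZMod.Basic
import Mathlib.Tactic

/-!
Elementary facts on 2 × 2 matrices of determinant one over a field.
-/

set_option autoImplicit false

namespace CfsgLib.ZJ

variable {K : Type*} [Field K]

abbrev SL2 (K : Type*) [Field K] := Matrix.SpecialLinearGroup (Fin 2) K

theorem sl2_det (g : SL2 K) : g 0 0 * g 1 1 - g 0 1 * g 1 0 = 1 := by
  have h := g.det_coe
  rw [Matrix.det_fin_two] at h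
  exact h

theorem sl2_mul (g h : SL2 K) (i j : Fin 2) :
    (g * h) i j = g i 0 * h 0 j + g i 1 * h 1 j := by
  simp [Matrix.mul_apply, Fin.sum_univ_two]

theorem sl2_inv (g : SL2 K) :
    (g⁻¹ : SL2 K) 0 0 = g 1 1 ∧ (g⁻¹ : SL2 K) 0 1 = - g 0 1 ∧
      (g⁻¹ : SL2 K) 1 0 = - g 1 0 ∧ (g⁻¹ : SL2 K) 1 1 = g 0 0 := by
  simp [Matrix.SpecialLinearGroup.coe_inv, Matrix.adjugate_fin_two]

theorem sl2_ext {g h : SL2 K} (h00 : g 0 0 = h 0 0) (h01 : g 0 1 = h 0 1)
    (h10 : g 1 0 = h 1 0) (h11 : g 1 1 = h 1 1) : g = h := by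
  apply Matrix.SpecialLinearGroup.ext
  intro i j
  fin_cases i <;> fin_cases j <;> assumption

/-- The upper unitriangular matrix with parameter `a`. -/
def upper (a : K) : SL2 K := ⟨!![1, a; 0, 1], by simp [Matrix.det_fin_two]⟩

/-- The lower unitriangular matrix with parameter `a`. -/
def lower (a : K) : SL2 K := ⟨!![1, 0; a, 1], by simp [Matrix.det_fin_two]⟩

@[simp] theorem upper_00 (a : K) : upper a 0 0 = 1 := rfl
@[simp] theorem upper_01 (a : K) : upper a 0 1 = a := rfl
@[simp] theorem upper_10 (a : K) : upper a 1 0 = 0 := rfl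
@[simp] theorem upper_11 (a : K) : upper a 1 1 = 1 := rfl
@[simp] theorem lower_00 (a : K) : lower a 0 0 = 1 := rfl
@[simp] theorem lower_01 (a : K) : lower a 0 1 = 0 := rfl
@[simp] theorem lower_10 (a : K) : lower a 1 0 = a := rfl
@[simp] theorem lower_11 (a : K) : lower a 1 1 = 1 := rfl

theorem upper_mul (a b : K) : upper a * upper b = upper (a + b) := by
  apply sl2_ext <;> simp only [sl2_mul, upper_00, upper_01, upper_10, upper_11] <;> ring

theorem lower_mul (a b : K) : lower a * lower b = lower (a + b) := by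
  apply sl2_ext <;> simp only [sl2_mul, lower_00, lower_01, lower_10, lower_11] <;> ring

theorem upper_zero : upper (0 : K) = 1 := by
  apply sl2_ext <;> simp

theorem lower_zero : lower (0 : K) = 1 := by
  apply sl2_ext <;> simp

theorem upper_inv (a : K) : (upper a)⁻¹ = upper (-a) := by
  apply inv_eq_of_mul_eq_one_right
  rw [upper_mul, add_neg_cancel, upper_zero]

theorem upper_pow (a : K) (n : ℕ) : upper a ^ n = upper ((n : K) * a) := by
  induction n with
  | zero => simp [upper_zero]
  | succ n ih => rw [pow_succ, ih, upper_mul]; push_cast; congr 1; ring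

theorem lower_pow (a : K) (n : ℕ) : lower a ^ n = lower ((n : K) * a) := by
  induction n with
  | zero => simp [lower_zero]
  | succ n ih => rw [pow_succ, ih, lower_mul]; push_cast; congr 1; ring

/-- Two matrices commuting with a non-scalar matrix commute. -/
theorem sl2_comm_of_comm {g h k : SL2 K} (hg : ¬ (g 0 1 = 0 ∧ g 1 0 = 0 ∧ g 0 0 = g 1 1))
    (h1 : g * h = h * g) (h2 : g * k = k * g) : h * k = k * h := by
  have e : ∀ i j, g i 0 * h 0 j + g i 1 * h 1 j = h i 0 * g 0 j + h i 1 * g 1 j := by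
    intro i j
    have := congrArg (fun x : SL2 K => x i j) h1
    simpa only [sl2_mul] using this
  have f : ∀ i j, g i 0 * k 0 j + g i 1 * k 1 j = k i 0 * g 0 j + k i 1 * g 1 j := by
    intro i j
    have := congrArg (fun x : SL2 K => x i j) h2
    simpa only [sl2_mul] using this
  have e00 := e 0 0
  have e01 := e 0 1
  have e10 := e 1 0
  have f00 := f 0 0
  have f01 := f 0 1
  have f10 := f 1 0
  -- cross products of the vectors (g01, g10, g00 - g11), (h…), (k…) vanish
  set a := g 0 1
  set b := g 1 0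
  set c := g 0 0 - g 1 1 with hc
  have eh1 : a * h 1 0 = b * h 0 1 := by linear_combination e00
  have fk1 : a * k 1 0 = b * k 0 1 := by linear_combination f00
  have eh2 : c * h 0 1 = a * (h 0 0 - h 1 1) := by rw [hc]; linear_combination e01
  have fk2 : c * k 0 1 = a * (k 0 0 - k 1 1) := by rw [hc]; linear_combination f01
  have eh3 : c * h 1 0 = b * (h 0 0 - h 1 1) := by rw [hc]; linear_combination -e10
  have fk3 : c * k 1 0 = b * (k 0 0 - k 1 1) := by rw [hc]; linear_combination -f10
  have hne : a ≠ 0 ∨ b ≠ 0 ∨ c ≠ 0 := by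
    by_contra hcon
    push Not at hcon
    exact hg ⟨hcon.1, hcon.2.1, by have := hcon.2.2; rw [hc] at this; linear_combination this⟩
  have P : h 0 1 * k 1 0 = k 0 1 * h 1 0 ∧
      h 0 1 * (k 0 0 - k 1 1) = k 0 1 * (h 0 0 - h 1 1) ∧
      h 1 0 * (k 0 0 - k 1 1) = k 1 0 * (h 0 0 - h 1 1) := by
    rcases hne with ha | hb | hc'
    · have P1 : h 0 1 * k 1 0 = k 0 1 * h 1 0 := by
        apply mul_left_cancel₀ ha
        linear_combination h 0 1 * fk1 - k 0 1 * eh1
      refine ⟨P1, ?_, ?_⟩ <;> apply mul_left_cancel₀ ha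
      · linear_combination k 0 1 * eh2 - h 0 1 * fk2
      · linear_combination k 1 0 * eh2 - h 1 0 * fk2 - c * P1
    · have P1 : h 0 1 * k 1 0 = k 0 1 * h 1 0 := by
        apply mul_left_cancel₀ hb
        linear_combination h 1 0 * fk1 - k 1 0 * eh1
      refine ⟨P1, ?_, ?_⟩ <;> apply mul_left_cancel₀ hb
      · linear_combination k 0 1 * eh3 - h 0 1 * fk3 + c * P1
      · linear_combination k 1 0 * eh3 - h 1 0 * fk3
    · refine ⟨?_, ?_, ?_⟩ <;> apply mul_left_cancel₀ hc'
      · linear_combination k 1 0 * eh2 - k 0 1 * eh3 + (h 0 0 - h 1 1) * fk1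
      · linear_combination (k 0 0 - k 1 1) * eh2 - (h 0 0 - h 1 1) * fk2
      · linear_combination (k 0 0 - k 1 1) * eh3 - (h 0 0 - h 1 1) * fk3
  obtain ⟨P1, P2, P3⟩ := P
  apply sl2_ext <;> simp only [sl2_mul]
  · linear_combination P1
  · linear_combination -P2
  · linear_combination P3
  · linear_combination -P1

theorem upper_ne_scalar {a : K} (ha : a ≠ 0) :
    ¬ (upper a 0 1 = 0 ∧ upper a 1 0 = 0 ∧ upper a 0 0 = upper a 1 1) := by
  simp [ha]

theorem comm_upper {a : K} (ha : a ≠ 0) {h : SL2 K} (hh : upper a * h = h * upper a) :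
    h 1 0 = 0 ∧ h 0 0 = h 1 1 := by
  have e : ∀ i j, upper a i 0 * h 0 j + upper a i 1 * h 1 j
      = h i 0 * upper a 0 j + h i 1 * upper a 1 j := by
    intro i j
    have := congrArg (fun x : SL2 K => x i j) hh
    simpa only [sl2_mul] using this
  have e00 := e 0 0
  have e01 := e 0 1
  simp only [upper_00, upper_01, upper_10, upper_11] at e00 e01
  have h1 : a * h 1 0 = 0 := by linear_combination e00
  refine ⟨(mul_eq_zero.mp h1).resolve_left ha, ?_⟩
  have h2 : a * (h 0 0 - h 1 1) = 0 := by linear_combination -e01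
  exact sub_eq_zero.mp ((mul_eq_zero.mp h2).resolve_left ha)

/-- `SL₂` over a field is generated by the upper and lower unitriangular matrices. -/
theorem sl2_upper_lower_induction (M : SL2 K) (S : Subgroup (SL2 K))
    (hu : ∀ a, upper a ∈ S) (hl : ∀ a, lower a ∈ S) : M ∈ S := by
  have key : ∀ N : SL2 K, N 1 0 ≠ 0 → N ∈ S := by
    intro N hN
    have hd := sl2_det N
    have : N = upper ((N 0 0 - 1) / N 1 0) * lower (N 1 0) * upper ((N 1 1 - 1) / N 1 0) := by
      apply sl2_ext <;>
        simp only [sl2_mul, upper_00, upper_01, upper_10, upper_11, lower_00, lower_01, lower_10,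
          lower_11] <;> field_simp
      · ring
      · linear_combination -hd
      · ring
      · ring
    rw [this]
    exact S.mul_mem (S.mul_mem (hu _) (hl _)) (hu _)
  by_cases hM : M 1 0 = 0
  · have hd := sl2_det M
    have h00 : M 0 0 ≠ 0 := by
      intro h
      rw [hM, h] at hd
      simp at hd
    have : (lower (1 : K) * M) 1 0 ≠ 0 := by simp [sl2_mul, hM, h00]
    have h2 := key _ this
    simpa using S.mul_mem (S.inv_mem (hl 1)) h2
  · exact key M hM

end CfsgLib.ZJ
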