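import Cfsg.Prelude.Def_LocalEven
import Cfsg.Agent.ZJ.Involve
import Cfsg.Agent.Solvable.Basics

/-!
Elementary abelian 2-groups acting on abelian groups of odd order acting on elementary abelian 2-groups:
offenders give sections isomorphic to the symmetric group of degree 4.
-/

set_option autoImplicit false
set_option linter.style.haveILetI false

namespace CfsgLib.ZJ

open Subgroup

section Fixed

variable {V : Type*} [CommGroup V]

/-- The points fixed by a set of automorphisms. -/
def fixSub (S : Set (MulAut V)) : Subgroup V where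
  carrier := {v | ∀ a ∈ S, a v = v}
  one_mem' := fun a _ => map_one a
  mul_mem' := fun {v w} hv hw a ha => by rw [map_mul, hv a ha, hw a ha]
  inv_mem' := fun {v} hv a ha => by rw [map_inv, hv a ha]

theorem mem_fixSub {S : Set (MulAut V)} {v : V} : v ∈ fixSub S ↔ ∀ a ∈ S, a v = v := Iff.rfl

/-- Hypotheses of the counting: `A` elementary abelian acting faithfully on the abelian group `K` of
odd order, which acts faithfully on the elementary abelian 2-group `W`. -/
structure OddPair (A K : Subgroup (MulAut V)) (W : Subgroup V) : Prop where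
  sq : ∀ w ∈ W, w * w = 1
  invA : ∀ a ∈ A, ∀ w ∈ W, a w ∈ W
  invK : ∀ k ∈ K, ∀ w ∈ W, k w ∈ W
  odd : ∀ k ∈ K, Odd (orderOf k)
  comm : ∀ k ∈ K, ∀ l ∈ K, k * l = l * k
  sqA : ∀ a ∈ A, a * a = 1
  norm : ∀ a ∈ A, ∀ k ∈ K, a * k * a⁻¹ ∈ K
  faithK : ∀ k ∈ K, (∀ w ∈ W, k w = w) → k = 1
  faithA : ∀ a ∈ A, (∀ k ∈ K, a * k * a⁻¹ = k) → a = 1

theorem eq_one_of_sq_eq_one {M : Type*} [Group M] {k : M} (h : Odd (orderOf k)) (h2 : k * k = 1) :
    k = 1 :=
  orderOf_eq_one_iff.mp (Nat.eq_one_of_dvd_coprimes (Nat.coprime_two_right.mpr h)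
    dvd_rfl (orderOf_dvd_of_pow_eq_one (by rw [pow_two]; exact h2)))

variable {A K : Subgroup (MulAut V)} {W : Subgroup V}

theorem OddPair.commA (h : OddPair A K W) {a b : MulAut V} (ha : a ∈ A) (hb : b ∈ A) :
    a * b = b * a := by
  have h1 := h.sqA _ (mul_mem ha hb)
  calc a * b = a * (a * b * (a * b)) * b := by rw [h1, mul_one]
    _ = (a * a) * b * a * (b * b) := by simp only [mul_assoc]
    _ = b * a := by rw [h.sqA a ha, h.sqA b hb, one_mul, mul_one]

/-- Elements of `K` inverted by `b` and centralized or inverted by every element of a finite set. -/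
theorem OddPair.exists_eigen (h : OddPair A K W) {b : MulAut V} (hb : b ∈ A) (hb1 : b ≠ 1)
    (s : Finset (MulAut V)) (hs : ∀ a ∈ s, a ∈ A) :
    ∃ u ∈ K, u ≠ 1 ∧ b * u * b⁻¹ = u⁻¹ ∧ ∀ a ∈ s, a * u * a⁻¹ = u ∨ a * u * a⁻¹ = u⁻¹ := by
  classical
  induction s using Finset.induction with
  | empty =>
    obtain ⟨k, hk, hne⟩ : ∃ k ∈ K, b * k * b⁻¹ ≠ k := by
      by_contra hcon
      push Not at hcon
      exact hb1 (h.faithA b hb hcon)
    refine ⟨k * (b * k * b⁻¹)⁻¹, mul_mem hk (inv_mem (h.norm b hb k hk)), fun h1 => hne ?_, ?_, by simp⟩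
    · exact (mul_inv_eq_one.mp h1).symm
    · have hbb : b⁻¹ = b := inv_eq_of_mul_eq_one_right (h.sqA b hb)
      have h2 : b * (b * k * b⁻¹) * b⁻¹ = k := by
        rw [← mul_assoc, ← mul_assoc, h.sqA b hb, one_mul, mul_assoc, ← mul_inv_rev, h.sqA b hb,
          inv_one, mul_one]
      calc b * (k * (b * k * b⁻¹)⁻¹) * b⁻¹ = (b * k * b⁻¹) * (b * (b * k * b⁻¹) * b⁻¹)⁻¹ := by group
        _ = (k * (b * k * b⁻¹)⁻¹)⁻¹ := by rw [h2]; group
  | @insert a s has ih =>
    obtain ⟨u, hu, hu1, hub, hus⟩ := ih fun x hx => hs x (Finset.mem_insert_of_mem hx)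
    have haA := hs a (Finset.mem_insert_self a s)
    set v := a * u * a⁻¹ with hv
    have hvK : v ∈ K := h.norm a haA u hu
    have hbv : b * v * b⁻¹ = v⁻¹ := by
      calc b * v * b⁻¹ = (b * a) * u * (b * a)⁻¹ := by rw [hv]; group
        _ = (a * b) * u * (a * b)⁻¹ := by rw [h.commA hb haA]
        _ = a * (b * u * b⁻¹) * a⁻¹ := by group
        _ = v⁻¹ := by rw [hub, hv]; group
    have hav : a * v * a⁻¹ = u := by
      rw [hv, ← mul_assoc, ← mul_assoc, h.sqA a haA, one_mul, mul_assoc, ← mul_inv_rev,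
        h.sqA a haA, inv_one, mul_one]
    have hsv : ∀ x ∈ s, x * v * x⁻¹ = v ∨ x * v * x⁻¹ = v⁻¹ := by
      intro x hx
      have hxA := hs x (Finset.mem_insert_of_mem hx)
      have e : x * v * x⁻¹ = a * (x * u * x⁻¹) * a⁻¹ := by
        calc x * v * x⁻¹ = (x * a) * u * (x * a)⁻¹ := by rw [hv]; group
          _ = (a * x) * u * (a * x)⁻¹ := by rw [h.commA hxA haA]
          _ = _ := by group
      rcases hus x hx with h' | h' <;> rw [e, h']
      · exact Or.inl hv.symm
      · exact Or.inr (by rw [hv]; group)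
    have hc : Commute u v := h.comm u hu v hvK
    by_cases hp : u * v = 1
    · refine ⟨u, hu, hu1, hub, fun x hx => ?_⟩
      rcases Finset.mem_insert.mp hx with rfl | hx
      · exact Or.inr (eq_inv_of_mul_eq_one_right hp)
      · exact hus x hx
    · refine ⟨u * v, mul_mem hu hvK, hp, ?_, fun x hx => ?_⟩
      · calc b * (u * v) * b⁻¹ = (b * u * b⁻¹) * (b * v * b⁻¹) := by group
          _ = u⁻¹ * v⁻¹ := by rw [hub, hbv]
          _ = (u * v)⁻¹ := hc.mul_inv.symm
      · rcases Finset.mem_insert.mp hx with rfl | hx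
        · refine Or.inl ?_
          calc x * (u * v) * x⁻¹ = (x * u * x⁻¹) * (x * v * x⁻¹) := by group
            _ = v * u := by rw [← hv, hav]
            _ = u * v := hc.eq.symm
        · have e : x * (u * v) * x⁻¹ = (x * u * x⁻¹) * (x * v * x⁻¹) := by group
          have hxA := hs x (Finset.mem_insert_of_mem hx)
          rcases hus x hx with h' | h'
          · have hxv : x * v * x⁻¹ = v := by
              calc x * v * x⁻¹ = (x * a) * u * (x * a)⁻¹ := by rw [hv]; group
                _ = (a * x) * u * (a * x)⁻¹ := by rw [h.commA hxA haA]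
                _ = a * (x * u * x⁻¹) * a⁻¹ := by group
                _ = v := by rw [h', hv]
            exact Or.inl (by rw [e, h', hxv])
          · have hxv : x * v * x⁻¹ = v⁻¹ := by
              calc x * v * x⁻¹ = (x * a) * u * (x * a)⁻¹ := by rw [hv]; group
                _ = (a * x) * u * (a * x)⁻¹ := by rw [h.commA hxA haA]
                _ = a * (x * u * x⁻¹) * a⁻¹ := by group
                _ = v⁻¹ := by rw [h', hv]; group
            exact Or.inr (by rw [e, h', hxv]; exact hc.mul_inv.symm)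

variable [Finite V]

/-- The counting for offenders. -/
theorem OddPair.exists_inverting (h : OddPair A K W) (hA : A ≠ ⊥) :
    ∃ a ∈ A, ∃ k ∈ K, k ≠ 1 ∧ a * k * a⁻¹ = k⁻¹ ∧
      Nat.card A * Nat.card ↥(W ⊓ fixSub (A : Set (MulAut V))) ≤
        2 * Nat.card ↥(W ⊓ fixSub ({a} : Set (MulAut V))) := by
  classical
  haveI : Finite (MulAut V) := Finite.of_injective (fun f : MulAut V => (f : V → V)) DFunLike.coe_injective
  obtain ⟨n, hn⟩ : ∃ n, Nat.card A = n := ⟨_, rfl⟩
  induction n using Nat.strong_induction_on generalizing A K W with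
  | _ n ih =>
    subst hn
    set E := {k : MulAut V | k ∈ K ∧ ∀ a ∈ A, a * k * a⁻¹ = k ∨ a * k * a⁻¹ = k⁻¹}
    obtain ⟨S, ⟨hSE, hS⟩, hSmin⟩ := Set.exists_min_image
      {S : Set (MulAut V) | S ⊆ E ∧ ∀ a ∈ A, (∀ k ∈ S, a * k * a⁻¹ = k) → a = 1}
      (fun S => S.ncard) (Set.toFinite _) ⟨E, subset_rfl, fun b hb hbE => by
        by_contra hb1
        obtain ⟨u, hu, hu1, hub, hus⟩ :=
          h.exists_eigen hb hb1 (Set.toFinite (A : Set (MulAut V))).toFinset (fun a ha => by simpa using ha)
        have := hbE u ⟨hu, fun a ha => hus a (by simpa using ha)⟩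
        rw [hub] at this
        exact hu1 (eq_one_of_sq_eq_one (h.odd u hu) (by
          conv_lhs => lhs; rw [← this]
          rw [inv_mul_cancel]))⟩
    obtain ⟨s0, hs0⟩ : S.Nonempty := by
      rcases S.eq_empty_or_nonempty with rfl | hne
      · exfalso
        exact hA ((Subgroup.eq_bot_iff_forall _).mpr fun a ha => hS a ha (by simp))
      · exact hne
    obtain ⟨a, ha, haS, ha1⟩ : ∃ a ∈ A, (∀ k ∈ S \ {s0}, a * k * a⁻¹ = k) ∧ a ≠ 1 := by
      by_contra hcon
      push Not at hcon
      have := hSmin (S \ {s0}) ⟨Set.sdiff_subset.trans hSE, fun a ha h' => hcon a ha h'⟩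
      exact absurd this (not_le.mpr (Set.ncard_diff_singleton_lt_of_mem hs0 (Set.toFinite _)))
    have has0 : a * s0 * a⁻¹ = s0⁻¹ := by
      rcases (hSE hs0).2 a ha with h' | h'
      · exact absurd (hS a ha fun k hk => if hk0 : k = s0 then hk0 ▸ h' else haS k ⟨hk, hk0⟩) ha1
      · exact h'
    have hs01 : s0 ≠ 1 := by
      rintro rfl
      refine ha1 (hS a ha fun k hk => ?_)
      by_cases hk0 : k = 1
      · rw [hk0]; group
      · exact haS k ⟨hk, hk0⟩
    -- the hyperplane centralizing `s0`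
    set A' := A ⊓ centralizer {s0} with hA'
    set K' := K ⊓ centralizer {a} with hK'
    set W' := W ⊓ fixSub ({a} : Set (MulAut V)) with hW'
    have hmemA' : ∀ x, x ∈ A' ↔ x ∈ A ∧ x * s0 * x⁻¹ = s0 := fun x => and_congr_right fun _ =>
      mem_centralizer_singleton_iff.trans mul_inv_eq_iff_eq_mul.symm
    have hcardA : Nat.card A ≤ 2 * Nat.card A' := by
      have hsub : (A : Set (MulAut V)) ⊆ (A' : Set (MulAut V)) ∪ (fun x => a * x) '' A' := by
        intro x hx
        rcases (hSE hs0).2 x hx with h' | h'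
        · exact Or.inl ((hmemA' x).mpr ⟨hx, h'⟩)
        · refine Or.inr ⟨a * x, (hmemA' _).mpr ⟨mul_mem ha hx, ?_⟩, ?_⟩
          · calc a * x * s0 * (a * x)⁻¹ = a * (x * s0 * x⁻¹) * a⁻¹ := by group
              _ = (a * s0 * a⁻¹)⁻¹ := by rw [h']; group
              _ = s0 := by rw [has0, inv_inv]
          · show a * (a * x) = x
            rw [← mul_assoc, h.sqA a ha, one_mul]
      have h1 := (Set.ncard_le_ncard hsub (Set.toFinite _)).trans (Set.ncard_union_le _ _)
      have h2 : ((fun x => a * x) '' (A' : Set (MulAut V))).ncard = (A' : Set (MulAut V)).ncard :=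
        Set.ncard_image_of_injective _ (mul_right_injective a)
      rw [h2, ← two_mul] at h1
      rw [← Nat.card_coe_set_eq, ← Nat.card_coe_set_eq] at h1
      exact h1
    have hlt : Nat.card A' < Nat.card A := Solvable.card_lt_of_lt (lt_of_le_of_ne inf_le_left
      fun he => hs01 (eq_one_of_sq_eq_one (h.odd s0 (hSE hs0).1) (by
        have := ((hmemA' a).mp (he.symm ▸ ha)).2
        rw [has0] at this
        conv_lhs => lhs; rw [← this]
        rw [inv_mul_cancel])))
    have h' : OddPair A' K' W' := by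
      refine ⟨fun w hw => h.sq w hw.1, fun x hx w hw => ⟨h.invA x hx.1 w hw.1, ?_⟩,
        fun k hk w hw => ⟨h.invK k hk.1 w hw.1, ?_⟩, fun k hk => h.odd k hk.1,
        fun k hk l hl => h.comm k hk.1 l hl.1, fun x hx => h.sqA x hx.1,
        fun x hx k hk => ⟨h.norm x hx.1 k hk.1, ?_⟩, fun k hk hfix => ?_, fun x hx hxK => ?_⟩
      · refine mem_fixSub.mpr fun y hy => ?_
        rw [Set.mem_singleton_iff] at hy
        subst hy
        rw [← MulAut.mul_apply, h.commA ha hx.1, MulAut.mul_apply, mem_fixSub.mp hw.2 y rfl]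
      · refine mem_fixSub.mpr fun y hy => ?_
        rw [Set.mem_singleton_iff] at hy
        subst hy
        rw [← MulAut.mul_apply, ← mem_centralizer_singleton_iff.mp hk.2, MulAut.mul_apply,
          mem_fixSub.mp hw.2 y rfl]
      · refine mem_centralizer_singleton_iff.mpr ?_
        have hk2 := mem_centralizer_singleton_iff.mp hk.2
        calc x * k * x⁻¹ * a = x * (k * a) * x⁻¹ := by
              rw [mul_assoc (x * k), ← (show Commute a x⁻¹ from h.commA ha (inv_mem hx.1)).eq]
              group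
          _ = x * (a * k) * x⁻¹ := by rw [hk2]
          _ = a * (x * k * x⁻¹) := by rw [← mul_assoc x, ← h.commA ha hx.1]; group
      · refine eq_one_of_sq_eq_one (h.odd k hk.1) (h.faithK _ (mul_mem hk.1 hk.1) fun w hw => ?_)
        have haw : a w * w ∈ W' := ⟨mul_mem (h.invA a ha w hw) hw, mem_fixSub.mpr fun y hy => by
          rw [Set.mem_singleton_iff] at hy
          subst hy
          rw [map_mul, ← MulAut.mul_apply, h.sqA y ha, MulAut.one_apply, mul_comm]⟩
        have h1 := hfix _ haw
        rw [map_mul, ← MulAut.mul_apply, mem_centralizer_singleton_iff.mp hk.2,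
          MulAut.mul_apply] at h1
        have hu : w * k w ∈ W' := ⟨mul_mem hw (h.invK k hk.1 w hw), mem_fixSub.mpr fun y hy => by
          rw [Set.mem_singleton_iff] at hy
          subst hy
          calc y (w * k w) = y w * y (k w) := map_mul y w (k w)
            _ = (y w * w) * (w * k w) * (k w * y (k w)) := by
                rw [show (y w * w) * (w * k w) * (k w * y (k w)) =
                  y w * (w * w) * (k w * k w) * y (k w) by simp only [mul_assoc]]
                rw [h.sq w hw, h.sq _ (h.invK k hk.1 w hw), mul_one, mul_one]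
            _ = w * k w := by
                rw [mul_comm (k w) (y (k w)), h1, mul_comm (y w * w) (w * k w), mul_assoc,
                  h.sq _ (mul_mem (h.invA y ha w hw) hw), mul_one]⟩
        have h2 := hfix _ hu
        rw [map_mul] at h2
        rw [MulAut.mul_apply]
        have hkw := h.invK k hk.1 w hw
        calc k (k w) = (k w * k w) * k (k w) := by rw [h.sq _ hkw, one_mul]
          _ = k w * (w * k w) := by rw [mul_assoc, h2]
          _ = w := by rw [mul_comm w, ← mul_assoc, h.sq _ hkw, one_mul]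
      · refine hS x hx.1 fun k hk => ?_
        by_cases hk0 : k = s0
        · exact hk0 ▸ ((hmemA' x).mp hx).2
        · refine hxK k ⟨(hSE hk).1, mem_centralizer_singleton_iff.mpr ?_⟩
          have := haS k ⟨hk, hk0⟩
          rw [mul_inv_eq_iff_eq_mul] at this
          exact this.symm
    refine ⟨a, ha, s0, (hSE hs0).1, hs01, has0, ?_⟩
    have hfix : W ⊓ fixSub (A : Set (MulAut V)) ≤ W' ⊓ fixSub (A' : Set (MulAut V)) := fun w hw =>
      ⟨⟨hw.1, mem_fixSub.mpr fun y hy => by
        rw [Set.mem_singleton_iff] at hy; subst hy; exact mem_fixSub.mp hw.2 y ha⟩,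
        mem_fixSub.mpr fun y hy => mem_fixSub.mp hw.2 y hy.1⟩
    have hweak : Nat.card A' * Nat.card ↥(W' ⊓ fixSub (A' : Set (MulAut V))) ≤ Nat.card W' := by
      by_cases hA'1 : A' = ⊥
      · rw [hA'1, card_bot, one_mul]
        exact card_le_of_le inf_le_left
      obtain ⟨a', ha', k', hk', hk'1, hinv, hle⟩ := ih _ hlt h' hA'1 rfl
      refine hle.trans ?_
      have hne : ¬ W' ≤ fixSub ({a'} : Set (MulAut V)) := fun hall => by
        have hfixw : ∀ w ∈ W', a' w = w := fun w hw => mem_fixSub.mp (hall hw) a' rfl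
        refine hk'1 (eq_one_of_sq_eq_one (h'.odd k' hk') (h'.faithK _ (mul_mem hk' hk') fun w hw => ?_))
        have e1 : (a' * k' * a'⁻¹) (k' w) = w := by rw [hinv]; exact MulAut.inv_apply_self V k' w
        have hainv : a'⁻¹ = a' := inv_eq_of_mul_eq_one_right (h'.sqA a' ha')
        rw [hainv, MulAut.mul_apply, MulAut.mul_apply, hfixw _ (h'.invK k' hk' w hw),
          hfixw _ (h'.invK k' hk' _ (h'.invK k' hk' w hw))] at e1
        exact e1
      obtain ⟨c, hc⟩ := card_dvd_of_le (inf_le_left : W' ⊓ fixSub ({a'} : Set (MulAut V)) ≤ W')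
      have hltc := Solvable.card_lt_of_lt (lt_of_le_of_ne
        (inf_le_left : W' ⊓ fixSub ({a'} : Set (MulAut V)) ≤ W') fun he => hne (inf_eq_left.mp he))
      rw [hc] at hltc ⊢
      rw [mul_comm 2]
      refine Nat.mul_le_mul_left _ ?_
      rcases c with _ | _ | c
      · simp at hltc
      · simp at hltc
      · omega
    calc Nat.card A * Nat.card ↥(W ⊓ fixSub (A : Set (MulAut V)))
        ≤ (2 * Nat.card A') * Nat.card ↥(W' ⊓ fixSub (A' : Set (MulAut V))) :=
          Nat.mul_le_mul hcardA (card_le_of_le hfix)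
      _ ≤ 2 * Nat.card W' := by rw [mul_assoc]; exact Nat.mul_le_mul_left 2 hweak

end Fixed

/-- A section isomorphic to the symmetric group of degree 4 from a four-group and an element of a
subgroup of odd order, acting fixed point freely and inverted in its action by an element normalizing
the subgroup. -/
theorem involves_s4_of_normalized {G : Type*} [Group G] [Finite G] (X : Subgroup G)
    (hX : Nat.card X = 4) {R : Subgroup G} (hR : Odd (Nat.card R)) {g t : G} (hgR : g ∈ R)
    (htR : t ∈ normalizer (R : Set G))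
    (hinv : ∀ x ∈ X, (t * g * t⁻¹) * x * (t * g * t⁻¹)⁻¹ = g⁻¹ * x * g)
    (hgX : g ∈ normalizer (X : Set G)) (htX : t ∈ normalizer (X : Set G))
    (hfpf : ∀ x ∈ X, g * x = x * g → x = 1) :
    Cfsg.Involves (Equiv.Perm (Fin 4)) G := by
  classical
  have hX2 : ∀ x ∈ X, orderOf x ∣ 4 := fun x hx => hX ▸ X.orderOf_dvd_natCard hx
  set T := closure ({g, t} : Set G) with hT
  have hgT : g ∈ T := subset_closure (Set.mem_insert g _)
  have htT : t ∈ T := subset_closure (Set.mem_insert_of_mem g rfl)
  have hTX : T ≤ normalizer (X : Set G) := (closure_le _).mpr (by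
    rintro _ (rfl | rfl)
    exacts [hgX, htX])
  have hg : Odd (orderOf g) := hR.of_dvd_nat (R.orderOf_dvd_natCard hgR)
  have hTQ : T ≤ normalizer (R : Set G) := (closure_le _).mpr (by
    rintro _ (rfl | rfl)
    exacts [le_normalizer hgR, htR])
  have hXT : X ⊓ T = ⊥ := by
    rw [eq_bot_iff]
    rintro x ⟨hx, hxT⟩
    refine mem_bot.mpr (hfpf x hx ?_)
    have h1 : x * g * x⁻¹ * g⁻¹ ∈ R :=
      mul_mem ((mem_normalizer_iff.mp (hTQ hxT) g).mp hgR) (inv_mem hgR)
    have h2 : x * g * x⁻¹ * g⁻¹ ∈ X := by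
      rw [show x * g * x⁻¹ * g⁻¹ = x * (g * x⁻¹ * g⁻¹) by group]
      exact mul_mem hx ((mem_normalizer_iff.mp hgX _).mp (inv_mem hx))
    have h4 : Nat.Coprime (Nat.card R) 4 := (Nat.coprime_two_right.mpr hR).pow_right 2
    have h3 : orderOf (x * g * x⁻¹ * g⁻¹) = 1 := Nat.eq_one_of_dvd_coprimes h4
      (R.orderOf_dvd_natCard h1) (hX2 _ h2)
    rw [orderOf_eq_one_iff, mul_inv_eq_one, mul_inv_eq_iff_eq_mul] at h3
    exact h3.symm
  set U := X ⊔ T with hU
  have hcardU : Nat.card U = Nat.card T * 4 := by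
    rw [← hX, hU, sup_comm]
    exact Solvable.card_sup_of_disjoint hTX (inf_comm T X ▸ hXT)
  set T' := T.subgroupOf U with hT'
  have hindex : T'.index = 4 := by
    have h1 := T'.card_mul_index
    rw [Nat.card_congr (subgroupOfEquivOfLe (le_sup_right : T ≤ U)).toEquiv, hcardU] at h1
    exact Nat.eq_of_mul_eq_mul_left Nat.card_pos h1
  have hΩ : Nat.card (U ⧸ T') = 4 := by rw [← index_eq_card, hindex]
  let f : U →* Equiv.Perm (U ⧸ T') := MulAction.toPermHom U (U ⧸ T')
  let o : U ⧸ T' := ((1 : U) : U ⧸ T')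
  have hfo : ∀ y : U, f y o = ((y : U) : U ⧸ T') := fun y => by
    show y • o = _
    simp [o, MulAction.Quotient.smul_coe]
  set R := f.range with hR
  have horb : MulAction.orbit R o = Set.univ := by
    refine Set.eq_univ_of_forall fun q => ?_
    obtain ⟨y, rfl⟩ := QuotientGroup.mk_surjective q
    exact ⟨⟨f y, y, rfl⟩, hfo y⟩
  have hcardR : Nat.card R = 4 * Nat.card (MulAction.stabilizer R o) := by
    rw [← (MulAction.stabilizer R o).card_mul_index, mul_comm]
    congr 1
    rw [MulAction.index_stabilizer, horb, Set.ncard_univ, hΩ]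
  -- two non-commuting elements fix the point
  let gu : U := ⟨g, mem_sup_right hgT⟩
  let tu : U := ⟨t, mem_sup_right htT⟩
  have hfix : ∀ y : U, (y : G) ∈ T → f y o = o := fun y hy => by
    rw [hfo]
    exact QuotientGroup.eq.mpr (by simpa [mem_subgroupOf, hT'] using inv_mem hy)
  have hxq : ∀ x : G, ∀ hx : x ∈ X, ∀ y : U, ∀ hy : (y : G) ∈ T,
      f y ((⟨x, mem_sup_left hx⟩ : U) : U ⧸ T') =
        ((⟨(y : G) * x * (y : G)⁻¹,
          mem_sup_left ((mem_normalizer_iff.mp (hTX hy) x).mp hx)⟩ : U) : U ⧸ T') := by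
    intro x hx y hy
    show y • ((⟨x, mem_sup_left hx⟩ : U) : U ⧸ T') = _
    rw [MulAction.Quotient.smul_coe, QuotientGroup.eq]
    show (((y * ⟨x, _⟩)⁻¹ * ⟨_, _⟩ : U) : G) ∈ T
    simp only [Subgroup.coe_mul, Subgroup.coe_inv, smul_eq_mul]
    rw [show ((y : G) * x)⁻¹ * ((y : G) * x * (y : G)⁻¹) = (y : G)⁻¹ by group]
    exact inv_mem hy
  have hinj : ∀ x x' : G, ∀ hx : x ∈ X, ∀ hx' : x' ∈ X,
      ((⟨x, mem_sup_left hx⟩ : U) : U ⧸ T') = ((⟨x', mem_sup_left hx'⟩ : U) : U ⧸ T') → x = x' := by
    intro x x' hx hx' he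
    have h1 := QuotientGroup.eq.mp he
    have h2 : x⁻¹ * x' ∈ X ⊓ T := ⟨X.mul_mem (X.inv_mem hx) hx', h1⟩
    rw [hXT, mem_bot, inv_mul_eq_one] at h2
    exact h2
  have hstab : 6 ≤ Nat.card (MulAction.stabilizer R o) := by
    set St := MulAction.stabilizer R o with hSt
    let sg : St := ⟨⟨f gu, gu, rfl⟩, hfix gu hgT⟩
    let st : St := ⟨⟨f tu, tu, rfl⟩, hfix tu htT⟩
    have hne : sg * st ≠ st * sg := by
      intro he
      have he' : f gu * f tu = f tu * f gu := congrArg Subtype.val (congrArg Subtype.val he)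
      obtain ⟨x, hx, hx1⟩ := X.bot_or_exists_ne_one.resolve_left (fun h => by
        rw [h, card_bot] at hX; omega)
      have h1 := congrArg (fun σ : Equiv.Perm _ => σ ((⟨x, mem_sup_left hx⟩ : U) : U ⧸ T')) he'
      simp only [Equiv.Perm.mul_apply] at h1
      rw [hxq x hx tu htT, hxq _ ((mem_normalizer_iff.mp htX x).mp hx) gu hgT, hxq x hx gu hgT,
        hxq _ ((mem_normalizer_iff.mp hgX x).mp hx) tu htT] at h1
      have h2 := hinj _ _ ((mem_normalizer_iff.mp hgX _).mp ((mem_normalizer_iff.mp htX x).mp hx))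
        ((mem_normalizer_iff.mp htX _).mp ((mem_normalizer_iff.mp hgX x).mp hx)) h1
      set x' := t * x * t⁻¹ with hx'
      have h3 : g * x' * g⁻¹ = g⁻¹ * x' * g := by
        calc g * x' * g⁻¹ = t * (g * x * g⁻¹) * t⁻¹ := h2
          _ = (t * g * t⁻¹) * x' * (t * g * t⁻¹)⁻¹ := by rw [hx']; group
          _ = g⁻¹ * x' * g := hinv x' ((mem_normalizer_iff.mp htX x).mp hx)
      have h4 : (g * g) * x' = x' * (g * g) := by
        calc g * g * x' = g * (g * x' * g⁻¹) * g := by group
          _ = g * (g⁻¹ * x' * g) * g := by rw [h3]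
          _ = x' * (g * g) := by group
      obtain ⟨m, hm⟩ := hg
      have hgm : g = (g * g) ^ (m + 1) := by
        rw [← pow_two, ← pow_mul, show 2 * (m + 1) = orderOf g + 1 by omega, pow_succ,
          pow_orderOf_eq_one, one_mul]
      have h5 : g * x' = x' * g := by
        rw [hgm]; exact ((show Commute (g * g) x' from h4).pow_left (m + 1)).eq
      have := hfpf x' ((mem_normalizer_iff.mp htX x).mp hx) h5
      rw [hx', mul_inv_eq_one, mul_eq_left] at this
      exact hx1 this
    by_contra hlt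
    push Not at hlt
    have hpos : 0 < Nat.card St := Nat.card_pos
    have hdvd : Nat.card St ∣ 24 := by
      refine (card_subgroup_dvd_card St).trans ((card_subgroup_dvd_card R).trans ?_)
      rw [Nat.card_perm, hΩ]
      exact dvd_rfl
    have h4' : Nat.card R ∣ 24 := by
      refine (card_subgroup_dvd_card R).trans ?_
      rw [Nat.card_perm, hΩ]
      exact dvd_rfl
    rw [hcardR] at h4'
    apply hne
    interval_cases hc : Nat.card St
    · haveI := (Nat.card_eq_one_iff_unique.mp hc).1
      exact Subsingleton.elim _ _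
    · haveI := Fact.mk Nat.prime_two
      haveI := isCyclic_of_prime_card hc
      exact (IsCyclic.isMulCommutative (α := St)).is_comm.comm sg st
    · haveI := Fact.mk Nat.prime_three
      haveI := isCyclic_of_prime_card hc
      exact (IsCyclic.isMulCommutative (α := St)).is_comm.comm sg st
    · norm_num at h4'
    · norm_num at h4'
  have hsurj : Function.Surjective f := by
    rw [← MonoidHom.range_eq_top]
    refine eq_top_of_le_card _ ?_
    rw [Nat.card_perm, hΩ, hcardR]
    calc Nat.factorial 4 = 4 * 6 := rfl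
      _ ≤ _ := Nat.mul_le_mul_left 4 hstab
  haveI : Fintype (U ⧸ T') := Fintype.ofFinite _
  let e : Equiv.Perm (U ⧸ T') ≃* Equiv.Perm (Fin 4) :=
    (Fintype.equivFinOfCardEq (by rw [← Nat.card_eq_fintype_card, hΩ])).permCongrHom
  exact involves_of_surjective U (e.toMonoidHom.comp f) (e.surjective.comp hsurj)

/-- A section isomorphic to the symmetric group of degree 4 from a four-group and an inverting pair. -/
theorem involves_s4 {G : Type*} [Group G] [Finite G] (X : Subgroup G) (hX : Nat.card X = 4)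
    {g t : G} (hg : Odd (orderOf g)) (hinv : t * g * t⁻¹ = g⁻¹)
    (hgX : g ∈ normalizer (X : Set G)) (htX : t ∈ normalizer (X : Set G))
    (hfpf : ∀ x ∈ X, g * x = x * g → x = 1) :
    Cfsg.Involves (Equiv.Perm (Fin 4)) G := by
  refine involves_s4_of_normalized X hX (R := zpowers g) (by rwa [Nat.card_zpowers]) (mem_zpowers g)
    ?_ (fun x _ => by rw [hinv, inv_inv]) hgX htX hfpf
  rw [mem_normalizer_iff_map_conj_eq, MonoidHom.map_zpowers]
  show zpowers ((MulAut.conj t) g) = _
  rw [MulAut.conj_apply, hinv, zpowers_inv]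

end CfsgLib.ZJ
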