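import Cfsg.Agent.ZJ.ThompsonComplement
import Cfsg.Agent.ZJ.OffenderTwo

/-!
Thompson's normal 2-complement theorem in groups with no section isomorphic to the symmetric group of
degree 4.
-/

set_option autoImplicit false
set_option linter.style.haveILetI false

namespace CfsgLib.ZJ

open Subgroup CfsgLib.Functor
open scoped CfsgLib.Functor commutatorElement

universe u

/-- An offender on an elementary abelian normal 2-subgroup of the critical configuration gives a
section isomorphic to the symmetric group of degree 4. -/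
theorem involves_s4_of_offender {G : Type*} [Group G] [Finite G] (P : Sylow 2 G)
    (hmax : ∀ M : Subgroup G, (P : Subgroup G) ≤ M → M = P ∨ M = ⊤)
    (L V A : Subgroup G) [L.Normal] [V.Normal] (hL : ∀ x : G, ∃ k, x ^ 2 ^ k ∈ L)
    (hab : ∀ x ∈ L, ∀ y ∈ L, x * y * x⁻¹ * y⁻¹ ∈ Cfsg.pCore 2 G)
    (hLcop : ∀ x ∈ L, ∃ m : ℕ, m.Coprime 2 ∧ x ^ m ∈ Cfsg.pCore 2 G)
    (hVel : Cfsg.IsElementaryAbelian 2 V) (hVH : V ≤ Cfsg.pCore 2 G)
    (hHC : Cfsg.pCore 2 G ≤ centralizer (V : Set G))
    (hCH : centralizer (V : Set G) ≤ Cfsg.pCore 2 G)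
    (hA : A ∈ fam (fun A : Subgroup G => IsMulCommutative A) (P : Subgroup G))
    (hAH : ¬ A ≤ Cfsg.pCore 2 G) (hVA : V ≤ normalizer (A : Set G)) :
    Cfsg.Involves (Equiv.Perm (Fin 4)) G := by
  classical
  haveI : Fact (Nat.Prime 2) := ⟨Nat.prime_two⟩
  set H := Cfsg.pCore 2 G with hH
  have hHP : H ≤ P := pCore_le_sylow P
  letI : CommGroup V :=
    { (inferInstance : Group V) with
      mul_comm := fun a b => hVel.1.is_comm.comm a b }
  have hker : ∀ x : G, (MulAut.conjNormal x : MulAut V) = 1 ↔ x ∈ H := by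
    intro x
    refine ⟨fun h => hCH (mem_centralizer_iff.mpr fun v hv => ?_), fun hx => MulEquiv.ext fun v => ?_⟩
    · have h1 := congrArg Subtype.val (DFunLike.congr_fun h (⟨v, hv⟩ : V))
      rw [MulAut.conjNormal_apply] at h1
      exact (mul_inv_eq_iff_eq_mul.mp h1).symm
    · refine Subtype.ext ?_
      rw [MulAut.conjNormal_apply, mul_inv_eq_iff_eq_mul]
      exact (mem_centralizer_iff.mp (hHC hx) v v.2).symm
  set φ : G →* MulAut V := MulAut.conjNormal with hφ
  have hAc : ∀ x ∈ A, ∀ y ∈ A, x * y = y * x := fun x hx y hy =>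
    congrArg Subtype.val (hA.1.is_comm.comm ⟨x, hx⟩ ⟨y, hy⟩)
  have hodd : ∀ x ∈ L, Odd (orderOf (φ x)) := by
    intro x hx
    obtain ⟨m, hm, hxm⟩ := hLcop x hx
    exact (Nat.coprime_two_right.mp hm).of_dvd_nat (orderOf_dvd_of_pow_eq_one
      (by rw [← map_pow]; exact (hker _).mpr hxm))
  have hpair : OddPair (A.map φ) (L.map φ) (⊤ : Subgroup V) := by
    refine ⟨fun w _ => Subtype.ext ?_, fun _ _ w _ => mem_top _, fun _ _ w _ => mem_top _, ?_, ?_,
      ?_, ?_, fun k _ h => MulEquiv.ext fun w => h w (mem_top w), ?_⟩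
    · show (w : G) * w = 1
      rw [← pow_two]
      exact hVel.2 w w.2
    · rintro _ ⟨x, hx, rfl⟩
      exact hodd x hx
    · rintro _ ⟨x, hx, rfl⟩ _ ⟨y, hy, rfl⟩
      have h := (hker _).mpr (hab x hx y hy)
      rw [map_mul, map_mul, map_mul, map_inv, map_inv, mul_inv_eq_one, mul_inv_eq_iff_eq_mul] at h
      exact h
    · rintro _ ⟨a, ha, rfl⟩
      refine MulEquiv.ext fun v => Subtype.ext ?_
      rw [← map_mul, MulAut.conjNormal_apply, MulAut.one_apply]
      set c := a * (v : G) * a⁻¹ * (v : G)⁻¹ with hc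
      have hcA : c ∈ A := by
        rw [hc, show a * (v : G) * a⁻¹ * (v : G)⁻¹ = a * ((v : G) * a⁻¹ * (v : G)⁻¹) by group]
        exact mul_mem ha ((mem_normalizer_iff.mp (hVA v.2) _).mp (inv_mem ha))
      have hcV : c ∈ V := mul_mem ((inferInstance : V.Normal).conj_mem _ v.2 a) (inv_mem v.2)
      have h2 : a * c * a⁻¹ = c := by rw [hAc a ha c hcA, mul_inv_cancel_right]
      calc a * a * (v : G) * (a * a)⁻¹ = a * (a * (v : G) * a⁻¹) * a⁻¹ := by group
        _ = a * (c * v) * a⁻¹ := by rw [hc]; group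
        _ = (a * c * a⁻¹) * (a * (v : G) * a⁻¹) := by group
        _ = c * (c * v) := by rw [h2, show a * (v : G) * a⁻¹ = c * v by rw [hc]; group]
        _ = (c * c) * v := (mul_assoc _ _ _).symm
        _ = v := by rw [← pow_two, hVel.2 c hcV, one_mul]
    · rintro _ ⟨a, -, rfl⟩ _ ⟨x, hx, rfl⟩
      exact ⟨a * x * a⁻¹, (inferInstance : L.Normal).conj_mem x hx a, by simp⟩
    · rintro _ ⟨a, ha, rfl⟩ hfix
      refine (hker a).mpr ?_
      set π := QuotientGroup.mk' H with hπ
      haveI : (L.map π).Normal := Normal.map inferInstance π (QuotientGroup.mk'_surjective H)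
      set D := (P : Subgroup G) ⊓ (centralizer ((L.map π : Subgroup _) : Set (G ⧸ H))).comap π with hD
      have haD : a ∈ D := by
        refine ⟨hA.2.1 ha, mem_centralizer_iff.mpr ?_⟩
        rintro _ ⟨l, hl, rfl⟩
        have h1 := hfix _ (mem_map_of_mem φ hl)
        rw [← map_inv, ← map_mul, ← map_mul] at h1
        have h2 : a * l * a⁻¹ * l⁻¹ ∈ H := (hker _).mp (by rw [map_mul, h1, map_inv, mul_inv_cancel])
        have h3 : π (a * l * a⁻¹ * l⁻¹) = 1 := (QuotientGroup.eq_one_iff _).mpr h2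
        rw [map_mul, map_mul, map_mul, map_inv, map_inv, mul_inv_eq_one, mul_inv_eq_iff_eq_mul] at h3
        exact h3.symm
      have hLP : L ⊔ (P : Subgroup G) = ⊤ := by
        refine (hmax _ le_sup_right).elim (fun h => ?_) id
        have hG : IsPGroup 2 G := fun x => by
          obtain ⟨k, hk⟩ := hL x
          obtain ⟨j, hj⟩ := P.2 ⟨_, h ▸ mem_sup_left hk⟩
          exact ⟨k + j, by simpa [pow_add, pow_mul] using congrArg Subtype.val hj⟩
        rw [h]
        exact (P.3 (hG.to_subgroup ⊤) le_top).symm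
      have hDn : D.Normal := by
        rw [← normalizer_eq_top_iff, ← top_le_iff, ← hLP, sup_le_iff]
        refine ⟨fun l hl => mem_normalizer_iff_cj.mpr
          (eq_of_le_of_card_le' (cj_le_iff.mpr fun d hd => ?_) (card_cj _ _).ge), fun s hs => ?_⟩
        · have h0 := mem_centralizer_iff.mp hd.2 _ (mem_map_of_mem π hl)
          have h1 : l * d * l⁻¹ * d⁻¹ ∈ H := by
            refine (QuotientGroup.eq_one_iff _).mp ?_
            show π (l * d * l⁻¹ * d⁻¹) = 1
            rw [map_mul, map_mul, map_mul, map_inv, map_inv, h0, mul_inv_cancel_right, mul_inv_cancel]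
          rw [← inv_mul_cancel_right (l * d * l⁻¹) d]
          refine mul_mem ⟨hHP h1, mem_comap.mpr ?_⟩ hd
          rw [show π (l * d * l⁻¹ * d⁻¹) = 1 from (QuotientGroup.eq_one_iff _).mpr h1]
          exact one_mem _
        · refine mem_normalizer_iff_cj.mpr
            (eq_of_le_of_card_le' (cj_le_iff.mpr fun d hd => ?_) (card_cj _ _).ge)
          exact ⟨(P : Subgroup G).mul_mem ((P : Subgroup G).mul_mem hs hd.1)
              ((P : Subgroup G).inv_mem hs),
            (inferInstance : ((centralizer ((L.map π : Subgroup _) : Set (G ⧸ H))).comap π).Normal).conj_mem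
              d hd.2 s⟩
      exact Solvable.le_pCore 2 hDn (P.2.to_le inf_le_left) haD
  have hAb : A.map φ ≠ ⊥ := fun h => hAH fun a ha =>
    (hker a).mp (mem_bot.mp (h ▸ mem_map_of_mem φ ha))
  obtain ⟨_, ⟨a0, ha0, rfl⟩, _, ⟨l0, hl0, rfl⟩, hk1, hinv, hle⟩ := hpair.exists_inverting hAb
  -- the order bound
  have hcard : Nat.card V ≤ 2 * Nat.card ↥(fixSub ({φ a0} : Set (MulAut V))) := by
    set B := (A ⊓ H) ⊔ V with hB
    have hBc : IsMulCommutative B := by
      rw [hB, sup_eq_closure]
      refine Subgroup.isMulCommutative_closure ?_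
      rintro x (hx | hx) y (hy | hy)
      · exact hAc x hx.1 y hy.1
      · exact (mem_centralizer_iff.mp (hHC hx.2) y hy).symm
      · exact mem_centralizer_iff.mp (hHC hy.2) x hx
      · exact congrArg Subtype.val (hVel.1.is_comm.comm ⟨x, hx⟩ ⟨y, hy⟩)
    have h1 : Nat.card B ≤ Nat.card A :=
      hA.2.2 B hBc (sup_le (inf_le_left.trans hA.2.1) (hVH.trans hHP))
    have h2 := Solvable.card_sup_mul_card_inf (A := A ⊓ H) (K := V) le_normalizer_of_normal
    set f := φ.comp A.subtype with hf
    have h3 : Nat.card A = Nat.card ↥(A.map φ) * Nat.card ↥(A ⊓ H) := by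
      rw [← f.ker.card_mul_index, index_ker, mul_comm]
      congr 1
      · rw [show f.range = A.map φ by rw [hf, MonoidHom.range_comp, range_subtype]]
      · rw [show f.ker = H.subgroupOf A from Subgroup.ext fun x => hker x]
        rw [← card_map_of_injective A.subtype_injective, subgroupOf_map_subtype, inf_comm]
    have h4 : Nat.card ↥(A ⊓ H ⊓ V) ≤
        Nat.card ↥((⊤ : Subgroup V) ⊓ fixSub ((A.map φ : Subgroup _) : Set (MulAut V))) := by
      rw [← card_map_of_injective V.subtype_injective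
        (K := (⊤ : Subgroup V) ⊓ fixSub ((A.map φ : Subgroup _) : Set (MulAut V)))]
      refine card_le_of_le fun x hx => ⟨⟨x, hx.2⟩, ⟨mem_top _, mem_fixSub.mpr ?_⟩, rfl⟩
      rintro _ ⟨a, ha, rfl⟩
      refine Subtype.ext ?_
      show ((φ a ⟨x, hx.2⟩ : V) : G) = x
      rw [hφ, MulAut.conjNormal_apply]
      show a * x * a⁻¹ = x
      rw [hAc a ha x hx.1.1, mul_inv_cancel_right]
    rw [top_inf_eq] at hle h4
    have h5 : Nat.card ↥(A ⊓ H) * Nat.card V ≤
        Nat.card ↥(A ⊓ H) * (2 * Nat.card ↥(fixSub ({φ a0} : Set (MulAut V)))) := by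
      rw [← h2]
      refine (Nat.mul_le_mul h1 h4).trans ?_
      rw [h3, mul_comm (Nat.card ↥(A.map φ)), mul_assoc]
      exact Nat.mul_le_mul_left _ (by simpa using hle)
    exact Nat.le_of_mul_le_mul_left h5 Nat.card_pos
  -- a lifting of prime power order inverted exactly
  have hord1 : orderOf (φ l0) ≠ 1 := fun h => hk1 (orderOf_eq_one_iff.mp h)
  obtain ⟨q, hq, hqd⟩ := Nat.exists_prime_and_dvd hord1
  haveI := Fact.mk hq
  have hq2 : q ≠ 2 := by
    rintro rfl
    exact absurd ((hodd l0 hl0).of_dvd_nat hqd) (by decide)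
  set r := orderOf l0 / q ^ (orderOf l0).factorization q with hr
  set g := l0 ^ r with hg
  have hgord : orderOf g = q ^ (orderOf l0).factorization q := by
    rw [hg, orderOf_pow_of_dvd (Nat.ordCompl_pos q (orderOf_pos l0).ne').ne' (Nat.ordCompl_dvd _ _),
      Nat.div_div_self (Nat.ordProj_dvd _ _) (orderOf_pos l0).ne']
  have hkk1 : φ g ≠ 1 := by
    intro h
    rw [hg, map_pow] at h
    exact Nat.not_dvd_ordCompl hq (orderOf_pos l0).ne' (hqd.trans (orderOf_dvd_of_pow_eq_one h))
  have hgH : (zpowers g) ⊓ H = ⊥ := isPGroup_inf_coprime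
    (IsPGroup.of_card (n := (orderOf l0).factorization q) (by rw [Nat.card_zpowers, hgord])) (by
      obtain ⟨j, hj⟩ := (Solvable.isPGroup_pCore 2 (G := G)).exists_card_eq
      rw [hj]
      exact ((Nat.coprime_primes Nat.prime_two hq).mpr (Ne.symm hq2)).pow_left j)
  have hgodd : Odd (orderOf g) := by
    rw [hgord]
    exact (hq.odd_of_ne_two hq2).pow
  have hinv' : φ a0 * φ g * (φ a0)⁻¹ = (φ g)⁻¹ := by
    rw [hg, map_pow, ← conj_pow, hinv, inv_pow]
  obtain ⟨n, hn, hnt⟩ := exists_mul_mem_normalizer (p := q) (P := zpowers g) (N := H) (g := a0)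
    (IsPGroup.of_card (n := (orderOf l0).factorization q) (by rw [Nat.card_zpowers, hgord])) (by
      obtain ⟨j, hj⟩ := (Solvable.isPGroup_pCore 2 (G := G)).exists_card_eq
      rw [hj]
      exact ((Nat.coprime_primes Nat.prime_two hq).mpr (Ne.symm hq2)).pow_left j) (by
      refine mem_normalizer_iff_cj.mpr (eq_of_le_of_card_le' ?_ (card_cj _ _).ge)
      rw [Subgroup.map_sup, MonoidHom.map_zpowers]
      refine sup_le (zpowers_le.mpr ?_) ?_
      · show a0 * g * a0⁻¹ ∈ zpowers g ⊔ H
        have h : g * (a0 * g * a0⁻¹) ∈ H := (hker _).mp (by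
          show φ (g * (a0 * g * a0⁻¹)) = 1
          rw [map_mul, map_mul, map_mul, map_inv, hinv', mul_inv_cancel])
        rw [show a0 * g * a0⁻¹ = g⁻¹ * (g * (a0 * g * a0⁻¹)) by group]
        exact mul_mem (mem_sup_left (inv_mem (mem_zpowers g))) (mem_sup_right h)
      · rintro _ ⟨x, hx, rfl⟩
        exact mem_sup_right ((Solvable.pCore_normal 2).conj_mem x hx a0))
  set t := n * a0 with ht
  have hφt : φ t = φ a0 := by rw [ht, map_mul, (hker n).mpr hn, one_mul]
  have htg : t * g * t⁻¹ = g⁻¹ := by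
    have h1 : g * (t * g * t⁻¹) ∈ zpowers g ⊓ H :=
      ⟨mul_mem (mem_zpowers g) ((mem_normalizer_iff.mp hnt g).mp (mem_zpowers g)), (hker _).mp (by
        show φ (g * (t * g * t⁻¹)) = 1
        rw [map_mul, map_mul, map_mul, map_inv, hφt, hinv', mul_inv_cancel])⟩
    rw [hgH, mem_bot] at h1
    exact eq_inv_of_mul_eq_one_right h1
  -- the four-group
  set a := φ a0 with ha_def
  set k := φ g with hk_def
  set d := k * k with hd
  have hkodd : Odd (orderOf k) := hgodd.of_dvd_nat (orderOf_map_dvd φ g)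
  have hdodd : Odd (orderOf d) := by
    refine hkodd.of_dvd_nat ?_
    rw [hd, ← pow_two]
    exact orderOf_pow_dvd 2
  have had : a * d * a⁻¹ = d⁻¹ := by
    rw [hd]
    calc a * (k * k) * a⁻¹ = (a * k * a⁻¹) * (a * k * a⁻¹) := by group
      _ = (k * k)⁻¹ := by rw [hinv']; group
  let ψ : V →* V :=
    { toFun := fun v => v * d v
      map_one' := by rw [map_one, mul_one]
      map_mul' := fun v w => by rw [map_mul, mul_mul_mul_comm] }
  have hV2 : ∀ v : V, v * v = 1 := fun v => hpair.sq v (mem_top v)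
  have hψker : ψ.ker = fixSub ({d} : Set (MulAut V)) := by
    ext v
    rw [MonoidHom.mem_ker, mem_fixSub]
    constructor
    · rintro h _ rfl
      have h' : v * d v = 1 := h
      calc d v = (v * v) * d v := by rw [hV2, one_mul]
        _ = v := by rw [mul_assoc, h', mul_one]
    · intro h
      show v * d v = 1
      rw [h d rfl, hV2]
  set F := fixSub ({a} : Set (MulAut V)) with hF
  set F' := F.map k.toMonoidHom with hF'
  have hFF : F ⊓ F' ≤ ψ.ker := by
    rw [hψker]
    rintro v ⟨hv, u, hu, rfl⟩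
    refine mem_fixSub.mpr ?_
    rintro _ rfl
    have h1 : a (k u) = k u := mem_fixSub.mp hv a rfl
    have h2 : a u = u := mem_fixSub.mp hu a rfl
    have h3 : a * k = k⁻¹ * a := by rw [← hinv', inv_mul_cancel_right]
    have h4 : k⁻¹ u = k u := by
      rw [← h1, show a (k u) = (a * k) u from rfl, h3, MulAut.mul_apply, h2]
    have h5 : d u = u := by
      rw [hd, MulAut.mul_apply, ← h4, MulAut.apply_inv_self]
    show d (k u) = k u
    rw [← MulAut.mul_apply, show d * k = k * d by rw [hd, mul_assoc], MulAut.mul_apply, h5]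
  have hX4 : Nat.card ψ.range ≤ 4 := by
    have h1 := Solvable.card_sup_mul_card_inf (A := F) (K := F') le_normalizer_of_normal
    have h2 : Nat.card F' = Nat.card F := card_map_of_injective k.injective
    have h3 : Nat.card V = Nat.card ψ.ker * Nat.card ψ.range := by
      rw [← index_ker, card_mul_index]
    have h4 : Nat.card F * Nat.card F ≤ Nat.card V * Nat.card ψ.ker := by
      calc Nat.card F * Nat.card F = Nat.card ↥(F ⊔ F') * Nat.card ↥(F ⊓ F') := by rw [h1, h2]
        _ ≤ Nat.card V * Nat.card ψ.ker :=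
          Nat.mul_le_mul (card_le_card_group _) (card_le_of_le hFF)
    have h5 : Nat.card V * Nat.card V ≤ Nat.card V * (4 * Nat.card ψ.ker) := by
      calc Nat.card V * Nat.card V ≤ (2 * Nat.card F) * (2 * Nat.card F) :=
            Nat.mul_le_mul hcard hcard
        _ = 4 * (Nat.card F * Nat.card F) := by ring
        _ ≤ 4 * (Nat.card V * Nat.card ψ.ker) := Nat.mul_le_mul_left 4 h4
        _ = Nat.card V * (4 * Nat.card ψ.ker) := by ring
    have h6 := Nat.le_of_mul_le_mul_left h5 Nat.card_pos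
    rw [h3, mul_comm 4] at h6
    exact Nat.le_of_mul_le_mul_left h6 Nat.card_pos
  have hfree : ∀ x ∈ ψ.range, d x = x → x = 1 := by
    rintro _ ⟨v, rfl⟩ hx
    have h1 : d v * d (d v) = v * d v := by rw [← map_mul]; exact hx
    rw [mul_comm v] at h1
    have h2 : d (d v) = v := mul_left_cancel h1
    obtain ⟨m, hm⟩ := hdodd
    have h3 : d = (d * d) ^ (m + 1) := by
      rw [← pow_two, ← pow_mul, show 2 * (m + 1) = orderOf d + 1 by omega, pow_succ,
        pow_orderOf_eq_one, one_mul]
    have h4 : ∀ j : ℕ, ((d * d) ^ j) v = v := by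
      intro j
      induction j with
      | zero => simp
      | succ j ih => rw [pow_succ, MulAut.mul_apply, MulAut.mul_apply, h2, ih]
    show v * d v = 1
    rw [h3, h4, hV2]
  have hX : Nat.card ψ.range = 4 := by
    have hVp : IsPGroup 2 V := fun v => ⟨1, by rw [pow_one, pow_two, hV2]⟩
    obtain ⟨j, hj⟩ := (hVp.to_subgroup ψ.range).exists_card_eq
    rw [hj] at hX4 ⊢
    rcases j with _ | _ | _ | j
    · exfalso
      rw [pow_zero] at hj
      have hbot := eq_bot_of_card_eq _ hj
      have hd1 : d = 1 := MulEquiv.ext fun v => by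
        have h' : v * d v = 1 := mem_bot.mp (hbot ▸ (⟨v, rfl⟩ : ψ v ∈ ψ.range))
        calc d v = (v * v) * d v := by rw [hV2, one_mul]
          _ = v := by rw [mul_assoc, h', mul_one]
      exact hkk1 (eq_one_of_sq_eq_one hkodd hd1)
    · exfalso
      obtain ⟨x, hx, hx1⟩ := ψ.range.bot_or_exists_ne_one.resolve_left fun h => by
        rw [h, card_bot] at hj; norm_num at hj
      have hdx : d x ∈ ψ.range := by
        obtain ⟨v, rfl⟩ := hx
        exact ⟨d v, by show d v * d (d v) = d (v * d v); rw [map_mul]⟩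
      haveI : Fintype ψ.range := Fintype.ofFinite _
      have hcard2 : Fintype.card ψ.range = 2 := by
        rw [← Nat.card_eq_fintype_card, hj]; rfl
      have hdx1 : d x ≠ 1 := fun h => hx1 (d.injective (h.trans (map_one d).symm))
      have hmain : (⟨d x, hdx⟩ : ψ.range) = ⟨x, hx⟩ := by
        by_contra hne
        have h3 : ({1, ⟨x, hx⟩, ⟨d x, hdx⟩} : Finset ψ.range).card = 3 := by
          rw [Finset.card_insert_of_notMem, Finset.card_insert_of_notMem, Finset.card_singleton]
          · exact fun h => hne (Finset.mem_singleton.mp h).symm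
          · simp only [Finset.mem_insert, Finset.mem_singleton, not_or]
            exact ⟨fun h => hx1 (congrArg Subtype.val h).symm, fun h => hdx1 (congrArg Subtype.val h).symm⟩
        have h4 := Finset.card_le_univ ({1, ⟨x, hx⟩, ⟨d x, hdx⟩} : Finset ψ.range)
        omega
      exact hx1 (hfree x hx (congrArg Subtype.val hmain))
    · rfl
    · exfalso
      have : 2 ^ 3 ≤ 2 ^ (j + 1 + 1 + 1) := Nat.pow_le_pow_right two_pos (by omega)
      omega
  -- back in the group
  set X := ψ.range.map V.subtype with hXdef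
  have hnorm : ∀ y : G, (∀ x ∈ ψ.range, φ y x ∈ ψ.range) → y ∈ normalizer (X : Set G) := by
    intro y hy
    refine mem_normalizer_iff_cj.mpr (eq_of_le_of_card_le' (cj_le_iff.mpr ?_) (card_cj _ _).ge)
    rintro _ ⟨x, hx, rfl⟩
    exact ⟨φ y x, hy x hx, by rw [hφ]; exact MulAut.conjNormal_apply y x⟩
  refine involves_s4 X (by rw [hXdef, card_map_of_injective V.subtype_injective, hX]) hgodd htg
    (hnorm g ?_) (hnorm t ?_) ?_
  · rintro _ ⟨v, rfl⟩
    refine ⟨k v, ?_⟩
    show k v * d (k v) = k (v * d v)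
    rw [map_mul, show d (k v) = (d * k) v from rfl, show k (d v) = (k * d) v from rfl,
      show d * k = k * d by rw [hd, mul_assoc]]
  · rintro _ ⟨v, rfl⟩
    refine ⟨d⁻¹ (a v), ?_⟩
    rw [hφt]
    show d⁻¹ (a v) * d (d⁻¹ (a v)) = a (v * d v)
    rw [MulAut.apply_inv_self, map_mul, show a (d v) = (a * d) v from rfl,
      show a * d = d⁻¹ * a by rw [← had, inv_mul_cancel_right], MulAut.mul_apply, mul_comm]
  · rintro _ ⟨x, hx, rfl⟩ hgx
    have hkx : k x = x := Subtype.ext (by
      rw [hk_def, hφ, MulAut.conjNormal_apply]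
      exact mul_inv_eq_iff_eq_mul.mpr hgx)
    have : d x = x := by rw [hd, MulAut.mul_apply, hkx, hkx]
    rw [hfree x hx this]
    rfl

/-- **Thompson's normal 2-complement theorem** in the absence of sections isomorphic to the symmetric
group of degree 4, or the theorem for odd `p`. -/
theorem hasNormalPComplement_thompsonA {p : ℕ} [Fact p.Prime] (G : Type u) [Group G] [Finite G]
    (P : Sylow p G) (h : p ≠ 2 ∨ ¬ Cfsg.Involves (Equiv.Perm (Fin 4)) G)
    (hC : Cfsg.HasNormalPComplement p
      (centralizer (((P : Subgroup G) ⊓ centralizer ((P : Subgroup G) : Set G) : Subgroup G) : Set G)))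
    (hN : Cfsg.HasNormalPComplement p
      (normalizer ((Cfsg.thompsonSubgroupAOf (P : Subgroup G) : Subgroup G) : Set G))) :
    Cfsg.HasNormalPComplement p G := by
  by_cases hp : p = 2
  · subst hp
    have hfree : ¬ Cfsg.Involves (Equiv.Perm (Fin 4)) G := h.resolve_left (fun h => h rfl)
    refine (jkind_abelian (p := 2)).hasNormalPComplement_of_step
      (fun G _ => ¬ Cfsg.Involves (Equiv.Perm (Fin 4)) G)
      (fun G _ _ M hg hi => hg (involves_of_subgroup M hi))
      (fun G _ _ N _ hg hi => hg (involves_of_quotient N hi)) ?_ G P hfree hC hN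
    intro G _ _ P hg hmax L V A hLn hVn hL hab hLcop hVel hVH hHC hCH hA hAH hVA
    exact hg (involves_s4_of_offender P hmax L V A hL hab hLcop hVel hVH hHC hCH hA hAH hVA)
  · exact jkind_abelian.hasNormalPComplement hp G P hC hN

end CfsgLib.ZJ
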