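import Cfsg.Agent.ZJ.ControlMain

/-!
The elementary abelian versions of Z(J) as kinds, and the converse for Qd(p).
-/

set_option autoImplicit false

namespace CfsgLib.ZJ

open Subgroup

universe u

variable {p : ℕ} [Fact p.Prime]

theorem maxIn_map_hom {G H : Type u} [Group G] [Group H] (f : G →* H) (hf : Function.Injective f)
    (U : Subgroup G) : Thompson.maxIn p (U.map f) = (fun A => A.map f) '' Thompson.maxIn p U := by
  have hel : ∀ A : Subgroup G,
      Cfsg.IsElementaryAbelian p (A.map f) ↔ Cfsg.IsElementaryAbelian p A := by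
    refine fun A => ⟨fun h => ⟨⟨⟨fun x y => Subtype.ext (hf ?_)⟩⟩, fun a ha => hf ?_⟩, fun h => Thompson.elab_map f h⟩
    · simpa using Thompson.elab_commute h (mem_map_of_mem f x.2) (mem_map_of_mem f y.2)
    · rw [map_pow, map_one]
      exact h.2 _ (mem_map_of_mem f ha)
  have hpull : ∀ C : Subgroup H, C ≤ U.map f → (C.comap f).map f = C := fun C hC =>
    map_comap_eq_self (hC.trans (map_le_range f U))
  have hcard : ∀ A : Subgroup G, Nat.card (A.map f) = Nat.card A := fun A =>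
    card_map_of_injective hf
  have hle : ∀ C : Subgroup H, C ≤ U.map f → C.comap f ≤ U := fun C hC =>
    (comap_mono hC).trans (comap_map_eq_self_of_injective hf U).le
  ext C
  constructor
  · rintro ⟨hCU, hC, hmax⟩
    refine ⟨C.comap f, ⟨hle C hCU, (hel _).mp (by rw [hpull C hCU]; exact hC), fun B hBU hB => ?_⟩,
      hpull C hCU⟩
    rw [← hcard (C.comap f), hpull C hCU, ← hcard B]
    exact hmax _ (map_mono hBU) ((hel B).mpr hB)
  · rintro ⟨A, ⟨hAU, hA, hmax⟩, rfl⟩
    refine ⟨map_mono hAU, (hel A).mpr hA, fun B hBU hB => ?_⟩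
    rw [hcard, ← hpull B hBU, hcard]
    exact hmax _ (hle B hBU) ((hel _).mp (by rw [hpull B hBU]; exact hB))

theorem centerThompsonOf_map {G H : Type u} [Group G] [Group H] (f : G →* H)
    (hf : Function.Injective f) (U : Subgroup G) :
    Cfsg.centerThompsonOf p (U.map f) = (Cfsg.centerThompsonOf p U).map f := by
  have hJ : Cfsg.thompsonSubgroupOf p (U.map f) = (Cfsg.thompsonSubgroupOf p U).map f := by
    rw [Thompson.thompsonSubgroupOf_eq, Thompson.thompsonSubgroupOf_eq, maxIn_map_hom f hf,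
      sSup_image, sSup_eq_iSup, Subgroup.map_iSup]
    simp only [Subgroup.map_iSup]
  rw [Cfsg.centerThompsonOf, Cfsg.centerThompsonOf, hJ, map_inf _ _ f hf]
  set J := Cfsg.thompsonSubgroupOf p U
  ext x
  simp only [mem_inf, mem_map]
  constructor
  · rintro ⟨⟨y, hy, rfl⟩, hc⟩
    refine ⟨⟨y, hy, rfl⟩, y, mem_centralizer_iff.mpr fun z hz => hf ?_, rfl⟩
    rw [map_mul, map_mul]
    exact mem_centralizer_iff.mp hc _ (mem_map_of_mem f hz)
  · rintro ⟨⟨y, hy, rfl⟩, y', hy', he⟩
    obtain rfl := hf he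
    refine ⟨⟨y', hy, rfl⟩, mem_centralizer_iff.mpr ?_⟩
    rintro _ ⟨z, hz, rfl⟩
    rw [← map_mul, ← map_mul, mem_centralizer_iff.mp hy' z hz]

theorem centerThompsonOf_le {G : Type u} [Group G] (U : Subgroup G) :
    Cfsg.centerThompsonOf p U ≤ U := inf_le_left.trans (Thompson.thompsonSubgroupOf_le U)

theorem centerThompsonOf_comm {G : Type u} [Group G] {U : Subgroup G} {x y : G}
    (hx : x ∈ Cfsg.centerThompsonOf p U) (hy : y ∈ Cfsg.centerThompsonOf p U) : x * y = y * x :=
  mem_centralizer_iff.mp hy.2 x hx.1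

theorem omega_centerThompsonOf_ne_bot {G : Type u} [Group G] [Finite G] {U : Subgroup G}
    (hU : IsPGroup p U) (h : U ≠ ⊥) : Cfsg.omegaOne p (Cfsg.centerThompsonOf p U) ≠ ⊥ := by
  haveI := hU.isNilpotent
  haveI := (nontrivial_iff_ne_bot U).2 h
  obtain ⟨k, hk⟩ := (hU.to_subgroup (center U)).exists_card_eq
  have hk0 : k ≠ 0 := fun h0 => Group.IsNilpotent.center_ne_bot (G := U)
    (eq_bot_of_card_eq _ (by rw [hk, h0, pow_zero]))
  obtain ⟨z, hz⟩ := exists_prime_orderOf_dvd_card' (G := center U) p (hk ▸ dvd_pow_self p hk0)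
  have hzp : ((z : U) : G) ^ p = 1 := by
    have h := pow_orderOf_eq_one z
    rw [hz] at h
    rw [← SubmonoidClass.coe_pow, ← SubmonoidClass.coe_pow, h]
    rfl
  have hz1 : ((z : U) : G) ≠ 1 := fun h1 => (Fact.out : p.Prime).one_lt.ne'
    (hz.symm.trans (orderOf_eq_one_iff.mpr (Subtype.ext (Subtype.ext h1))))
  intro hbot
  refine hz1 (mem_bot.mp (hbot ▸ (?_ : ((z : U) : G) ∈ Cfsg.omegaOne p (Cfsg.centerThompsonOf p U))))
  rw [← famCenter_elab_eq]
  refine mem_sInf.mpr fun A hA => ?_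
  have hcom : ∀ a ∈ A, ∀ w ∈ zpowers ((z : U) : G), Commute a w := by
    rintro a ha _ ⟨i, rfl⟩
    exact (show Commute a ((z : U) : G) from
      congrArg Subtype.val (mem_center_iff.mp z.2 ⟨a, hA.2.1 ha⟩)).zpow_right i
  have hM := Thompson.elab_sup hA.1 (Thompson.elab_zpowers hzp)
    (fun a ha => mem_centralizer_iff.mpr fun w hw => (hcom a ha w hw).eq.symm)
  rw [Solvable.eq_of_le_of_card_le (le_sup_left : A ≤ A ⊔ zpowers ((z : U) : G))
    (hA.2.2 _ hM (sup_le hA.2.1 (zpowers_le.mpr (z : U).2)))]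
  exact mem_sup_right (mem_zpowers _)

theorem zkind_omega (hp : p ≠ 2) :
    ZKind.{u} p (fun _ _ U => Cfsg.omegaOne p (Cfsg.centerThompsonOf p U)) where
  map _ _ _ _ _ _ f U hf := by rw [centerThompsonOf_map f hf, Thompson.map_omegaOne f hf]
  le _ _ _ U := (Thompson.omegaOne_le _).trans (centerThompsonOf_le U)
  comm _ _ _ _ x hx y hy :=
    centerThompsonOf_comm (Thompson.omegaOne_le _ hx) (Thompson.omegaOne_le _ hy)
  ne_bot _ _ _ _ hU h := omega_centerThompsonOf_ne_bot hU h
  inter_normal G _ _ S D hD hst B hBn hBp := by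
    rw [← famCenter_elab_eq]
    exact inf_famCenter_normal hp (admissible_elab hp) S D hD hst B hBn hBp

end CfsgLib.ZJ
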