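import Cfsg.Agent.ZJ.ControlStep
import Cfsg.Agent.ZJ.Constrained
import Cfsg.Agent.Solvable.PGroupBasic

/-!
Control of strong fusion in groups with no section isomorphic to Qd(p).
-/

set_option autoImplicit false

namespace CfsgLib.ZJ

open Subgroup CfsgLib.Functor
open scoped CfsgLib.Functor

universe u

/-- A centre-of-Thompson-subgroup construction to which the ZJ theorem applies. -/
structure ZKind (p : ℕ) (Z : ∀ (G : Type u) [Group G], Subgroup G → Subgroup G) : Prop where
  map : ∀ (G H : Type u) [Group G] [Group H] [Finite G] [Finite H] (f : G →* H)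
    (U : Subgroup G), Function.Injective f → Z H (U.map f) = (Z G U).map f
  le : ∀ (G : Type u) [Group G] [Finite G] (U : Subgroup G), Z G U ≤ U
  comm : ∀ (G : Type u) [Group G] [Finite G] (U : Subgroup G),
    ∀ x ∈ Z G U, ∀ y ∈ Z G U, x * y = y * x
  ne_bot : ∀ (G : Type u) [Group G] [Finite G] (U : Subgroup G),
    IsPGroup p U → U ≠ ⊥ → Z G U ≠ ⊥
  inter_normal : ∀ (G : Type u) [Group G] [Finite G] (S : Sylow p G) (D : Subgroup G),
    Cfsg.IsStronglyClosed D (S : Subgroup G) → StableNormal p G →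
      ∀ B : Subgroup G, B.Normal → IsPGroup p B → (B ⊓ Z G D).Normal

variable {p : ℕ} [Fact p.Prime] {Z : ∀ (G : Type u) [Group G], Subgroup G → Subgroup G}

theorem ZKind.conj (K : ZKind p Z) {G : Type u} [Group G] [Finite G] (g : G) (U : Subgroup G) :
    Z G (g ⋆ U) = g ⋆ Z G U :=
  K.map G G _ U (MulAut.conj g).injective

theorem ZKind.normalizer_le (K : ZKind p Z) {G : Type u} [Group G] [Finite G] (U : Subgroup G) :
    normalizer (U : Set G) ≤ normalizer ((Z G U : Subgroup G) : Set G) := fun g hg =>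
  mem_normalizer_iff_cj.mpr (by rw [← K.conj, mem_normalizer_iff_cj.mp hg])

theorem stronglyClosed_normalizer {G : Type*} [Group G] {S D : Subgroup G}
    (hD : Cfsg.IsStronglyClosed D S) : normalizer (S : Set G) ≤ normalizer (D : Set G) := by
  intro n hn
  rw [mem_normalizer_iff]
  intro x
  refine ⟨fun hx => hD.2 x hx n ((mem_normalizer_iff.mp hn x).mp (hD.1 hx)), fun hx => ?_⟩
  have := hD.2 _ hx n⁻¹ (by
    simpa using (mem_normalizer_iff.mp (inv_mem hn) (n * x * n⁻¹)).mp (hD.1 hx))
  simpa [mul_assoc] using this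

/-- A property of groups with a chosen Sylow subgroup, inherited by the subgroups and quotients
needed in the induction, and implying p-stability. -/
structure Inherited (p : ℕ) [Fact p.Prime]
    (Good : ∀ (G : Type u) [Group G], Sylow p G → Prop) : Prop where
  sub : ∀ (G : Type u) [Group G] [Finite G] (S : Sylow p G), Good G S →
    ∀ (M : Subgroup G) (R : Sylow p M),
      (R : Subgroup M).map M.subtype ≤ (S : Subgroup G) →
      (S : Subgroup G) ⊓ centralizer ((S : Subgroup G) : Set G) ≤ (R : Subgroup M).map M.subtype →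
      Good M R
  quot : ∀ (G : Type u) [Group G] [Finite G] (S : Sylow p G), Good G S →
    (∀ x : G, ∃ j, x ^ p ^ j ∈ centralizer (Cfsg.pCore p G : Set G)) →
    Good (G ⧸ Cfsg.pCore p G)
      (S.mapSurjective (f := QuotientGroup.mk' (Cfsg.pCore p G)) (QuotientGroup.mk'_surjective _))
  stable : ∀ (G : Type u) [Group G] [Finite G] (S : Sylow p G), Good G S →
    Cfsg.pCore p G ≠ ⊥ → (S : Subgroup G) ⊓ coreKer p G ≤ Cfsg.pCore p G → StableNormal p G

variable {Good : ∀ (G : Type u) [Group G], Sylow p G → Prop}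

/-- Control of strong fusion by `Z(J(D))`, given control in the sections of smaller order. -/
theorem control_step (I : Inherited p Good) (K : ZKind p Z) {G : Type u} [Group G]
    [Finite G]
    (S : Sylow p G) (hgood : Good G S)
    (ih : ∀ (H : Type u) [Group H] [Finite H], Nat.card H < Nat.card G →
      ∀ (R : Sylow p H), Good H R → ∀ (D : Subgroup H),
        Cfsg.IsStronglyClosed D (R : Subgroup H) → ∀ (A : Subgroup H) (g : H), A ≤ R →
          g ⋆ A ≤ R → Fused (normalizer ((Z H D : Subgroup H) : Set H)) A g)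
    (hquot : Cfsg.pCore p G ≠ ⊥ → ∀ (Sb : Sylow p (G ⧸ Cfsg.pCore p G)), Good _ Sb →
      (Sb : Subgroup (G ⧸ Cfsg.pCore p G)) ≠ ⊥ →
      ∃ Zb : Subgroup (G ⧸ Cfsg.pCore p G), Zb ≠ ⊥ ∧ Zb ≤ Sb ∧
        (Sb : Subgroup (G ⧸ Cfsg.pCore p G)) ≤ normalizer (Zb : Set (G ⧸ Cfsg.pCore p G)) ∧
        ∀ (A : Subgroup (G ⧸ Cfsg.pCore p G)) (g : G ⧸ Cfsg.pCore p G), A ≤ Sb → g ⋆ A ≤ Sb →
          Fused (normalizer (Zb : Set (G ⧸ Cfsg.pCore p G))) A g)
    (D : Subgroup G) (hD : Cfsg.IsStronglyClosed D (S : Subgroup G))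
    (A : Subgroup G) (g : G) (hA : A ≤ S) (hg : g ⋆ A ≤ S) :
    Fused (normalizer ((Z G D : Subgroup G) : Set G)) A g := by
  -- control inside a proper subgroup
  have sub : ∀ M : Subgroup G, M ≠ ⊤ → ∀ T : Subgroup G, IsSylowIn p T M → T ≤ (S : Subgroup G) →
      (S : Subgroup G) ⊓ centralizer ((S : Subgroup G) : Set G) ≤ T →
      ∀ (A : Subgroup G) (g : G), g ∈ M → A ≤ T → g ⋆ A ≤ T →
        Fused (normalizer ((Z G (D ⊓ T) : Subgroup G) : Set G)) A g := by
    intro M hM T hT hTS hZT A g hgM hA hgA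
    obtain ⟨R, hR⟩ := hT.exists_sylow
    have hR' : ∀ x : M, x ∈ (R : Subgroup M) ↔ (x : G) ∈ T := by
      intro x
      rw [← hR]
      exact ⟨fun h => mem_map_of_mem _ h, fun ⟨y, hy, hyx⟩ => Subtype.ext hyx ▸ hy⟩
    have hcl : Cfsg.IsStronglyClosed ((D ⊓ T).subgroupOf M) (R : Subgroup M) := by
      refine ⟨fun x hx => (hR' x).mpr (mem_subgroupOf.mp hx).2, fun x hx m hm => ?_⟩
      have h1 := (hR' _).mp hm
      exact mem_subgroupOf.mpr ⟨hD.2 _ (mem_subgroupOf.mp hx).1 m (hTS h1), h1⟩
    have hle : (D ⊓ T) ≤ M := inf_le_right.trans hT.le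
    obtain ⟨x, hx, hxe⟩ := ih M (Solvable.card_lt_of_ne_top hM)
      R (I.sub G S hgood M R (hR.le.trans hTS) (hR.symm ▸ hZT)) _ hcl (A.subgroupOf M) ⟨g, hgM⟩
      (fun a ha => (hR' a).mpr (hA (mem_subgroupOf.mp ha))) (by
        rintro _ ⟨a, ha, rfl⟩
        refine (hR' _).mpr ?_
        simpa using cj_le_iff.mp hgA _ (mem_subgroupOf.mp ha))
    refine ⟨x, ?_, fun a ha => ?_⟩
    · have h2 := le_normalizer_map M.subtype (mem_map_of_mem M.subtype hx)
      rw [← K.map M G M.subtype _ M.subtype_injective, map_subgroupOf_eq_of_le hle] at h2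
      exact h2
    · exact congrArg Subtype.val
        (hxe ⟨a, hT.le (hA ha)⟩ (mem_subgroupOf.mpr ha))
  by_cases hD1 : D = ⊥
  · refine Fused.of_mem ?_
    have : Z G D = ⊥ := le_bot_iff.mp ((K.le G D).trans hD1.le)
    rw [this, normalizer_eq_top (H := (⊥ : Subgroup G))]
    exact mem_top g
  have hDS : D ⊓ (S : Subgroup G) = D := inf_eq_left.mpr hD.1
  have hZS : Z G D ≤ S := (K.le G D).trans hD.1
  by_cases hP0 : Cfsg.pCore p G = ⊥
  · -- all locals are proper
    have h := fused_of_local S (fun T => Z G (D ⊓ T))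
      (fun N hN => (K.le G _).trans (inf_le_right.trans hN)) (fun V hV hV1 => ?_) (fun N hN => ?_)
      (by rw [hDS]; exact (stronglyClosed_normalizer hD).trans (K.normalizer_le D)) ?_ A g hA hg
    · rwa [hDS] at h
    · refine K.ne_bot G _ (S.2.to_le (inf_le_left.trans hD.1)) ?_
      intro hbot
      haveI := S.2.isNilpotent
      have hDn : (D.subgroupOf (S : Subgroup G)).Normal :=
        (normal_subgroupOf_iff_le_normalizer hD.1).2 (le_normalizer.trans (stronglyClosed_normalizer hD))
      obtain ⟨z, hz, hz1⟩ := (bot_or_exists_ne_one _).resolve_left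
        (PGroupBasic.inf_center_ne_bot (D.subgroupOf (S : Subgroup G)) (fun h => hD1 (by
          have := congrArg (Subgroup.map (S : Subgroup G).subtype) h
          rwa [map_subgroupOf_eq_of_le hD.1, Subgroup.map_bot] at this)))
      refine hz1 (Subtype.ext (mem_bot.mp (hbot ▸ ⟨mem_subgroupOf.mp hz.1, z.2, ?_⟩)))
      refine mem_normalizer_iff.mpr ?_
      intro x
      have hcomm : ∀ y ∈ (S : Subgroup G), (z : G) * y * (z : G)⁻¹ = y := fun y hy => by
        have := congrArg Subtype.val (mem_center_iff.mp hz.2 ⟨y, hy⟩)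
        simp only [Subgroup.coe_mul] at this
        rw [← this, mul_inv_cancel_right]
      refine ⟨fun hx => (hcomm x (hV hx)).symm ▸ hx, fun hx => ?_⟩
      have h2 := hcomm _ (hV hx)
      have h3 : x = (z : G) * x * (z : G)⁻¹ := by
        have := congrArg (fun t => (z : G)⁻¹ * t * (z : G)) h2
        simpa [mul_assoc] using this.symm
      rwa [h3]
    · refine le_trans (fun s hs => ?_) (K.normalizer_le _)
      rw [mem_normalizer_iff]
      intro x
      exact and_congr (mem_normalizer_iff.mp ((le_normalizer.trans (stronglyClosed_normalizer hD)) hs.1) x)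
        (mem_normalizer_iff.mp hs.2 x)
    · intro V hV hV1 hext A n hn hA hnA
      refine sub (normalizer (V : Set G)) (fun htop => hV1 (le_bot_iff.mp (hP0 ▸ ?_))) _
        (hext.sylowIn S.2) inf_le_left (fun z hz => ⟨hz.1, ?_⟩) A n hn hA hnA
      swap
      · refine mem_normalizer_iff_cj.mpr ?_
        refine eq_of_le_of_card_le' (cj_le_iff.mpr fun x hx => ?_) (card_cj z V).ge
        rwa [← mem_centralizer_iff.mp hz.2 x (hV hx), mul_inv_cancel_right]
      exact Solvable.le_pCore p (normalizer_eq_top_iff.mp htop) (S.2.to_le hV)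
  -- a nontrivial p-core
  refine fused_of_pCore S (Z G D) ((stronglyClosed_normalizer hD).trans (K.normalizer_le D))
    (fun hT => ?_) ?_ (fun hpow hne => ?_) A g hA hg
  · have hst := I.stable G S hgood hP0 hT
    exact normal_of_coreKer S hZS ((le_normalizer.trans (stronglyClosed_normalizer hD)).trans
      (K.normalizer_le D)) (K.comm G D) hst hT
      (K.inter_normal G S D hD hst _ (Solvable.pCore_normal p) (Solvable.isPGroup_pCore p))
  · intro M hM hSM A g hgM hA hgA
    have := sub M hM _ ((isSylowIn_top S).of_le hSM le_top) le_rfl inf_le_left A g hgM hA hgA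
    rwa [hDS] at this
  · exact hquot hP0 _ (I.quot G S hgood hpow) hne

theorem zkind_centerThompsonA (hp : p ≠ 2) :
    ZKind.{u} p (fun G _ U => Cfsg.centerThompsonAOf U) where
  map _ _ _ _ _ _ f U hf := centerThompsonAOf_map f U fun x _ h => hf (h.trans (map_one f).symm)
  le _ _ _ U := by
    rw [← famCenter_abelian_eq]
    exact famCenter_le admissible_abelian U
  comm _ _ _ U x hx y hy := by
    rw [← famCenter_abelian_eq] at hx hy
    exact famCenter_comm admissible_abelian hx hy
  ne_bot G _ _ U hU h := by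
    haveI := hU.isNilpotent
    haveI := (nontrivial_iff_ne_bot U).2 h
    obtain ⟨z, hz, hz1⟩ := (bot_or_exists_ne_one _).resolve_left
      (Group.IsNilpotent.center_ne_bot (G := U))
    intro hbot
    refine hz1 (Subtype.ext (mem_bot.mp (hbot ▸ (?_ : (z : G) ∈ Cfsg.centerThompsonAOf U))))
    rw [← famCenter_abelian_eq]
    refine mem_sInf.mpr fun A hA => ?_
    have hcl : IsMulCommutative (closure (insert (z : G) (A : Set G))) := by
      refine Subgroup.isMulCommutative_closure ?_
      have hc : ∀ a ∈ A, a * (z : G) = z * a := fun a ha =>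
        congrArg Subtype.val (mem_center_iff.mp hz ⟨a, hA.2.1 ha⟩)
      rintro a (rfl | ha) b (rfl | hb)
      · rfl
      · exact (hc b hb).symm
      · exact hc a ha
      · exact congrArg Subtype.val (hA.1.is_comm.comm ⟨a, ha⟩ ⟨b, hb⟩)
    have hle : closure (insert (z : G) (A : Set G)) ≤ U :=
      (closure_le _).mpr (Set.insert_subset z.2 hA.2.1)
    rw [Solvable.eq_of_le_of_card_le (fun a ha => subset_closure (Set.mem_insert_of_mem _ ha))
      (hA.2.2 _ hcl hle)]
    exact subset_closure (Set.mem_insert _ _)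
  inter_normal G _ _ S D hD hst B hBn hBp := by
    rw [← famCenter_abelian_eq]
    exact inf_famCenter_normal hp admissible_abelian S D hD hst B hBn hBp

theorem control_centerThompsonA (hp : p ≠ 2) (I : Inherited p Good) (G : Type u) [Group G]
    [Finite G] (S : Sylow p G) (hgood : Good G S) (D : Subgroup G)
    (hD : Cfsg.IsStronglyClosed D (S : Subgroup G)) (A : Subgroup G) (g : G) (hA : A ≤ S)
    (hg : g ⋆ A ≤ S) : Fused (normalizer ((Cfsg.centerThompsonAOf D : Subgroup G) : Set G)) A g := by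
  obtain ⟨n, hn⟩ : ∃ n, Nat.card G = n := ⟨_, rfl⟩
  induction n using Nat.strong_induction_on generalizing G with
  | _ n ih =>
    subst hn
    have K := zkind_centerThompsonA.{u} hp
    refine control_step I K S hgood
      (fun H _ _ hlt R hR D hD A g hA hg => ih _ hlt H R hR D hD A g hA hg rfl)
      ?_ D hD A g hA hg
    intro hN Sb hgb hSb
    refine ⟨Cfsg.centerThompsonAOf (Sb : Subgroup (G ⧸ Cfsg.pCore p G)), K.ne_bot _ _ Sb.2 hSb,
      K.le _ _, le_normalizer.trans (K.normalizer_le _), fun A g hA hg => ?_⟩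
    exact ih _ (Solvable.card_quotient_lt hN) _ Sb hgb _ (stronglyClosed_self Sb) A g hA hg rfl

/-- Control of strong fusion. -/
theorem control_main (hp : p ≠ 2) (I : Inherited p Good) (K : ZKind p Z) (G : Type u) [Group G]
    [Finite G] (S : Sylow p G) (hgood : Good G S) (D : Subgroup G)
    (hD : Cfsg.IsStronglyClosed D (S : Subgroup G)) (A : Subgroup G) (g : G) (hA : A ≤ S)
    (hg : g ⋆ A ≤ S) : Fused (normalizer ((Z G D : Subgroup G) : Set G)) A g := by
  obtain ⟨n, hn⟩ : ∃ n, Nat.card G = n := ⟨_, rfl⟩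
  induction n using Nat.strong_induction_on generalizing G with
  | _ n ih =>
    subst hn
    have KA := zkind_centerThompsonA.{u} hp
    refine control_step I K S hgood
      (fun H _ _ hlt R hR D hD A g hA hg => ih _ hlt H R hR D hD A g hA hg rfl)
      ?_ D hD A g hA hg
    intro hN Sb hgb hSb
    refine ⟨Cfsg.centerThompsonAOf (Sb : Subgroup (G ⧸ Cfsg.pCore p G)), KA.ne_bot _ _ Sb.2 hSb,
      KA.le _ _, le_normalizer.trans (KA.normalizer_le _), fun A g hA hg => ?_⟩
    exact control_centerThompsonA hp I _ Sb hgb _ (stronglyClosed_self Sb) A g hA hg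

/-- Groups without Qd(p) section. -/
theorem inherited_free (hp : p ≠ 2) :
    Inherited.{u} p (fun G _ _ => ¬ Cfsg.Involves ↥(Cfsg.qd p) G) where
  sub _ _ _ _ h M _ _ _ := fun hi => h (involves_of_subgroup M hi)
  quot _ _ _ _ h _ := fun hi => h (involves_of_quotient _ hi)
  stable _ _ _ _ h _ _ := stableNormal_of_free hp h

/-- Control of strong fusion in Qd(p)-free groups. -/
theorem control_of_free (hp : p ≠ 2) (K : ZKind p Z) (G : Type u) [Group G] [Finite G]
    (hfree : ¬ Cfsg.Involves ↥(Cfsg.qd p) G) (S : Sylow p G) (D : Subgroup G)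
    (hD : Cfsg.IsStronglyClosed D (S : Subgroup G)) (A : Subgroup G) (g : G) (hA : A ≤ S)
    (hg : g ⋆ A ≤ S) : Fused (normalizer ((Z G D : Subgroup G) : Set G)) A g :=
  control_main hp (inherited_free hp) K G S hfree D hD A g hA hg

/-- The set form used in the statements. -/
theorem controlsStrongFusionOf_of_fused {G : Type*} [Group G] {S X : Subgroup G}
    (h : ∀ (A : Subgroup G) (g : G), A ≤ S → g ⋆ A ≤ S → Fused X A g) (A : Set G)
    (hA : A ⊆ S) : Cfsg.ControlsStrongFusionOf X S A := by
  refine ⟨hA, fun g hg => ?_⟩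
  obtain ⟨x, hx, hxe⟩ := h (closure A) g ((closure_le _).mpr hA) (by
    rw [MonoidHom.map_closure, closure_le]
    rintro _ ⟨a, ha, rfl⟩
    exact hg ⟨a, ha, by simp⟩)
  exact ⟨x, hx, fun a ha => (hxe a (subset_closure ha)).symm⟩

end CfsgLib.ZJ
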