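import Cfsg.Agent.ZJ.OffenderTwo
import Cfsg.Agent.ZJ.Involve
import Cfsg.Agent.Invol.BaerSuzuki
import Cfsg.Agent.Functor.Relative

/-!
Transvections outside the 2-core give sections isomorphic to the symmetric group of degree 4.
-/

set_option autoImplicit false
set_option linter.style.haveILetI false

namespace CfsgLib.ZJ

open Subgroup CfsgLib.Functor
open scoped CfsgLib.Functor

variable {G : Type*} [Group G] [Finite G]

/-- An element inducing a transvection on an abelian normal subgroup, with no 2-core modulo the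
centralizer, gives a section isomorphic to the symmetric group of degree 4. -/
theorem involves_s4_of_transvection (V : Subgroup G) [V.Normal]
    (hVc : ∀ v ∈ V, ∀ w ∈ V, v * w = w * v)
    (hcore : Cfsg.pCore 2 (G ⧸ centralizer (V : Set G)) = ⊥) {a w0 : G}
    (ha : a ∉ centralizer (V : Set G)) (hw0 : w0 ∈ V) (hw2 : w0 * w0 = 1)
    (haw : a * w0 * a⁻¹ = w0)
    (hδ : ∀ v ∈ V, a * v * a⁻¹ = v ∨ a * v * a⁻¹ = v * w0) :
    Cfsg.Involves (Equiv.Perm (Fin 4)) G := by
  classical
  haveI : Fact (Nat.Prime 2) := ⟨Nat.prime_two⟩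
  set C := centralizer (V : Set G) with hC
  set π := QuotientGroup.mk' C with hπ
  have hact : ∀ b c : G, π b = π c → ∀ v ∈ V, b * v * b⁻¹ = c * v * c⁻¹ := by
    intro b c hbc v hv
    have h : c⁻¹ * b ∈ C := (QuotientGroup.eq_one_iff _).mp (by
      show π (c⁻¹ * b) = 1
      rw [map_mul, map_inv, hbc, inv_mul_cancel])
    calc b * v * b⁻¹ = c * ((c⁻¹ * b) * v * (c⁻¹ * b)⁻¹) * c⁻¹ := by group
      _ = c * v * c⁻¹ := by rw [← mem_centralizer_iff.mp h v hv, mul_inv_cancel_right]
  have hnC : ∀ b : G, (∀ v ∈ V, b * v * b⁻¹ = v) → π b = 1 := fun b hb =>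
    (QuotientGroup.eq_one_iff b).mpr (mem_centralizer_iff.mpr fun v hv =>
      (mul_inv_eq_iff_eq_mul.mp (hb v hv)).symm)
  -- `a` is an involution modulo the centralizer
  have ha2 : π a * π a = 1 := by
    rw [← map_mul]
    refine hnC _ fun v hv => ?_
    rw [show a * a * v * (a * a)⁻¹ = a * (a * v * a⁻¹) * a⁻¹ by group]
    rcases hδ v hv with h | h
    · rw [h, h]
    · rw [h, show a * (v * w0) * a⁻¹ = (a * v * a⁻¹) * (a * w0 * a⁻¹) by group, h, haw, mul_assoc,
        hw2, mul_one]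
  have ha1 : π a ≠ 1 := fun h => ha ((QuotientGroup.eq_one_iff a).mp h)
  have hord : orderOf (π a) = 2 := orderOf_eq_prime (by rw [pow_two, ha2]) ha1
  have hainv : (π a)⁻¹ = π a := inv_eq_of_mul_eq_one_right ha2
  obtain ⟨k0, hk0, hk0odd, hk0inv⟩ := Invol.exists_inverted_odd (π a) hord
    (by rw [hcore, mem_bot]; exact ha1)
  obtain ⟨q, hq, hqk⟩ := Nat.exists_prime_and_dvd
    (fun h => hk0 (orderOf_eq_one_iff.mp h) : orderOf k0 ≠ 1)
  haveI := Fact.mk hq
  have hqodd : Odd q := hk0odd.of_dvd_nat hqk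
  set k := k0 ^ (orderOf k0 / q) with hk
  have hkord : orderOf k = q := by
    rw [hk, orderOf_pow_of_dvd (Nat.div_pos (Nat.le_of_dvd (orderOf_pos k0) hqk) hq.pos).ne'
      (Nat.div_dvd_of_dvd hqk), Nat.div_div_self hqk (orderOf_pos k0).ne']
  have hkinv : π a * k * (π a)⁻¹ = k⁻¹ := by rw [hk, ← conj_pow, hk0inv, inv_pow]
  -- a Sylow subgroup of the preimage, normalized by an element acting as `a`
  set E := (zpowers k).comap π with hE
  obtain ⟨T, hT⟩ := exists_sylowIn (p := q) E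
  have haE : a ∈ normalizer (E : Set G) := by
    refine mem_normalizer_iff.mpr fun y => ?_
    rw [hE, mem_comap, mem_comap, map_mul, map_mul, map_inv]
    have hn : π a ∈ normalizer ((zpowers k : Subgroup _) : Set (G ⧸ C)) := by
      rw [mem_normalizer_iff_map_conj_eq, MonoidHom.map_zpowers]
      show zpowers ((MulAut.conj (π a)) k) = _
      rw [MulAut.conj_apply, hkinv, zpowers_inv]
    exact mem_normalizer_iff.mp hn (π y)
  obtain ⟨c, hc, hceq⟩ := hT.exists_cj_eq (hT.cj_of_mem haE)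
  rw [cj_cj, ← mem_normalizer_iff_cj] at hceq
  have hkT : k ∈ T.map π := by
    have hQ : IsPGroup q (zpowers k) := IsPGroup.of_card (n := 1) (by rw [Nat.card_zpowers, hkord, pow_one])
    have h1 := hT.map π
    rw [show E.map π = zpowers k from map_comap_eq_self_of_surjective (QuotientGroup.mk'_surjective C) _]
      at h1
    rw [h1.eq_of_le hQ le_rfl h1.le]
    exact mem_zpowers k
  obtain ⟨g, hgT, hgk⟩ := hkT
  obtain ⟨i, hi⟩ := mem_zpowers_iff.mp (mem_comap.mp hc)
  set t := g ^ (-i) * (c * a) with ht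
  have htT : t ∈ normalizer (T : Set G) := mul_mem (le_normalizer (zpow_mem hgT _)) hceq
  have hta : π t = π a := by
    rw [ht, map_mul, map_mul, map_zpow, hgk, ← hi, ← mul_assoc, ← zpow_add, neg_add_cancel, zpow_zero,
      one_mul]
  -- the second transvection
  obtain ⟨m, hm⟩ := hqodd
  set h := g ^ (m + 1) with hh
  have hkq : k ^ q = 1 := by rw [← hkord]; exact pow_orderOf_eq_one k
  have hah : π a * π h * (π a)⁻¹ = (π h)⁻¹ := by rw [hh, map_pow, hgk, ← conj_pow, hkinv, inv_pow]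
  have hhh : π h * π h = k := by
    rw [hh, map_pow, hgk, ← pow_add, show m + 1 + (m + 1) = q + 1 by omega, pow_succ, hkq, one_mul]
  have hg_act : π g = π a * (π h⁻¹ * π a * π h) := by
    rw [map_inv, ← mul_assoc, ← mul_assoc]
    nth_rewrite 2 [← hainv]
    rw [show π a * (π h)⁻¹ * (π a)⁻¹ = (π a * π h * (π a)⁻¹)⁻¹ by group, hah, inv_inv, hhh, hgk]
  set w1 := h⁻¹ * w0 * h with hw1
  have hw1V : w1 ∈ V := by simpa [hw1] using (inferInstance : V.Normal).conj_mem w0 hw0 h⁻¹
  have hw12 : w1 * w1 = 1 := by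
    rw [hw1, show h⁻¹ * w0 * h * (h⁻¹ * w0 * h) = h⁻¹ * (w0 * w0) * h by group, hw2, mul_one,
      inv_mul_cancel]
  set X := zpowers w0 ⊔ zpowers w1 with hXdef
  have hw0X : w0 ∈ X := mem_sup_left (mem_zpowers _)
  have hw1X : w1 ∈ X := mem_sup_right (mem_zpowers _)
  have hXV : X ≤ V := sup_le (zpowers_le.mpr hw0) (zpowers_le.mpr hw1V)
  have hX4 : Nat.card X ≤ 4 := by
    have h1 := Solvable.card_sup_mul_card_inf (A := zpowers w0) (K := zpowers w1) (fun x hx => by
      refine centralizer_le_normalizer _ (mem_centralizer_iff.mpr fun y hy => ?_)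
      exact hVc y (zpowers_le.mpr hw1V hy) x (zpowers_le.mpr hw0 hx))
    have h2 : ∀ w : G, w * w = 1 → Nat.card (zpowers w) ≤ 2 := fun w hw => by
      rw [Nat.card_zpowers]
      exact Nat.le_of_dvd two_pos (orderOf_dvd_of_pow_eq_one (by rw [pow_two, hw]))
    calc Nat.card X ≤ Nat.card X * Nat.card ↥(zpowers w0 ⊓ zpowers w1) :=
          Nat.le_mul_of_pos_right _ Nat.card_pos
      _ = _ := h1
      _ ≤ 4 := Nat.mul_le_mul (h2 _ hw2) (h2 _ hw12)
  -- the action of `a`
  have ha_act : ∀ v ∈ V, ∃ e ∈ X, a * v * a⁻¹ = v * e := fun v hv => by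
    rcases hδ v hv with h | h
    exacts [⟨1, one_mem _, by rw [h, mul_one]⟩, ⟨w0, hw0X, h⟩]
  have ha'_act : ∀ v ∈ V, ∃ e ∈ X, h⁻¹ * a * h * v * (h⁻¹ * a * h)⁻¹ = v * e := fun v hv => by
    have e0 : h⁻¹ * a * h * v * (h⁻¹ * a * h)⁻¹ = h⁻¹ * (a * (h * v * h⁻¹) * a⁻¹) * h := by group
    rcases hδ _ ((inferInstance : V.Normal).conj_mem v hv h) with h' | h'
    · exact ⟨1, one_mem _, by rw [e0, h', mul_one]; group⟩
    · exact ⟨w1, hw1X, by rw [e0, h', hw1]; group⟩
  have hg_v : ∀ v ∈ V, ∃ e ∈ X, g * v * g⁻¹ = v * e := by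
    intro v hv
    obtain ⟨e1, he1, h1⟩ := ha'_act v hv
    have he1V := hXV he1
    obtain ⟨e2, he2, h2⟩ := ha_act v hv
    obtain ⟨e3, he3, h3⟩ := ha_act e1 he1V
    refine ⟨e2 * (e1 * e3), mul_mem he2 (mul_mem he1 he3), ?_⟩
    rw [hact g (a * (h⁻¹ * a * h)) (by rw [hg_act, map_mul, map_mul, map_mul]) v hv,
      show a * (h⁻¹ * a * h) * v * (a * (h⁻¹ * a * h))⁻¹ =
        a * (h⁻¹ * a * h * v * (h⁻¹ * a * h)⁻¹) * a⁻¹ by group, h1,
      show a * (v * e1) * a⁻¹ = (a * v * a⁻¹) * (a * e1 * a⁻¹) by group, h2, h3, mul_assoc]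
  have hnorm : ∀ b : G, (∀ x ∈ X, b * x * b⁻¹ ∈ X) → b ∈ normalizer (X : Set G) := fun b hb =>
    mem_normalizer_iff_cj.mpr (eq_of_le_of_card_le' (cj_le_iff.mpr hb) (card_cj _ _).ge)
  have hgX : ∀ x ∈ X, g * x * g⁻¹ ∈ X := fun x hx => by
    obtain ⟨e, he, h⟩ := hg_v x (hXV hx)
    rw [h]; exact mul_mem hx he
  have htX : ∀ x ∈ X, t * x * t⁻¹ ∈ X := fun x hx => by
    obtain ⟨e, he, h⟩ := ha_act x (hXV hx)
    rw [hact t a hta x (hXV hx), h]; exact mul_mem hx he
  -- an element fixed by the square of `g` is fixed by `g`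
  have hsq : ∀ x ∈ V, g * (g * x * g⁻¹) * g⁻¹ = x → g * x * g⁻¹ = x := by
    intro x hx h2
    have hcc : ∀ j : ℕ, (g * g) ^ j * x * ((g * g) ^ j)⁻¹ = x := by
      intro j
      induction j with
      | zero => simp
      | succ j ih =>
        rw [pow_succ, show (g * g) ^ j * (g * g) * x * ((g * g) ^ j * (g * g))⁻¹ =
          (g * g) ^ j * (g * (g * x * g⁻¹) * g⁻¹) * ((g * g) ^ j)⁻¹ by group, h2, ih]
    rw [hact g ((g * g) ^ (m + 1)) (by
      rw [map_pow, map_mul, hgk, ← pow_two, ← pow_mul, show 2 * (m + 1) = q + 1 by omega, pow_succ,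
        hkq, one_mul]) x hx, hcc]
  -- `g` moves an element of `X`
  obtain ⟨z, hzX, hz⟩ : ∃ z ∈ X, g * z * g⁻¹ ≠ z := by
    by_contra hcon
    push Not at hcon
    have hk1 : k = 1 := by
      rw [← hgk]
      refine hnC g fun v hv => hsq v hv ?_
      obtain ⟨e, he, h1⟩ := hg_v v hv
      have he2 : e * e = 1 := by
        clear h1
        have hgen : ∀ w ∈ ({w0, w1} : Set G), w * w = 1 := by
          rintro w (rfl | rfl)
          exacts [hw2, hw12]
        rw [hXdef, zpowers_eq_closure, zpowers_eq_closure, ← Subgroup.closure_union, Set.singleton_union] at he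
        induction he using closure_induction with
        | mem w hw => exact hgen w hw
        | one => rw [mul_one]
        | mul u w hu hw h h' =>
          have huV : u ∈ V := (closure_le V).mpr (by rintro y (rfl | rfl) <;> assumption) hu
          have hwV : w ∈ V := (closure_le V).mpr (by rintro y (rfl | rfl) <;> assumption) hw
          rw [show u * w * (u * w) = u * (w * u) * w by group, hVc w hwV u huV,
            show u * (u * w) * w = (u * u) * (w * w) by group, h, h', mul_one]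
        | inv u _ h => rw [← mul_inv_rev, h, inv_one]
      rw [h1, show g * (v * e) * g⁻¹ = (g * v * g⁻¹) * (g * e * g⁻¹) by group, h1, hcon e he,
        mul_assoc, he2, mul_one]
    exact hq.one_lt.ne' (by rw [← hkord, hk1, orderOf_one])
  set z1 := g * z * g⁻¹ with hz1
  set z2 := g * z1 * g⁻¹ with hz2
  have hne1 : ∀ y : G, y ≠ 1 → g * y * g⁻¹ ≠ 1 := fun y hy h => hy (conj_eq_one_iff.mp h)
  have hz0 : z ≠ 1 := fun h => hz (by rw [hz1, h]; group)
  have h12 : z2 ≠ z1 := fun h => hz (mul_left_cancel (mul_right_cancel h))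
  have h02 : z2 ≠ z := fun h => hz (hsq z (hXV hzX) h)
  haveI : Fintype X := Fintype.ofFinite _
  set s : Finset X := {1, ⟨z, hzX⟩, ⟨z1, hgX z hzX⟩, ⟨z2, hgX _ (hgX z hzX)⟩} with hs
  have hscard : s.card = 4 := Finset.card_eq_four.mpr
    ⟨_, _, _, _, fun h => hz0 (congrArg Subtype.val h).symm,
      fun h => hne1 z hz0 (congrArg Subtype.val h).symm,
      fun h => hne1 _ (hne1 z hz0) (congrArg Subtype.val h).symm,
      fun h => hz (congrArg Subtype.val h).symm, fun h => h02 (congrArg Subtype.val h).symm,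
      fun h => h12 (congrArg Subtype.val h).symm, rfl⟩
  have hcard : Nat.card X = 4 :=
    le_antisymm hX4 (by rw [Nat.card_eq_fintype_card, ← hscard]; exact Finset.card_le_univ _)
  refine involves_s4_of_normalized X hcard (R := T) ?_ hgT htT ?_ (hnorm g hgX) (hnorm t htX) ?_
  · obtain ⟨j, hj⟩ := hT.isPGroup.exists_card_eq
    rw [hj]
    exact Odd.pow ⟨m, hm⟩
  · intro x hx
    rw [hact (t * g * t⁻¹) g⁻¹ (by rw [map_mul, map_mul, map_inv, map_inv, hta, hgk, hkinv]) x
      (hXV hx), inv_inv]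
  · intro y hy hfix
    have huniv : s = Finset.univ :=
      Finset.eq_univ_of_card s (by rw [hscard, ← Nat.card_eq_fintype_card, hcard])
    have hy' : (⟨y, hy⟩ : X) ∈ s := huniv ▸ Finset.mem_univ _
    have hfix' : g * y * g⁻¹ = y := mul_inv_eq_iff_eq_mul.mpr hfix
    simp only [hs, Finset.mem_insert, Finset.mem_singleton] at hy'
    rcases hy' with h | h | h | h <;> have h' : y = _ := congrArg Subtype.val h
    · exact h'
    · subst h'; exact absurd hfix' hz
    · subst h'; exact absurd hfix' h12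
    · subst h'; exact absurd (mul_left_cancel (mul_right_cancel hfix')) h12

end CfsgLib.ZJ
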