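import Cfsg.Agent.ZJ.Inverts
import Cfsg.Agent.ZJ.OffenderTwo
import Cfsg.Agent.Invol.Dihedral
import Cfsg.Agent.Solvable.CoprimeAct
import Cfsg.Agent.Solvable.PGroupBasic
import Mathlib.GroupTheory.SpecificGroups.Dihedral

/-!
Dihedral sections and symmetric sections of degree 4.
-/

set_option autoImplicit false
set_option linter.style.haveILetI false

namespace CfsgLib.ZJ

open Subgroup

variable {G : Type*} [Group G] {p : ℕ} [Fact p.Prime]

/-- The 2-part of an element, as an odd power. -/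
theorem exists_odd_pow_two_element [Finite G] (g : G) :
    ∃ m : ℕ, Odd m ∧ ∃ k : ℕ, (g ^ m) ^ 2 ^ k = 1 := by
  refine ⟨orderOf g / 2 ^ (orderOf g).factorization 2,
    (Nat.coprime_two_left).mp (Nat.coprime_ordCompl Nat.prime_two (orderOf_pos g).ne'),
    (orderOf g).factorization 2, ?_⟩
  rw [← pow_mul, Nat.div_mul_cancel (Nat.ordProj_dvd _ 2), pow_orderOf_eq_one]

theorem conj_odd_pow {g x : G} (h : g * x * g⁻¹ = x⁻¹) {m : ℕ} (hm : Odd m) :
    g ^ m * x * (g ^ m)⁻¹ = x⁻¹ := by
  obtain ⟨l, rfl⟩ := hm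
  induction l with
  | zero => simpa using h
  | succ l ih =>
    have h' : g * x⁻¹ * g⁻¹ = x := by rw [← conj_inv, h, inv_inv]
    calc g ^ (2 * (l + 1) + 1) * x * (g ^ (2 * (l + 1) + 1))⁻¹
        = g * (g * (g ^ (2 * l + 1) * x * (g ^ (2 * l + 1))⁻¹) * g⁻¹) * g⁻¹ := by
          rw [show 2 * (l + 1) + 1 = (2 * l + 1) + 1 + 1 by omega, pow_succ' g (2 * l + 1 + 1),
            pow_succ' g (2 * l + 1)]
          group
      _ = x⁻¹ := by rw [ih, h', h]

/-- An inverted element is inverted by an element of 2-power order. -/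
theorem Inverts.exists_two_element [Finite G] (h : Inverts p G) :
    ∃ x y : G, (∃ k : ℕ, orderOf x = 2 ^ k) ∧ (∃ k : ℕ, orderOf y = p ^ k) ∧ y ≠ 1 ∧
      x * y * x⁻¹ = y⁻¹ := by
  obtain ⟨g, y, hy, ⟨k, hk⟩, hgy⟩ := h
  obtain ⟨m, hm, j, hj⟩ := exists_odd_pow_two_element g
  obtain ⟨a, -, ha⟩ := (Nat.dvd_prime_pow Nat.prime_two).mp (orderOf_dvd_of_pow_eq_one hj)
  obtain ⟨b, -, hb⟩ := (Nat.dvd_prime_pow Fact.out).mp (orderOf_dvd_of_pow_eq_one hk)
  exact ⟨g ^ m, y, ⟨a, ha⟩, ⟨b, hb⟩, hy, conj_odd_pow hgy hm⟩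

theorem inverts_dihedral : Inverts p (DihedralGroup p) := by
  refine ⟨DihedralGroup.sr 0, DihedralGroup.r 1, fun h => ?_,
    ⟨1, by rw [pow_one, DihedralGroup.r_one_pow_n]⟩, ?_⟩
  · have := congrArg orderOf h
    rw [DihedralGroup.orderOf_r_one, orderOf_one] at this
    exact (Fact.out : p.Prime).ne_one this
  · rw [DihedralGroup.inv_sr, DihedralGroup.sr_mul_r, DihedralGroup.sr_mul_sr, DihedralGroup.inv_r]
    congr 1
    abel

/-- An inverted element of odd prime power order gives a dihedral section. -/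
theorem involves_dihedral [Finite G] (hp : p ≠ 2) (h : Inverts p G) :
    Cfsg.Involves (DihedralGroup p) G := by
  obtain ⟨x, y0, ⟨k, hk⟩, ⟨b, hb⟩, hy0, hxy0⟩ := h.exists_two_element
  obtain ⟨y, hy, hxy⟩ : ∃ y : G, orderOf y = p ∧ x * y * x⁻¹ = y⁻¹ := by
    cases b with
    | zero => exact absurd (orderOf_eq_one_iff.mp (by simpa using hb)) hy0
    | succ b =>
      refine ⟨y0 ^ p ^ b, ?_, by rw [← conj_pow, hxy0, inv_pow]⟩
      rw [orderOf_pow_of_dvd (pow_ne_zero _ (Fact.out : p.Prime).ne_zero)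
        (hb ▸ pow_dvd_pow p (Nat.le_succ b)), hb, pow_succ,
        Nat.mul_div_cancel_left _ (pow_pos (Fact.out : p.Prime).pos b)]
  have hy1 : y ≠ 1 := fun h' => (Fact.out : p.Prime).ne_one (hy ▸ h' ▸ orderOf_one (G := G))
  set K := closure ({x, y} : Set G) with hK
  set x' : K := ⟨x, subset_closure (Set.mem_insert x _)⟩
  set y' : K := ⟨y, subset_closure (Set.mem_insert_of_mem x rfl)⟩
  have hc : x ^ 2 * y = y * x ^ 2 := by
    have h2 : x * y⁻¹ * x⁻¹ = y := by rw [← conj_inv, hxy, inv_inv]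
    rw [pow_two]
    calc x * x * y = x * (x * y * x⁻¹) * x := by group
      _ = (x * y⁻¹ * x⁻¹) * (x * x) := by rw [hxy]; group
      _ = y * (x * x) := by rw [h2]
  set R : Subgroup K := zpowers (x' ^ 2) with hR
  have hcK : K ≤ centralizer {x ^ 2} := by
    refine (closure_le _).mpr ?_
    rintro _ (rfl | rfl)
    · exact mem_centralizer_singleton_iff.mpr ((Commute.refl _).pow_right 2).eq
    · exact mem_centralizer_singleton_iff.mpr hc.symm
  haveI : R.Normal := ⟨fun r hr g => by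
    obtain ⟨i, rfl⟩ := mem_zpowers_iff.mp hr
    have hg : Commute g (x' ^ 2) := Subtype.ext (mem_centralizer_singleton_iff.mp (hcK g.2))
    rw [(hg.zpow_right i).eq, mul_inv_cancel_right]
    exact hr⟩
  set π := QuotientGroup.mk' R
  have hπy : π y' ≠ 1 := by
    intro h'
    obtain ⟨i, hi⟩ := mem_zpowers_iff.mp ((QuotientGroup.eq_one_iff _).mp h')
    have hyx : y ∈ zpowers x := by
      have := congrArg Subtype.val hi
      rw [show y = ((x' ^ 2) ^ i : K).1 from this.symm]
      push_cast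
      exact zpow_mem (pow_mem (mem_zpowers x) 2) i
    have hdvd : orderOf y ∣ 2 ^ k := hk ▸ orderOf_dvd_of_mem_zpowers hyx
    rw [hy] at hdvd
    exact hp ((Nat.prime_dvd_prime_iff_eq Fact.out Nat.prime_two).mp
      ((Fact.out : p.Prime).dvd_of_dvd_pow hdvd))
  have hπy' : orderOf (π y') = p := orderOf_eq_prime
    (by rw [← map_pow, show y' ^ p = 1 from Subtype.ext (by
      simpa [hy] using pow_orderOf_eq_one y), map_one]) hπy
  have hπxy : π x' * π y' * (π x')⁻¹ = (π y')⁻¹ := by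
    rw [← map_inv, ← map_mul, ← map_mul, ← map_inv]
    exact congrArg π (Subtype.ext hxy)
  have hπx2 : π x' * π x' = 1 := by
    rw [← map_mul, ← pow_two]
    exact (QuotientGroup.eq_one_iff _).mpr (mem_zpowers _)
  have hπx : π x' ≠ 1 := by
    intro h'
    rw [h', one_mul, inv_one, mul_one] at hπxy
    have h2 : orderOf (π y') ∣ 2 := orderOf_dvd_of_pow_eq_one (by
      rw [pow_two]; exact eq_inv_iff_mul_eq_one.mp hπxy)
    rw [hπy'] at h2
    exact hp ((Nat.prime_dvd_prime_iff_eq Fact.out Nat.prime_two).mp h2)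
  have hi1 : orderOf (π x') = 2 := Invol.orderOf_eq_two hπx2 hπx
  have hi2 : orderOf (π x' * π y') = 2 := by
    refine Invol.orderOf_eq_two ?_ fun h' => ?_
    · calc π x' * π y' * (π x' * π y') = (π x' * π y' * (π x')⁻¹) * (π x' * π x') * π y' := by
            group
        _ = 1 := by rw [hπxy, hπx2, mul_one, inv_mul_cancel]
    · have h2 : π y' = π x' := by
        rw [← one_mul (π y'), ← hπx2, mul_assoc, h', mul_one]
      rw [h2, hi1] at hπy'
      exact hp hπy'.symm
  have hne : π x' ≠ π x' * π y' := fun h' => hπy (mul_eq_left.mp h'.symm)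
  have hprod : orderOf (π x' * (π x' * π y')) = p := by rw [← mul_assoc, hπx2, one_mul, hπy']
  obtain ⟨e⟩ := Invol.nonempty_dihedral_equiv hi1 hi2 hne
  rw [hprod] at e
  have htop : closure ({π x', π x' * π y'} : Set (K ⧸ R)) = ⊤ := by
    refine (eq_top_iff' _).mpr fun z => ?_
    obtain ⟨g, rfl⟩ := QuotientGroup.mk'_surjective R z
    obtain ⟨g, hg⟩ := g
    induction hg using closure_induction with
    | mem w hw =>
      rcases hw with rfl | rfl
      · exact subset_closure (Set.mem_insert _ _)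
      · change π y' ∈ _
        have hy2 : π x' * (π x' * π y') ∈ closure ({π x', π x' * π y'} : Set (K ⧸ R)) :=
          mul_mem (Subgroup.subset_closure (Set.mem_insert _ _))
            (Subgroup.subset_closure (Set.mem_insert_of_mem _ rfl))
        rwa [← mul_assoc, hπx2, one_mul] at hy2
    | one => exact one_mem _
    | mul u v hu hv ihu ihv =>
      rw [show (⟨u * v, mul_mem hu hv⟩ : K) = ⟨u, hu⟩ * ⟨v, hv⟩ from rfl, map_mul]
      exact mul_mem ihu ihv
    | inv u hu ihu =>
      rw [show (⟨u⁻¹, inv_mem hu⟩ : K) = ⟨u, hu⟩⁻¹ from rfl, map_inv]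
      exact inv_mem ihu
  refine involves_of_surjective K
    (((e.toMonoidHom.comp (MulEquiv.subgroupCongr htop).symm.toMonoidHom).comp
      Subgroup.topEquiv.symm.toMonoidHom).comp π) ?_
  exact (((e.surjective.comp (MulEquiv.surjective _)).comp (MulEquiv.surjective _))).comp
    (QuotientGroup.mk'_surjective R)

theorem involves_dihedral_iff [Finite G] (hp : p ≠ 2) :
    Cfsg.Involves (DihedralGroup p) G ↔ Inverts p G :=
  ⟨fun h => inverts_dihedral.of_involves hp h, involves_dihedral hp⟩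

/-- The isomorphism between the two groups of order six. -/
theorem nonempty_dihedral_perm_three : Nonempty (DihedralGroup 3 ≃* Equiv.Perm (Fin 3)) := by
  let c : Equiv.Perm (Fin 3) := finRotate 3
  let t : Equiv.Perm (Fin 3) := Equiv.swap 0 1
  let f : DihedralGroup 3 → Equiv.Perm (Fin 3) := fun d => match d with
    | .r i => c ^ i.val
    | .sr i => t * c ^ i.val
  have hm : ∀ a b, f (a * b) = f a * f b := by decide
  have hb : Function.Bijective f := by decide
  exact ⟨MulEquiv.ofBijective (MonoidHom.mk' f hm) hb⟩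

theorem involves_perm_three_iff [Finite G] :
    Cfsg.Involves (Equiv.Perm (Fin 3)) G ↔ Inverts 3 G := by
  haveI : Fact (Nat.Prime 3) := ⟨Nat.prime_three⟩
  obtain ⟨e⟩ := nonempty_dihedral_perm_three
  constructor
  · rintro ⟨K, R, hn, ⟨f⟩⟩
    exact (involves_dihedral_iff (by norm_num)).mp ⟨K, R, hn, ⟨f.trans e.symm⟩⟩
  · intro h
    obtain ⟨K, R, hn, ⟨f⟩⟩ := (involves_dihedral_iff (by norm_num)).mpr h
    exact ⟨K, R, hn, ⟨f.trans e⟩⟩

end CfsgLib.ZJ
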