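import Cfsg.Prelude.Def_PLocal
import Cfsg.Agent.Solvable.Basics
import Mathlib.GroupTheory.Exponent
import Mathlib.Tactic.Group

/-!
Glauberman's replacement: from an abelian subgroup `A` and an element `b` of `B` (with `[B, B] ≤ A`)
a second abelian subgroup, generated by `A ∩ A^b` and the commutators of `A` with `b`.
-/

set_option autoImplicit false

namespace CfsgLib.ZJ

open Subgroup
open scoped commutatorElement

variable {G : Type*} [Group G]

/-- The replacement of `A` by `b`. -/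
def repl (A : Subgroup G) (b : G) : Subgroup G :=
  (A ⊓ A.map (MulAut.conj (b⁻¹)).toMonoidHom) ⊔
    Subgroup.closure {g : G | ∃ a ∈ A, g = a * b⁻¹ * a⁻¹ * b}

/-- Hypotheses of the replacement. -/
structure ReplData (A B : Subgroup G) (b : G) : Prop where
  hA : IsMulCommutative A
  hBA : ⁅B, B⁆ ≤ A
  hAB : A ≤ normalizer (B : Set G)
  hb : b ∈ B
  h1 : A.map (MulAut.conj (b⁻¹)).toMonoidHom ≤ normalizer (A : Set G)
  h2 : A ≤ normalizer ((A.map (MulAut.conj (b⁻¹)).toMonoidHom : Subgroup G) : Set G)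

theorem mem_conjA {A : Subgroup G} {b x : G} :
    x ∈ A.map (MulAut.conj (b⁻¹)).toMonoidHom ↔ b * x * b⁻¹ ∈ A := by
  constructor
  · rintro ⟨y, hy, rfl⟩
    simpa [mul_assoc] using hy
  · exact fun h => ⟨_, h, by simp [mul_assoc]⟩

theorem conjA_mk {A : Subgroup G} {b a : G} (ha : a ∈ A) :
    b⁻¹ * a * b ∈ A.map (MulAut.conj (b⁻¹)).toMonoidHom :=
  mem_conjA.mpr (by simpa [mul_assoc] using ha)

/-- Powers of a product when the commutator is central. -/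
theorem mul_pow_of_central {x y z : G} (hyx : y * x = z * (x * y)) (hzx : Commute z x)
    (hzy : Commute z y) (n : ℕ) : (x * y) ^ n = z ^ (n.choose 2) * (x ^ n * y ^ n) := by
  have h1 : ∀ j : ℕ, y ^ j * x = z ^ j * (x * y ^ j) := by
    intro j
    induction j with
    | zero => simp
    | succ j ih =>
      calc y ^ (j + 1) * x = y ^ j * (y * x) := by rw [pow_succ, mul_assoc]
        _ = y ^ j * z * (x * y) := by rw [hyx, mul_assoc]
        _ = z * (y ^ j * x) * y := by rw [← (hzy.pow_right j).eq]; simp only [mul_assoc]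
        _ = z ^ (j + 1) * (x * y ^ (j + 1)) := by
          rw [ih, pow_succ' z, pow_succ y]; simp only [mul_assoc]
  induction n with
  | zero => simp
  | succ n ih =>
    calc (x * y) ^ (n + 1) = z ^ (n.choose 2) * (x ^ n * (y ^ n * x) * y) := by
          rw [pow_succ, ih]; simp only [mul_assoc]
      _ = z ^ (n.choose 2) * (z ^ n * (x ^ n * x) * (y ^ n * y)) := by
          rw [h1, ← mul_assoc (x ^ n), ← ((hzx.pow_right n).pow_left n).eq]
          simp only [mul_assoc]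
      _ = z ^ ((n + 1).choose 2) * (x ^ (n + 1) * y ^ (n + 1)) := by
          rw [Nat.choose_succ_succ', Nat.choose_one_right, add_comm n (n.choose (1 + 1)), pow_add,
            pow_succ x, pow_succ y]
          simp only [mul_assoc]

variable {A B : Subgroup G} {b : G} (R : ReplData A B b)
include R

theorem ReplData.comm {x y : G} (hx : x ∈ A) (hy : y ∈ A) : x * y = y * x :=
  congrArg Subtype.val (R.hA.is_comm.comm ⟨x, hx⟩ ⟨y, hy⟩)

theorem ReplData.comm' {x y : G} (hx : x ∈ A.map (MulAut.conj (b⁻¹)).toMonoidHom)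
    (hy : y ∈ A.map (MulAut.conj (b⁻¹)).toMonoidHom) : x * y = y * x := by
  obtain ⟨x, hx, rfl⟩ := hx
  obtain ⟨y, hy, rfl⟩ := hy
  rw [← map_mul, ← map_mul, R.comm (show x ∈ A from hx) (show y ∈ A from hy)]

theorem ReplData.kappa_mem {a : G} (ha : a ∈ A) : a * b⁻¹ * a⁻¹ * b ∈ B :=
  mul_mem ((mem_normalizer_iff.mp (R.hAB ha) b⁻¹).mp (inv_mem R.hb)) R.hb

theorem ReplData.derived_le : ⁅B, B⁆ ≤ A ⊓ A.map (MulAut.conj (b⁻¹)).toMonoidHom := by
  refine le_inf R.hBA fun x hx => mem_conjA.mpr (R.hBA ?_)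
  have h1 := mem_map_of_mem (MulAut.conj b).toMonoidHom hx
  rw [map_commutator] at h1
  have h2 : B.map (MulAut.conj b).toMonoidHom ≤ B := by
    rintro _ ⟨y, hy, rfl⟩
    exact mul_mem (mul_mem R.hb hy) (inv_mem R.hb)
  simpa using commutator_mono h2 h2 h1

/-- Elements of `A ∩ A^b` commute with both factors. -/
theorem ReplData.central {d x : G} (hd : d ∈ A ⊓ A.map (MulAut.conj (b⁻¹)).toMonoidHom)
    (hx : x ∈ A ∨ x ∈ A.map (MulAut.conj (b⁻¹)).toMonoidHom) : Commute d x :=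
  hx.elim (fun h => R.comm hd.1 h) (fun h => R.comm' hd.2 h)

theorem ReplData.comm_mem {x y : G} (hx : x ∈ A)
    (hy : y ∈ A.map (MulAut.conj (b⁻¹)).toMonoidHom) :
    ⁅x, y⁆ ∈ A ⊓ A.map (MulAut.conj (b⁻¹)).toMonoidHom := by
  rw [commutatorElement_def]
  constructor
  · have := (mem_normalizer_iff.mp (R.h1 hy) x⁻¹).mp (inv_mem hx)
    simpa [mul_assoc] using mul_mem hx this
  · exact mul_mem ((mem_normalizer_iff.mp (R.h2 hx) y).mp hy) (Subgroup.inv_mem _ hy)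

theorem ReplData.bracket_mul_right {x y1 y2 : G} (hx : x ∈ A)
    (h1 : y1 ∈ A ∨ y1 ∈ A.map (MulAut.conj (b⁻¹)).toMonoidHom)
    (h2 : y2 ∈ A.map (MulAut.conj (b⁻¹)).toMonoidHom) :
    ⁅x, y1 * y2⁆ = ⁅x, y1⁆ * ⁅x, y2⁆ := by
  have hc := R.central (R.comm_mem hx h2) h1
  rw [show ⁅x, y1 * y2⁆ = ⁅x, y1⁆ * (y1 * ⁅x, y2⁆ * y1⁻¹) by
    simp only [commutatorElement_def]; group, ← hc.eq, mul_inv_cancel_right]

theorem ReplData.bracket_inv_right {x y : G} (hx : x ∈ A)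
    (hy : y ∈ A.map (MulAut.conj (b⁻¹)).toMonoidHom) : ⁅x, y⁻¹⁆ = ⁅x, y⁆⁻¹ := by
  refine eq_inv_of_mul_eq_one_left ?_
  rw [← R.bracket_mul_right hx (Or.inr (inv_mem hy)) hy, inv_mul_cancel, commutatorElement_one_right]

theorem ReplData.bracket_pow_right {x y : G} (hx : x ∈ A)
    (hy : y ∈ A.map (MulAut.conj (b⁻¹)).toMonoidHom) (n : ℕ) : ⁅x, y ^ n⁆ = ⁅x, y⁆ ^ n := by
  induction n with
  | zero => simp
  | succ n ih => rw [pow_succ, R.bracket_mul_right hx (Or.inr (pow_mem hy n)) hy, ih, pow_succ]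

/-- Conjugation by `b` moves a commutator of `A` with `b` within its coset of `[B, B]`. -/
theorem ReplData.conj_kappa {a : G} (ha : a ∈ A) :
    ∃ e ∈ ⁅B, B⁆, b * (a * b⁻¹ * a⁻¹ * b) * b⁻¹ = a * b⁻¹ * a⁻¹ * b * e := by
  refine ⟨⁅(a * b⁻¹ * a⁻¹ * b)⁻¹, b⁆, commutator_mem_commutator (inv_mem (R.kappa_mem ha)) R.hb, ?_⟩
  simp only [commutatorElement_def]
  group

/-- `A ∩ A^b` is invariant under conjugation by `b`. -/
theorem ReplData.conj_inter {x : G} (hx : x ∈ A ⊓ A.map (MulAut.conj (b⁻¹)).toMonoidHom) :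
    b * x * b⁻¹ ∈ A ⊓ A.map (MulAut.conj (b⁻¹)).toMonoidHom := by
  have ha : b * x * b⁻¹ ∈ A := mem_conjA.mp hx.2
  refine ⟨ha, mem_conjA.mpr ?_⟩
  obtain ⟨e, he, hee⟩ := R.conj_kappa ha
  have h1 : b * (b * x * b⁻¹) * b⁻¹ = (b * x * b⁻¹) * x⁻¹ * e * (b * x * b⁻¹) := by
    calc b * (b * x * b⁻¹) * b⁻¹
        = b * ((b * x * b⁻¹) * b⁻¹ * (b * x * b⁻¹)⁻¹ * b) * b⁻¹ * (b * x * b⁻¹) := by group
      _ = _ := by rw [hee]; group
  rw [h1]
  exact mul_mem (mul_mem (mul_mem ha (inv_mem hx.1)) (R.hBA he)) ha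

theorem ReplData.symm_step {a c : G} (ha : a ∈ A) (hc : c ∈ A) :
    ⁅c, b⁻¹ * a * b⁆ = b⁻¹ * ⁅a, b⁻¹ * c * b⁆ * b := by
  obtain ⟨e, he, hee⟩ := R.conj_kappa hc
  set k := c * b⁻¹ * c⁻¹ * b with hk
  have hk' : k = c * (b⁻¹ * c * b)⁻¹ := by rw [hk]; group
  have hu := conjA_mk (b := b) ha
  have hu' := conjA_mk (b := b) hc
  have hke : ⁅a, k * e⁆ = ⁅a, k⁆ := by
    have hce : Commute e a := R.central (R.derived_le he) (Or.inl ha)
    simp only [commutatorElement_def, mul_inv_rev]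
    calc a * (k * e) * a⁻¹ * (e⁻¹ * k⁻¹) = a * k * (e * a⁻¹) * e⁻¹ * k⁻¹ := by group
      _ = _ := by rw [hce.inv_right.eq]; group
  have h1 : ⁅a, k⁆ = ⁅a, b⁻¹ * c * b⁆⁻¹ := by
    rw [hk', R.bracket_mul_right ha (Or.inl hc) (inv_mem hu'),
      commutatorElement_eq_one_iff_mul_comm.mpr (R.comm ha hc), one_mul, R.bracket_inv_right ha hu']
  have h2 : ⁅b⁻¹ * a * b, k⁆ = ⁅c, b⁻¹ * a * b⁆⁻¹ := by
    set u := b⁻¹ * a * b
    set u' := b⁻¹ * c * b
    rw [hk', commutatorElement_inv]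
    have hcu : u * u' = u' * u := R.comm' hu hu'
    simp only [commutatorElement_def, mul_inv_rev, inv_inv]
    calc u * (c * u'⁻¹) * u⁻¹ * (u' * c⁻¹) = u * c * (u'⁻¹ * u⁻¹) * (u' * c⁻¹) := by group
      _ = u * c * (u⁻¹ * u'⁻¹) * (u' * c⁻¹) := by
        rw [← mul_inv_rev u u', hcu, mul_inv_rev]
      _ = _ := by group
  apply inv_injective
  rw [← h2]
  have h3 : ⁅b⁻¹ * a * b, k⁆ = b⁻¹ * ⁅a, b * k * b⁻¹⁆ * b := by
    simp only [commutatorElement_def]; group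
  rw [h3, hee, hke, h1]
  group

theorem ReplData.symm [Finite G] (hodd : Odd (orderOf b) ∨ IsMulCommutative B) {a c : G}
    (ha : a ∈ A) (hc : c ∈ A) : ⁅c, b⁻¹ * a * b⁆ = ⁅a, b⁻¹ * c * b⁆ := by
  rcases hodd with hodd | hB
  · set z := ⁅a, b⁻¹ * c * b⁆ with hz
    have h1 := R.symm_step ha hc
    have h2 := R.symm_step hc ha
    rw [← hz] at h1 h2
    rw [h1] at h2
    have hc2 : Commute (b ^ 2) z := by
      show b ^ 2 * z = z * b ^ 2
      conv_lhs => rw [h2]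
      rw [pow_two]
      group
    obtain ⟨j, hj⟩ := hodd
    have hbz : Commute b z := by
      have := hc2.pow_left (j + 1)
      rwa [← pow_mul, show 2 * (j + 1) = orderOf b + 1 by omega, pow_succ, pow_orderOf_eq_one,
        one_mul] at this
    rw [h1, mul_assoc, ← hbz.eq, inv_mul_cancel_left]
  · have hk := congrArg Subtype.val
      (hB.is_comm.comm ⟨_, R.kappa_mem ha⟩ ⟨_, R.kappa_mem hc⟩)
    simp only [Subgroup.coe_mul] at hk
    have hu := conjA_mk (b := b) ha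
    have hu' := conjA_mk (b := b) hc
    set u := b⁻¹ * a * b with hudef
    set u' := b⁻¹ * c * b with hudef'
    rw [show a * b⁻¹ * a⁻¹ * b = a * u⁻¹ by rw [hudef]; group,
      show c * b⁻¹ * c⁻¹ * b = c * u'⁻¹ by rw [hudef']; group] at hk
    have e1 : a * u⁻¹ * (c * u'⁻¹) = ⁅c, u⁆ * (a * c * (u⁻¹ * u'⁻¹)) := by
      have hz := R.central (R.comm_mem hc hu) (Or.inl ha)
      have h' : u⁻¹ * c = ⁅u⁻¹, c⁆ * (c * u⁻¹) := by simp only [commutatorElement_def]; group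
      rw [← commutatorElement_inv, R.bracket_inv_right hc hu, inv_inv] at h'
      calc a * u⁻¹ * (c * u'⁻¹) = a * (u⁻¹ * c) * u'⁻¹ := by group
        _ = (a * ⁅c, u⁆) * (c * u⁻¹) * u'⁻¹ := by rw [h']; group
        _ = _ := by rw [← hz.eq]; group
    have e2 : c * u'⁻¹ * (a * u⁻¹) = ⁅a, u'⁆ * (a * c * (u⁻¹ * u'⁻¹)) := by
      have hz := R.central (R.comm_mem ha hu') (Or.inl hc)
      have h' : u'⁻¹ * a = ⁅u'⁻¹, a⁆ * (a * u'⁻¹) := by simp only [commutatorElement_def]; group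
      rw [← commutatorElement_inv, R.bracket_inv_right ha hu', inv_inv] at h'
      calc c * u'⁻¹ * (a * u⁻¹) = c * (u'⁻¹ * a) * u⁻¹ := by group
        _ = (c * ⁅a, u'⁆) * (a * u'⁻¹) * u⁻¹ := by rw [h']; group
        _ = ⁅a, u'⁆ * ((c * a) * (u'⁻¹ * u⁻¹)) := by rw [← hz.eq]; group
        _ = _ := by rw [R.comm hc ha, R.comm' (inv_mem hu') (inv_mem hu)]
    rw [e1, e2] at hk
    exact mul_right_cancel hk

/-- The product of two commutators with `b`. -/
theorem ReplData.kappa_mul {a c : G} (ha : a ∈ A) (hc : c ∈ A) :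
    a * b⁻¹ * a⁻¹ * b * (c * b⁻¹ * c⁻¹ * b) =
      ⁅c, b⁻¹ * a * b⁆ * (a * c * b⁻¹ * (a * c)⁻¹ * b) := by
  have hu := conjA_mk (b := b) ha
  have hu' := conjA_mk (b := b) hc
  set u := b⁻¹ * a * b with hudef
  set u' := b⁻¹ * c * b with hudef'
  have hz := R.central (R.comm_mem hc hu) (Or.inl ha)
  have h' : u⁻¹ * c = ⁅u⁻¹, c⁆ * (c * u⁻¹) := by simp only [commutatorElement_def]; group
  rw [← commutatorElement_inv, R.bracket_inv_right hc hu, inv_inv] at h'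
  calc a * b⁻¹ * a⁻¹ * b * (c * b⁻¹ * c⁻¹ * b) = a * (u⁻¹ * c) * u'⁻¹ := by
        rw [hudef, hudef']; group
    _ = (a * ⁅c, u⁆) * (c * u⁻¹) * u'⁻¹ := by rw [h']; group
    _ = ⁅c, u⁆ * (a * c * (u⁻¹ * u'⁻¹)) := by rw [← hz.eq]; group
    _ = ⁅c, u⁆ * (a * c * (u'⁻¹ * u⁻¹)) := by rw [R.comm' (inv_mem hu) (inv_mem hu')]
    _ = _ := by rw [hudef', hudef]; group

end CfsgLib.ZJ
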