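import Mathlib.GroupTheory.GroupAction.Quotient
import Mathlib.GroupTheory.PGroup
import Mathlib.Algebra.BigOperators.Group.Finset.Piecewise

/-!
Products over the orbits of an abelian `p`-group acting affinely.
-/

set_option autoImplicit false
set_option linter.style.haveILetI false

namespace CfsgLib.ZJ

open scoped BigOperators

/-- The product of the values of a homomorphism of exponent `p` on a nontrivial abelian `p`-group. -/
theorem prod_hom_eq_one {p : ℕ} [Fact p.Prime] {B D : Type*} [CommGroup B] [Fintype B] [CommGroup D]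
    (f : B →* D) (hf : ∀ b, f b ^ p = 1)
    (h : p ≠ 2 ∨ p ^ 2 ∣ Nat.card B ∨ ∀ b, f b = 1) : ∏ b, f b = 1 := by
  classical
  rcases h with hp | hd | h1
  · have hinv : ∏ b, f b = (∏ b, f b)⁻¹ := by
      rw [← Finset.prod_inv_distrib]
      exact Fintype.prod_equiv (Equiv.inv B) _ _ fun b => by simp
    have h2 : (∏ b, f b) ^ 2 = 1 := by
      rw [pow_two]
      nth_rewrite 1 [hinv]
      exact inv_mul_cancel _
    have hpp : (∏ b, f b) ^ p = 1 := by
      rw [← Finset.prod_pow]
      exact Finset.prod_eq_one fun b _ => hf b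
    exact orderOf_eq_one_iff.mp (Nat.eq_one_of_dvd_coprimes
      ((Nat.coprime_primes Fact.out Nat.prime_two).mpr hp)
      (orderOf_dvd_of_pow_eq_one hpp) (orderOf_dvd_of_pow_eq_one h2))
  · obtain ⟨b0, hb0⟩ := exists_prime_orderOf_dvd_card' (G := B) p
      ((dvd_pow_self p two_ne_zero).trans hd)
    set H := Subgroup.zpowers b0 with hH
    have hHcard : Nat.card H = p := by rw [hH, Nat.card_zpowers, hb0]
    haveI : Fintype H := Fintype.ofFinite _
    haveI : Fintype (B ⧸ H) := Fintype.ofFinite _
    have hbij : Function.Bijective fun qh : (B ⧸ H) × H => Quotient.out qh.1 * (qh.2 : B) := by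
      refine (Fintype.bijective_iff_injective_and_card _).mpr ⟨fun a b he => ?_, ?_⟩
      · simp only at he
        have he1 := congrArg (QuotientGroup.mk (s := H)) he
        rw [QuotientGroup.mk_mul_of_mem _ a.2.2, QuotientGroup.mk_mul_of_mem _ b.2.2,
          QuotientGroup.out_eq', QuotientGroup.out_eq'] at he1
        refine Prod.ext he1 (Subtype.ext ?_)
        rw [he1] at he
        exact mul_left_cancel he
      · rw [Fintype.card_prod, ← Nat.card_eq_fintype_card, ← Nat.card_eq_fintype_card,
          ← Nat.card_eq_fintype_card]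
        exact (Subgroup.card_eq_card_quotient_mul_card_subgroup H).symm
    rw [← Fintype.prod_bijective _ hbij (fun qh => f (Quotient.out qh.1 * (qh.2 : B))) _ fun _ => rfl,
      Fintype.prod_prod_type]
    have h1 : ∀ q : B ⧸ H, ∏ h : H, f (Quotient.out q * (h : B)) = ∏ h : H, f (h : B) := by
      intro q
      simp only [map_mul, Finset.prod_mul_distrib, Finset.prod_const, Finset.card_univ,
        ← Nat.card_eq_fintype_card, hHcard, hf, one_mul]
    simp only [h1, Finset.prod_const, Finset.card_univ, ← Nat.card_eq_fintype_card]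
    have h2 : p ∣ Nat.card (B ⧸ H) := by
      have := Subgroup.card_eq_card_quotient_mul_card_subgroup H
      rw [hHcard] at this
      rw [this, pow_two] at hd
      exact Nat.dvd_of_mul_dvd_mul_right (Fact.out : p.Prime).pos hd
    obtain ⟨j, hj⟩ := h2
    rw [hj, pow_mul, ← Finset.prod_pow, Finset.prod_eq_one fun h _ => hf _, one_pow]
  · exact Finset.prod_eq_one fun b _ => h1 b

/-- Functions with the same product over every orbit have the same product. -/
theorem prod_eq_of_orbits {A α D : Type*} [Group A] [MulAction A α] [Fintype α] [CommMonoid D]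
    (f f' : α → D)
    (h : ∀ (q : α) [Fintype (MulAction.orbit A q)],
      ∏ y : MulAction.orbit A q, f y = ∏ y : MulAction.orbit A q, f' y) :
    ∏ q, f q = ∏ q, f' q := by
  classical
  let e := MulAction.selfEquivSigmaOrbits A α
  haveI : Fintype (MulAction.orbitRel.Quotient A α) := Fintype.ofFinite _
  haveI : ∀ q : α, Fintype (MulAction.orbit A q) := fun q => Fintype.ofFinite _
  have hval : ∀ y, e.symm y = ((y.2 : MulAction.orbit A y.1.out) : α) := fun y => by
    obtain ⟨q, rfl⟩ := e.surjective y
    rw [Equiv.symm_apply_apply]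
    rfl
  rw [← e.symm.prod_comp f, ← e.symm.prod_comp f', Fintype.prod_sigma, Fintype.prod_sigma]
  refine Finset.prod_congr rfl fun ω _ => ?_
  simp only [hval]
  exact h ω.out

/-- The product over an orbit of an affine function is trivial. -/
theorem prod_orbit_affine {p : ℕ} [Fact p.Prime] {A α D : Type*} [CommGroup A] [Finite A]
    [MulAction A α] [CommGroup D] (hA : IsPGroup p A) (q : α) [Fintype (MulAction.orbit A q)]
    (f : α → D) (δ : A →* D) (hf : ∀ a : A, f (a • q) = δ a * f q)
    (hδ : ∀ a, δ a ^ p = 1) (hq : f q ^ p = 1) (hne : MulAction.stabilizer A q ≠ ⊤)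
    (h : p ≠ 2 ∨ p ^ 2 ∣ (MulAction.stabilizer A q).index ∨ ∀ a, δ a = 1) :
    ∏ y : MulAction.orbit A q, f y = 1 := by
  classical
  set St := MulAction.stabilizer A q with hSt
  have hk : St ≤ δ.ker := fun a ha => by
    rw [MonoidHom.mem_ker]
    have := hf a
    rwa [MulAction.mem_stabilizer_iff.mp ha, eq_comm, mul_eq_right] at this
  haveI : Fintype (A ⧸ St) := Fintype.ofFinite _
  rw [← (MulAction.orbitEquivQuotientStabilizer A q).symm.prod_comp]
  have hb : ∀ b : A ⧸ St, f ((MulAction.orbitEquivQuotientStabilizer A q).symm b) =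
      QuotientGroup.lift St δ hk b * f q := by
    intro b
    induction b using QuotientGroup.induction_on with
    | _ a => rw [MulAction.orbitEquivQuotientStabilizer_symm_apply, hf, QuotientGroup.lift_mk]
  rw [Finset.prod_congr rfl fun b _ => hb b, Finset.prod_mul_distrib,
    Finset.prod_const, Finset.card_univ, ← Nat.card_eq_fintype_card,
    prod_hom_eq_one (p := p) _ ?_ ?_, one_mul]
  · obtain ⟨i, hi⟩ := (hA.to_quotient St).exists_card_eq
    rw [hi]
    cases i with
    | zero =>
      refine absurd ?_ hne
      rw [← Subgroup.index_eq_one, Subgroup.index_eq_card, hi, pow_zero]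
    | succ i => rw [pow_succ', pow_mul, hq, one_pow]
  · intro b
    induction b using QuotientGroup.induction_on with
    | _ a => rw [QuotientGroup.lift_mk, hδ]
  · rcases h with h | h | h
    · exact Or.inl h
    · exact Or.inr (Or.inl (by rwa [← Subgroup.index_eq_card]))
    · refine Or.inr (Or.inr fun b => ?_)
      induction b using QuotientGroup.induction_on with
      | _ a => rw [QuotientGroup.lift_mk, h]

/-- An affine function with constant value on the fixed points has the product of that value. -/
theorem prod_eq_pow_fixedPoints {p : ℕ} [Fact p.Prime] {A α D : Type*} [CommGroup A] [Finite A]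
    [MulAction A α] [Fintype α] [CommGroup D] (hA : IsPGroup p A) (f : α → D) (x : D)
    (hfix : ∀ q ∈ MulAction.fixedPoints A α, f q = x)
    (hmov : ∀ q, q ∉ MulAction.fixedPoints A α → f q ^ p = 1 ∧
      ∃ δ : A →* D, (∀ a : A, f (a • q) = δ a * f q) ∧ (∀ a, δ a ^ p = 1) ∧
        (p ≠ 2 ∨ p ^ 2 ∣ (MulAction.stabilizer A q).index ∨ ∀ a, δ a = 1)) :
    ∏ q, f q = x ^ Nat.card (MulAction.fixedPoints A α) := by
  classical
  rw [prod_eq_of_orbits (A := A) f (fun q => if q ∈ MulAction.fixedPoints A α then x else 1) ?_,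
    Finset.prod_ite, Finset.prod_const, Finset.prod_const_one, mul_one]
  · congr 1
    rw [Nat.card_eq_fintype_card, Fintype.card_subtype]
  intro q hq
  by_cases hqf : q ∈ MulAction.fixedPoints A α
  · refine Finset.prod_congr rfl fun y _ => ?_
    obtain ⟨a, ha⟩ := y.2
    have hy : (y : α) = q := by rw [← ha]; exact hqf a
    rw [hy, if_pos hqf, hfix q hqf]
  · obtain ⟨hqp, δ, hf, hδ, h⟩ := hmov q hqf
    rw [prod_orbit_affine hA q f δ hf hδ hqp (fun htop => hqf fun a =>
      MulAction.mem_stabilizer_iff.mp (htop ▸ Subgroup.mem_top a)) h]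
    refine (Finset.prod_eq_one fun y _ => if_neg fun hy => hqf ?_).symm
    obtain ⟨a, ha⟩ := y.2
    intro b
    have h1 : b • (y : α) = y := hy b
    rw [← ha] at h1
    calc b • q = a⁻¹ • (b • (a • q)) := by rw [smul_smul, smul_smul, mul_assoc, mul_comm b a, inv_mul_cancel_left]
      _ = q := by rw [h1, inv_smul_smul]

end CfsgLib.ZJ
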