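import Cfsg.Agent.ZJ.ThompsonComplement
import Cfsg.Agent.ZJ.Transvection
import Cfsg.Agent.ZJ.OrbitProduct
import Cfsg.Agent.Solvable.Fitting

/-!
Central elements of the normalizer of the Thompson subgroup are weakly closed (Glauberman).
-/

set_option autoImplicit false
set_option linter.style.haveILetI false

namespace CfsgLib.ZJ

open Subgroup CfsgLib.Functor
open scoped CfsgLib.Functor commutatorElement Pointwise

universe u

variable {p : ℕ} [Fact p.Prime]

/-- The further hypothesis: `p` odd, or a `p`th power of a central element, or no section isomorphic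
to the symmetric group of degree 4. -/
def WCExtra (p : ℕ) (G : Type u) [Group G] (U : Subgroup G) (x : G) : Prop :=
  p ≠ 2 ∨ (∃ z ∈ U ⊓ centralizer (U : Set G), z ^ p = x) ∨ ¬ Cfsg.Involves (Equiv.Perm (Fin 4)) G

/-- The hypothesis: `x` is in `U` and is central in the normalizer of `J(U)`. -/
structure WCHyp (p : ℕ) (G : Type u) [Group G] (U : Subgroup G) (x : G) : Prop where
  mem : x ∈ U
  fix : ∀ n ∈ normalizer ((Cfsg.thompsonSubgroupAOf U : Subgroup G) : Set G), n * x = x * n
  extra : WCExtra p G U x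

theorem WCHyp.centralizes {G : Type u} [Group G] [Finite G] {U : Subgroup G} {x : G}
    (h : WCHyp p G U x) : x ∈ centralizer (U : Set G) :=
  mem_centralizer_iff.mpr fun u hu =>
    h.fix u ((jkind_abelian (p := p)).normalizer_le U (le_normalizer hu))

/-- A central element of `U` lies in every abelian subgroup of `U` of largest order. -/
theorem center_mem_fam {G : Type u} [Group G] [Finite G] {U A : Subgroup G} {x : G}
    (hA : A ∈ fam (fun A : Subgroup G => IsMulCommutative A) U) (hx : x ∈ U)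
    (hxc : x ∈ centralizer (U : Set G)) : x ∈ A := by
  have hM : IsMulCommutative ↥(closure ((A : Set G) ∪ {x}) : Subgroup G) := by
    refine Subgroup.isMulCommutative_closure ?_
    rintro a (ha | rfl) b (hb | rfl)
    · exact congrArg Subtype.val (hA.1.is_comm.comm ⟨a, ha⟩ ⟨b, hb⟩)
    · exact mem_centralizer_iff.mp hxc a (hA.2.1 ha)
    · exact (mem_centralizer_iff.mp hxc b (hA.2.1 hb)).symm
    · rfl
  have hle : closure ((A : Set G) ∪ {x}) ≤ U :=
    (closure_le _).mpr (Set.union_subset hA.2.1 (Set.singleton_subset_iff.mpr hx))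
  have h := Solvable.eq_of_le_of_card_le (show A ≤ closure ((A : Set G) ∪ {x}) from
    fun a ha => subset_closure (Or.inl ha)) (hA.2.2 _ hM hle)
  rw [h]
  exact subset_closure (Or.inr rfl)

theorem center_mem_thompsonA {G : Type u} [Group G] [Finite G] {U : Subgroup G} {x : G}
    (hx : x ∈ U) (hxc : x ∈ centralizer (U : Set G)) : x ∈ Cfsg.thompsonSubgroupAOf U := by
  obtain ⟨A, hA⟩ := exists_fam admissible_abelian U
  rw [thompsonSubgroupAOf_eq_fam]
  exact le_sSup hA (center_mem_fam hA hx hxc)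

/-- The statement in groups of smaller order than `n`. -/
def WCBelow (p : ℕ) (n : ℕ) : Prop :=
  ∀ (G : Type u) [Group G] [Finite G], Nat.card G < n → ∀ (S : Sylow p G) (x : G),
    WCHyp p G (S : Subgroup G) x → ∀ g : G, g * x * g⁻¹ ∈ (S : Subgroup G) → g * x * g⁻¹ = x

section Induction

variable {G : Type u} [Group G] [Finite G]

theorem wc_sub (ih : WCBelow.{u} p (Nat.card G)) {M T : Subgroup G} (hM : M ≠ ⊤)
    (hT : IsSylowIn p T M) {x : G} (hx : x ∈ T)
    (hfix : ∀ n ∈ M, n ∈ normalizer ((Cfsg.thompsonSubgroupAOf T : Subgroup G) : Set G) →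
      n * x = x * n)
    (hE : WCExtra p G T x) : ∀ m ∈ M, m * x * m⁻¹ ∈ T → m * x * m⁻¹ = x := by
  obtain ⟨P, rfl⟩ := hT.exists_sylow
  intro m hm hmx
  obtain ⟨x', hx', rfl⟩ := hx
  have hcard : Nat.card M < Nat.card G :=
    lt_of_le_of_ne (card_le_card_group M) fun h => hM (eq_top_of_card_eq M h)
  have hhyp : WCHyp p M (P : Subgroup M) x' := by
    refine ⟨hx', fun n hn => Subtype.ext (hfix n n.2 ?_), ?_⟩
    · rw [(jkind_abelian (p := p)).map M G M.subtype _ M.subtype_injective]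
      exact le_normalizer_map M.subtype (mem_map_of_mem M.subtype hn)
    · rcases hE with h | ⟨z, hz, hzp⟩ | h
      · exact Or.inl h
      · obtain ⟨z', hz', rfl⟩ := hz.1
        refine Or.inr (Or.inl ⟨z', ⟨hz', mem_centralizer_iff.mpr fun u hu => Subtype.ext
          (mem_centralizer_iff.mp hz.2 (u : G) (mem_map_of_mem M.subtype hu))⟩, Subtype.ext ?_⟩)
        simpa using hzp
      · exact Or.inr (Or.inr fun hi => h (involves_of_subgroup M hi))
  obtain ⟨y, hy, hy'⟩ := hmx
  refine congrArg Subtype.val (ih M hcard P x' hhyp ⟨m, hm⟩ ?_)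
  rwa [show (⟨m, hm⟩ : M) * x' * (⟨m, hm⟩ : M)⁻¹ = y from Subtype.ext (by
    simpa using hy'.symm)]

theorem wc_over (ih : WCBelow.{u} p (Nat.card G)) (S : Sylow p G) {x : G}
    (h : WCHyp p G (S : Subgroup G) x) {M : Subgroup G} (hM : M ≠ ⊤) (hSM : (S : Subgroup G) ≤ M) :
    ∀ m ∈ M, m * x * m⁻¹ ∈ (S : Subgroup G) → m * x * m⁻¹ = x :=
  wc_sub ih hM ((isSylowIn_top S).of_le hSM le_top) h.mem (fun n _ hn => h.fix n hn) h.extra

/-- Fusion of subgroups satisfying a fusion-invariant largeness condition fixes `x`. -/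
theorem fix_of_big (ih : WCBelow.{u} p (Nat.card G)) (S : Sylow p G) {x : G}
    (h : WCHyp p G (S : Subgroup G) x) (Big : Subgroup G → Prop)
    (hmono : ∀ A B : Subgroup G, A ≤ B → B ≤ S → Big A → Big B)
    (hinvar : ∀ (A : Subgroup G) (g : G), A ≤ S → g ⋆ A ≤ S → Big A → Big (g ⋆ A))
    (hJ : ∀ T : Subgroup G, T ≤ S → Big T → Big (Cfsg.thompsonSubgroupAOf T))
    (hproper : ∀ U : Subgroup G, U ≤ S → Big U → normalizer (U : Set G) ≠ ⊤) :
    ∀ (A : Subgroup G) (g : G), A ≤ S → g ⋆ A ≤ S → Big A → (x ∈ A ∨ x ∈ g ⋆ A) →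
      g * x * g⁻¹ = x := by
  have hxc := h.centralizes
  have hne : ∀ U : Subgroup G, U ≤ S → Big U → U ≠ ⊥ := by
    rintro U hU hB rfl
    exact hproper ⊥ hU hB (normalizer_eq_top ⊥)
  have hfixmem : ∀ {g : G} {A : Subgroup G}, g * x * g⁻¹ = x → x ∈ A → x ∈ g ⋆ A :=
    fun {g A} hg hA => by rw [← hg]; exact conj_mem_cj hA
  have hfixmem' : ∀ {g : G} {A : Subgroup G}, g * x * g⁻¹ = x → x ∈ g ⋆ A → x ∈ A :=
    fun {g A} hg hA => by
      have h1 := mem_cj.mp hA
      rwa [show g⁻¹ * x * g = x by nth_rewrite 1 [← hg]; group] at h1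
  have key := fusion_induction S (fun A g => Big A → (x ∈ A ∨ x ∈ g ⋆ A) → g * x * g⁻¹ = x)
    (fun V => Big V → ∀ n ∈ normalizer (V : Set G),
      n * x * n⁻¹ ∈ (S : Subgroup G) → n * x * n⁻¹ = x)
    (fun _ => True) ?_ ?_ ?_ ?_ ?_ ?_ ?_ ?_
  · exact fun A g hA hg hB hx => key.1 A g hA hg hB hx
  · intro A hA
    obtain ⟨h, h1, h2, h3⟩ := exists_extremal S hA
    exact ⟨h, h1, h2, h3, trivial⟩
  · intro A B g hAB hB _ hQ hbig hx
    exact hQ (hmono A B hAB hB hbig) (hx.imp (fun hx => hAB hx) fun hx => cj_mono g hAB hx)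
  · intro A g k hA hg _ hQ1 hQ2 hbig hx
    have hbig' := hinvar A g hA hg hbig
    have e : k * g * x * (k * g)⁻¹ = k * (g * x * g⁻¹) * k⁻¹ := by group
    rcases hx with hx | hx
    · have h1 := hQ1 hbig (Or.inl hx)
      rw [e, h1]
      exact hQ2 hbig' (Or.inl (hfixmem h1 hx))
    · rw [← cj_cj] at hx
      have h2 := hQ2 hbig' (Or.inr hx)
      have h1 := hQ1 hbig (Or.inr (hfixmem' h2 hx))
      rw [e, h1]
      exact h2
  · intro A g hA hg hQ hbig hx
    have hbig' : Big A := by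
      have := hinvar (g ⋆ A) g⁻¹ hg (by rw [cj_inv_cj]; exact hA) hbig
      rwa [cj_inv_cj] at this
    rw [cj_inv_cj] at hx
    have h1 := hQ hbig' hx.symm
    nth_rewrite 1 [← h1]
    group
  · intro g _ hx
    have hx1 : x = 1 := hx.elim mem_bot.mp fun hx => mem_bot.mp (by rwa [Subgroup.map_bot] at hx)
    rw [hx1]; group
  · intro n hn _ _
    exact mul_inv_eq_iff_eq_mul.mpr
      (h.fix n ((jkind_abelian (p := p)).normalizer_le (S : Subgroup G) hn))
  · intro U hU _ _ _ hP n hn hbig hx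
    have hxU : x ∈ U := hx.elim id fun hx => by rwa [mem_normalizer_iff_cj.mp hn] at hx
    exact hP hbig n hn (hU ((mem_normalizer_iff.mp hn x).mp hxU))
  · intro V hV _ hQ hP hbig
    have hxNV : ∀ W : Subgroup G, W ≤ S → x ∈ (S : Subgroup G) ⊓ normalizer (W : Set G) :=
      fun W hW => ⟨h.mem, centralizer_le_normalizer _ (centralizer_le hW hxc)⟩
    obtain ⟨k, hk, hkN, hext⟩ := exists_extremal S hV
    set V' := k ⋆ V with hV'
    have hle : ∀ W : Subgroup G, W ≤ S → W ≤ (S : Subgroup G) ⊓ normalizer (W : Set G) :=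
      fun W hW => le_inf hW le_normalizer
    have hkx : k * x * k⁻¹ = x :=
      hQ _ k inf_le_left hkN le_rfl (hmono _ _ (hle V hV) inf_le_left hbig) (Or.inl (hxNV V hV))
    have hbig' : Big V' := hinvar V k hV hk hbig
    set T := (S : Subgroup G) ⊓ normalizer (V' : Set G) with hT
    have hTsyl : IsSylowIn p T (normalizer (V' : Set G)) := hext.sylowIn S.2
    have hbigT : Big T := hmono _ _ (hle V' hk) inf_le_left hbig'
    have hxT : x ∈ T := hxNV V' hk
    have hxcT : x ∈ centralizer (T : Set G) := centralizer_le inf_le_left hxc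
    have hcardle : Nat.card ↥((S : Subgroup G) ⊓ normalizer (V : Set G)) ≤ Nat.card T := by
      rw [← card_cj k]
      refine card_le_of_le (le_inf hkN ?_)
      rw [hV', ← cj_normalizer]
      exact cj_mono k inf_le_right
    have hfix : ∀ n ∈ normalizer (V' : Set G),
        n ∈ normalizer ((Cfsg.thompsonSubgroupAOf T : Subgroup G) : Set G) → n * x = x * n := by
      intro n _ hn
      by_cases hTS : T = (S : Subgroup G)
      · rw [hTS] at hn
        exact h.fix n hn
      have hJle : Cfsg.thompsonSubgroupAOf T ≤ (S : Subgroup G) :=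
        ((jkind_abelian (p := p)).le T).trans inf_le_left
      have hbigJ := hJ T inf_le_left hbigT
      have hlt : Nat.card ↥((S : Subgroup G) ⊓ normalizer (V : Set G)) <
          Nat.card ↥((S : Subgroup G) ⊓
            normalizer ((Cfsg.thompsonSubgroupAOf T : Subgroup G) : Set G)) := by
        refine hcardle.trans_lt ((Solvable.card_lt_of_lt
          (lt_inf_normalizer S.2 (lt_of_le_of_ne inf_le_left hTS))).trans_le ?_)
        exact card_le_of_le (inf_le_inf_left _ ((jkind_abelian (p := p)).normalizer_le T))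
      have hxJ : x ∈ Cfsg.thompsonSubgroupAOf T := center_mem_thompsonA hxT hxcT
      exact mul_inv_eq_iff_eq_mul.mp (hP _ hJle (hne _ hJle hbigJ) hlt hbigJ n hn
        (hJle ((mem_normalizer_iff.mp hn x).mp hxJ)))
    have hE : WCExtra p G T x := by
      rcases h.extra with h' | ⟨z, hz, hzp⟩ | h'
      · exact Or.inl h'
      · exact Or.inr (Or.inl ⟨z, ⟨⟨hz.1, centralizer_le_normalizer _ (centralizer_le hk hz.2)⟩,
          centralizer_le inf_le_left hz.2⟩, hzp⟩)
      · exact Or.inr (Or.inr h')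
    have hwc := wc_sub ih (hproper V' hk hbig') hTsyl hxT hfix hE
    intro n hn hnx
    have hn' : k * n * k⁻¹ ∈ normalizer (V' : Set G) := by
      rw [hV', ← cj_normalizer]
      exact conj_mem_cj hn
    have he : k * n * k⁻¹ * x * (k * n * k⁻¹)⁻¹ = k * (n * x * n⁻¹) * k⁻¹ := by
      nth_rewrite 1 [← hkx]
      group
    have hy2 : n * x * n⁻¹ ∈ normalizer (V : Set G) :=
      mul_mem (mul_mem hn (hxNV V hV).2) (inv_mem hn)
    have hy : n * x * n⁻¹ ∈ (S : Subgroup G) ⊓ normalizer (V : Set G) := ⟨hnx, hy2⟩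
    have h1 := hwc _ hn' (by
      rw [he]
      refine ⟨hkN (conj_mem_cj hy), ?_⟩
      show k * (n * x * n⁻¹) * k⁻¹ ∈ normalizer (V' : Set G)
      rw [hV', ← cj_normalizer]
      exact conj_mem_cj hy.2)
    rw [he] at h1
    nth_rewrite 2 [← hkx] at h1
    exact mul_left_cancel (mul_right_cancel h1)

/-- The critical configuration: `x` is central. -/
theorem wc_critical (ih : WCBelow.{u} p (Nat.card G)) (S : Sylow p G) {x : G}
    (h : WCHyp p G (S : Subgroup G) x)
    (hpow : ∀ g : G, g * x ^ p * g⁻¹ ∈ (S : Subgroup G) → g * x ^ p * g⁻¹ = x ^ p)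
    (hWn : (((S : Subgroup G) ⊓ centralizer (Cfsg.pCore p G : Set G)) : Subgroup G).Normal) :
    x ∈ center G := by
  classical
  have hxc := h.centralizes
  set P0 := Cfsg.pCore p G with hP0
  have hP0S : P0 ≤ (S : Subgroup G) := pCore_le_sylow S
  set V := (S : Subgroup G) ⊓ centralizer (P0 : Set G) with hVdef
  haveI : V.Normal := hWn
  have hVS : V ≤ (S : Subgroup G) := inf_le_left
  have hVP0 : V ≤ P0 := Solvable.le_pCore p hWn (S.2.to_le inf_le_left)
  have hVc : ∀ v ∈ V, ∀ w ∈ V, v * w = w * v := fun v hv w hw =>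
    mem_centralizer_iff.mp hw.2 v (hVP0 hv)
  have hxV : x ∈ V := ⟨h.mem, centralizer_le hP0S hxc⟩
  set C' := centralizer (V : Set G) with hC'
  haveI : C'.Normal := Subgroup.normal_centralizer
  have hP0C' : P0 ≤ C' := fun y hy => mem_centralizer_iff.mpr fun v hv =>
    (mem_centralizer_iff.mp hv.2 y hy).symm
  have hC'x : ∀ c ∈ C', c * x = x * c := fun c hc => (mem_centralizer_iff.mp hc x hxV).symm
  have hconj : ∀ g : G, g * x * g⁻¹ ∈ V := fun g => hWn.conj_mem x hxV g
  have hover : ∀ M : Subgroup G, M ≠ ⊤ → (S : Subgroup G) ≤ M → ∀ m ∈ M, m * x = x * m :=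
    fun M hM hSM m hm =>
      mul_inv_eq_iff_eq_mul.mp (wc_over ih S h hM hSM m hm (hVS (hconj m)))
  have hStop := isSylowIn_top S
  have hSnorm : ∀ N : Subgroup G, N.Normal →
      (S : Subgroup G) ≤ normalizer (((S : Subgroup G) ⊓ N : Subgroup G) : Set G) := fun N hN s hs =>
    mem_normalizer_iff_cj.mpr (by
      rw [cj_inf, cj_eq_self_of_mem hs,
        show s ⋆ N = N from mem_normalizer_iff_cj.mp (by rw [normalizer_eq_top]; exact mem_top s)])
  suffices hsuff : x ∉ center G → False by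
    by_contra hx
    exact hsuff hx
  intro hx0
  set Q : Subgroup G → Prop := fun A => IsMulCommutative A with hQ
  obtain ⟨A1, hA1⟩ := exists_fam (admissible_abelian (G := G)) (S : Subgroup G)
  -- some member of largest order does not centralize `V`
  obtain ⟨A2, hA2, hA2C⟩ : ∃ A ∈ fam Q (S : Subgroup G), ¬ A ≤ C' := by
    by_contra hcon
    push Not at hcon
    set W := (S : Subgroup G) ⊓ C' with hW
    have heq : fam Q (S : Subgroup G) = fam Q W := by
      ext A
      refine ⟨fun hA => ⟨hA.1, le_inf hA.2.1 (hcon A hA), fun B hB hBW =>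
        hA.2.2 B hB (hBW.trans inf_le_left)⟩, fun hA => ⟨hA.1, hA.2.1.trans inf_le_left,
        fun B hB hBS => (hA1.2.2 B hB hBS).trans (hA.2.2 A1 hA1.1 (le_inf hA1.2.1 (hcon A1 hA1)))⟩⟩
    refine hx0 (mem_center_iff.mpr fun g => ?_)
    obtain ⟨c, hc, n, hn, rfl⟩ := hStop.frattini (le_top : C' ≤ ⊤)
      (by rw [normalizer_eq_top]) (mem_top g)
    have hn' : n ∈ normalizer ((Cfsg.thompsonSubgroupAOf (S : Subgroup G) : Subgroup G) : Set G) := by
      rw [thompsonSubgroupAOf_eq_fam, heq, ← thompsonSubgroupAOf_eq_fam]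
      exact (jkind_abelian (p := p)).normalizer_le W hn.2
    rw [mul_assoc, h.fix n hn', ← mul_assoc, hC'x c hc, mul_assoc]
  -- fusion of subgroups containing such a member
  set Big : Subgroup G → Prop := fun U =>
    ∃ A : Subgroup G, Q A ∧ A ≤ U ∧ Nat.card A = Nat.card A1 ∧ ¬ A ≤ C' with hBig
  have hfam_card : ∀ A ∈ fam Q (S : Subgroup G), Nat.card A = Nat.card A1 := fun A hA =>
    le_antisymm (hA1.2.2 A hA.1 hA.2.1) (hA.2.2 A1 hA1.1 hA1.2.1)
  have hfix := fix_of_big ih S h Big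
    (fun A B hAB _ ⟨A', hq, hle, hr⟩ => ⟨A', hq, hle.trans hAB, hr⟩)
    (fun A g _ _ ⟨A', hq, hle, hcard, hn⟩ => ⟨g ⋆ A', (isMulCommutative_map_iff _
      (MulAut.conj g).injective A').mpr hq, cj_mono g hle, by rw [card_cj, hcard], fun hc => hn
        (cj_le_cj_iff.mp (hc.trans (mem_normalizer_iff_cj.mp
          (by rw [normalizer_eq_top]; exact mem_top g)).ge))⟩)
    (fun T hT ⟨A', hq, hle, hcard, hn⟩ => ⟨A', hq, by
      rw [thompsonSubgroupAOf_eq_fam]
      exact le_sSup ⟨hq, hle, fun B hB hBT => hcard.symm ▸ hA1.2.2 B hB (hBT.trans hT)⟩, hcard, hn⟩)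
    (fun U hU ⟨A', hq, hle, hcard, hn⟩ htop => hn (hle.trans ((Solvable.le_pCore p
      (normalizer_eq_top_iff.mp htop) (S.2.to_le hU)).trans hP0C')))
  -- a member meeting `V` largely
  obtain ⟨A, ⟨hA, hAC⟩, hAmax⟩ := Set.exists_max_image
    {A : Subgroup G | A ∈ fam Q (S : Subgroup G) ∧ ¬ A ≤ C'} (fun A => Nat.card ↥(A ⊓ V))
    (Set.toFinite _) ⟨A2, hA2, hA2C⟩
  have hAc : ∀ a ∈ A, ∀ b ∈ A, a * b = b * a := fun a ha b hb =>
    congrArg Subtype.val (hA.1.is_comm.comm ⟨a, ha⟩ ⟨b, hb⟩)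
  have hVmc : IsMulCommutative V := ⟨⟨fun v w => Subtype.ext (hVc v v.2 w w.2)⟩⟩
  have hVA : V ≤ normalizer (A : Set G) := by
    by_contra hnot
    have hVV : ⁅V, V⁆ ≤ A := by
      refine le_trans (le_of_eq ?_) bot_le
      exact commutator_eq_bot_iff_le_centralizer.mpr (le_centralizer_iff_isMulCommutative.mpr hVmc)
    obtain ⟨b, R, hb, hbA⟩ := exists_replacement_in (S.2.to_le (sup_le hA.2.1 hVS)) hA.1 hVV
      (by rw [normalizer_eq_top (H := V)]; exact le_top) hnot
    have hreplS : repl A b ≤ S := (repl_le_sup A b).trans (sup_le hA.2.1 (by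
      rintro _ ⟨a, ha, rfl⟩
      exact mul_mem (mul_mem (inv_mem (hVS hb)) (hA.2.1 ha)) (inv_mem (inv_mem (hVS hb)))))
    have hA' : repl A b ∈ fam Q (S : Subgroup G) :=
      ⟨R.isMulCommutative_repl (Or.inr hVmc), hreplS,
        fun B hB hBS => (R.card_repl (Or.inr hVmc)).symm ▸ hA.2.2 B hB hBS⟩
    have hA'C : repl A b ≤ C' := by
      by_contra hn
      exact absurd (hAmax _ ⟨hA', hn⟩) (not_le.mpr (Solvable.card_lt_of_lt (R.inf_lt hbA)))
    refine hnot (le_trans ?_ R.repl_le_normalizer)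
    have hM : IsMulCommutative ↥(closure ((repl A b : Set G) ∪ V) : Subgroup G) := by
      refine Subgroup.isMulCommutative_closure ?_
      rintro y (hy | hy) w (hw | hw)
      · exact congrArg Subtype.val (hA'.1.is_comm.comm ⟨y, hy⟩ ⟨w, hw⟩)
      · exact (mem_centralizer_iff.mp (hA'C hy) w hw).symm
      · exact mem_centralizer_iff.mp (hA'C hw) y hy
      · exact hVc y hy w hw
    have hle : closure ((repl A b : Set G) ∪ V) ≤ (S : Subgroup G) :=
      (closure_le _).mpr (Set.union_subset hreplS hVS)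
    rw [Solvable.eq_of_le_of_card_le (show repl A b ≤ closure ((repl A b : Set G) ∪ V) from
      fun y hy => subset_closure (Or.inl hy)) (hA'.2.2 _ hM hle)]
    exact fun y hy => subset_closure (Or.inr hy)
  have hquad : ∀ a ∈ A, ∀ v ∈ V, a * v * a⁻¹ * v⁻¹ ∈ A := fun a ha v hv => by
    rw [show a * v * a⁻¹ * v⁻¹ = a * (v * a⁻¹ * v⁻¹) by group]
    exact mul_mem ha ((mem_normalizer_iff.mp (hVA hv) _).mp (inv_mem ha))
  have hxA : x ∈ A := center_mem_fam hA h.mem hxc
  -- no 2-core, or no `p`-core, modulo the centralizer of `V`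
  have hcore : Cfsg.pCore p (G ⧸ C') = ⊥ := by
    set π := QuotientGroup.mk' C' with hπ
    set D := (Cfsg.pCore p (G ⧸ C')).comap π with hD
    set W := (S : Subgroup G) ⊓ D with hW
    have hWD : IsSylowIn p W D := hStop.inf_normal le_top (by rw [normalizer_eq_top])
    have hmap : D.map π = W.map π := by
      have h1 := hWD.map π
      refine (h1.eq_of_le ?_ le_rfl h1.le).symm
      rw [hD, map_comap_eq_self_of_surjective (QuotientGroup.mk'_surjective C')]
      exact Solvable.isPGroup_pCore p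
    by_cases hWn' : normalizer (W : Set G) = ⊤
    · have hWC : W ≤ C' := (Solvable.le_pCore p (normalizer_eq_top_iff.mp hWn')
        (S.2.to_le inf_le_left)).trans hP0C'
      rw [← map_comap_eq_self_of_surjective (QuotientGroup.mk'_surjective C')
        (Cfsg.pCore p (G ⧸ C')), ← hπ, ← hD, hmap, Subgroup.map_eq_bot_iff, hπ, QuotientGroup.ker_mk']
      exact hWC
    exfalso
    refine hx0 (mem_center_iff.mpr fun g => ?_)
    obtain ⟨d, hd, n, hn, rfl⟩ := hStop.frattini (le_top : D ≤ ⊤)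
      (by rw [normalizer_eq_top]) (mem_top g)
    obtain ⟨w, hw, hwd⟩ : π d ∈ W.map π := hmap ▸ mem_map_of_mem π hd
    have hwd' : w⁻¹ * d ∈ C' := (QuotientGroup.eq_one_iff _).mp (by
      show π (w⁻¹ * d) = 1
      rw [map_mul, map_inv, hwd, inv_mul_cancel])
    have hdx : d * x = x * d := by
      rw [show d = w * (w⁻¹ * d) by group, mul_assoc, hC'x _ hwd', ← mul_assoc,
        mem_centralizer_iff.mp hxc w hw.1, mul_assoc]
    rw [mul_assoc, hover _ hWn' (hSnorm D inferInstance) n hn.2, ← mul_assoc, hdx, mul_assoc]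
  -- the product of the conjugates
  letI : CommGroup V :=
    { (inferInstance : Group V) with mul_comm := fun a b => Subtype.ext (hVc a a.2 b b.2) }
  letI : CommGroup A :=
    { (inferInstance : Group A) with mul_comm := fun a b => Subtype.ext (hAc a a.2 b b.2) }
  set K := (center G).subgroupOf V with hK
  set π' : V →* V ⧸ K := QuotientGroup.mk' K with hπ'
  set cv : G ⧸ (S : Subgroup G) → V := fun q => ⟨q.out * x * q.out⁻¹, hconj _⟩ with hcv
  have hval : ∀ g : G, cv (g : G ⧸ (S : Subgroup G)) = ⟨g * x * g⁻¹, hconj g⟩ := by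
    intro g
    obtain ⟨s, hs⟩ := QuotientGroup.mk_out_eq_mul (S : Subgroup G) g
    refine Subtype.ext ?_
    show (g : G ⧸ (S : Subgroup G)).out * x * (g : G ⧸ (S : Subgroup G)).out⁻¹ = g * x * g⁻¹
    rw [hs, show g * (s : G) * x * (g * s)⁻¹ = g * ((s : G) * x * (s : G)⁻¹) * g⁻¹ by group,
      mem_centralizer_iff.mp hxc s s.2, mul_inv_cancel_right]
  haveI : Fintype (G ⧸ (S : Subgroup G)) := Fintype.ofFinite _
  have hcen : ((∏ q, cv q : V) : G) ∈ center G := by
    refine mem_center_iff.mpr fun g => mul_inv_eq_iff_eq_mul.mp ?_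
    rw [← MulAut.conjNormal_apply]
    refine congrArg Subtype.val ?_
    rw [map_prod]
    refine Fintype.prod_equiv (MulAction.toPerm g) _ _ fun q => ?_
    induction q using QuotientGroup.induction_on with
    | _ k =>
      show MulAut.conjNormal g (cv k) = cv (g • (k : G ⧸ (S : Subgroup G)))
      rw [MulAction.Quotient.smul_coe, smul_eq_mul, hval, hval]
      refine Subtype.ext ?_
      rw [MulAut.conjNormal_apply]
      group
  have hcp : ∀ g : G, (g * x * g⁻¹) ^ p = x ^ p ∧ x ^ p ∈ center G := fun g => by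
    have hc : ∀ g : G, g * x ^ p * g⁻¹ = x ^ p := fun g =>
      hpow g (hVS (hWn.conj_mem _ (pow_mem hxV p) g))
    exact ⟨by rw [conj_pow, hc], mem_center_iff.mpr fun g => mul_inv_eq_iff_eq_mul.mp (hc g)⟩
  have hπone : ∀ v : V, (v : G) ∈ center G → π' v = 1 := fun v hv =>
    (QuotientGroup.eq_one_iff v).mpr hv
  have hprod := prod_eq_pow_fixedPoints (p := p) (A := A) (S.2.to_le hA.2.1)
    (fun q => π' (cv q)) (π' ⟨x, hxV⟩) ?_ ?_
  · rw [← map_prod, hπone _ hcen] at hprod
    have hN : ¬ p ∣ Nat.card (MulAction.fixedPoints A (G ⧸ (S : Subgroup G))) := fun hdvd => by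
      refine S.not_dvd_index ?_
      rw [index_eq_card]
      exact ((S.2.to_le hA.2.1).card_modEq_card_fixedPoints (G ⧸ (S : Subgroup G))).dvd_iff
        dvd_rfl |>.mpr hdvd
    obtain ⟨e, he⟩ := S.2 ⟨x, h.mem⟩
    have he' : π' ⟨x, hxV⟩ ^ p ^ e = 1 := by
      rw [← map_pow, show (⟨x, hxV⟩ : V) ^ p ^ e = 1 from
        Subtype.ext (by simpa using congrArg Subtype.val he), map_one]
    have h1 : π' ⟨x, hxV⟩ = 1 := orderOf_eq_one_iff.mp (Nat.eq_one_of_dvd_coprimes
      (((Fact.out : p.Prime).coprime_iff_not_dvd.mpr hN).pow_left e)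
      (orderOf_dvd_of_pow_eq_one he') (orderOf_dvd_of_pow_eq_one hprod.symm))
    exact hx0 ((QuotientGroup.eq_one_iff (⟨x, hxV⟩ : V)).mp h1)
  · intro q hq
    induction q using QuotientGroup.induction_on with
    | _ g =>
      refine congrArg π' ?_
      rw [hval]
      refine Subtype.ext ?_
      have hgA : g⁻¹ ⋆ A ≤ (S : Subgroup G) := cj_le_iff.mpr fun a ha => by
        have h1 : ((a * g : G) : G ⧸ (S : Subgroup G)) = g := hq ⟨a, ha⟩
        have h2 := inv_mem (QuotientGroup.eq.mp h1)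
        simpa [mul_assoc] using h2
      have h3 := hfix A g⁻¹ hA.2.1 hgA ⟨A, hA.1, le_rfl, hfam_card A hA, hAC⟩ (Or.inl hxA)
      show g * x * g⁻¹ = x
      nth_rewrite 1 [← h3]
      group
  intro q hq
  induction q using QuotientGroup.induction_on with
  | _ g =>
  set v := g * x * g⁻¹ with hv
  have hvV : v ∈ V := hconj g
  refine ⟨?_, MonoidHom.mk' (fun a : A => π' ⟨(a : G) * v * (a : G)⁻¹ * v⁻¹,
    mul_mem (hWn.conj_mem v hvV a) (inv_mem hvV)⟩) (fun a b => ?_), fun a => ?_, fun a => ?_, ?_⟩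
  · rw [hval, ← map_pow]
    exact hπone _ (by
      show v ^ p ∈ center G
      rw [(hcp g).1]; exact (hcp g).2)
  · rw [← map_mul]
    refine congrArg π' (Subtype.ext ?_)
    show ((a : G) * b) * v * ((a : G) * b)⁻¹ * v⁻¹ =
      ((a : G) * v * (a : G)⁻¹ * v⁻¹) * ((b : G) * v * (b : G)⁻¹ * v⁻¹)
    have hb : (a : G) * ((b : G) * v * (b : G)⁻¹ * v⁻¹) * (a : G)⁻¹ =
        (b : G) * v * (b : G)⁻¹ * v⁻¹ := by
      rw [hAc a a.2 _ (hquad b b.2 v hvV), mul_inv_cancel_right]
    calc ((a : G) * b) * v * ((a : G) * b)⁻¹ * v⁻¹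
        = ((a : G) * ((b : G) * v * (b : G)⁻¹ * v⁻¹) * (a : G)⁻¹) *
          ((a : G) * v * (a : G)⁻¹ * v⁻¹) := by group
      _ = _ := by
        rw [hb]
        exact hVc _ (mul_mem (hWn.conj_mem v hvV b) (inv_mem hvV)) _
          (mul_mem (hWn.conj_mem v hvV a) (inv_mem hvV))
  · show π' (cv (a • (g : G ⧸ (S : Subgroup G)))) = π' _ * π' (cv g)
    rw [← map_mul, show (a • (g : G ⧸ (S : Subgroup G))) = (((a : G) * g : G) : G ⧸ (S : Subgroup G))
      from rfl, hval, hval]
    refine congrArg π' (Subtype.ext ?_)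
    show (a : G) * g * x * ((a : G) * g)⁻¹ = (a : G) * v * (a : G)⁻¹ * v⁻¹ * v
    rw [hv]; group
  · show π' _ ^ p = 1
    rw [← map_pow]
    refine hπone _ ?_
    show ((a : G) * v * (a : G)⁻¹ * v⁻¹) ^ p ∈ center G
    rw [(show Commute ((a : G) * v * (a : G)⁻¹) v⁻¹ from
        hVc _ (hWn.conj_mem v hvV a) _ (inv_mem hvV)).mul_pow, inv_pow, (hcp g).1,
      show (a : G) * v * (a : G)⁻¹ = ((a : G) * g) * x * ((a : G) * g)⁻¹ by rw [hv]; group,
      (hcp _).1, mul_inv_cancel]
    exact one_mem _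
  set St := MulAction.stabilizer A (g : G ⧸ (S : Subgroup G)) with hSt
  by_cases hp : p ≠ 2
  · exact Or.inl hp
  by_cases h4 : p ^ 2 ∣ St.index
  · exact Or.inr (Or.inl h4)
  refine Or.inr (Or.inr fun a => ?_)
  show π' _ = 1
  refine hπone _ ?_
  show (a : G) * v * (a : G)⁻¹ * v⁻¹ ∈ center G
  suffices hav : (a : G) * v * (a : G)⁻¹ = v by rw [hav, mul_inv_cancel]; exact one_mem _
  have hp2 : p = 2 := not_not.mp hp
  subst hp2
  have hindex : St.index = 2 := by
    obtain ⟨i, hi⟩ := ((S.2.to_le hA.2.1).to_quotient St).exists_card_eq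
    rw [index_eq_card, hi] at h4 ⊢
    rcases i with _ | _ | i
    · exfalso
      refine hq fun b => MulAction.mem_stabilizer_iff.mp ?_
      have : St = ⊤ := by rw [← index_eq_one, index_eq_card, hi, pow_zero]
      rw [← hSt, this]; exact mem_top b
    · exact pow_one 2
    · exact absurd (pow_dvd_pow 2 (by omega)) h4
  set A0 := A ⊓ g ⋆ (S : Subgroup G) with hA0
  have hmemA0 : ∀ b : A, b ∈ St ↔ (b : G) ∈ A0 := fun b => by
    rw [hSt, MulAction.mem_stabilizer_iff,
      show b • (g : G ⧸ (S : Subgroup G)) = (((b : G) * g : G) : G ⧸ (S : Subgroup G)) from rfl,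
      eq_comm, QuotientGroup.eq, hA0]
    refine ⟨fun hb => ⟨b.2, mem_cj.mpr (by rwa [mul_assoc])⟩, fun hb => ?_⟩
    have := mem_cj.mp hb.2
    rwa [mul_assoc] at this
  have hA0fix : ∀ y ∈ centralizer ((S : Subgroup G) : Set G), ∀ b ∈ A0,
      b * (g * y * g⁻¹) * b⁻¹ = g * y * g⁻¹ := by
    intro y hy b hb
    have hb' := mem_cj.mp hb.2
    calc b * (g * y * g⁻¹) * b⁻¹ = g * ((g⁻¹ * b * g) * y * (g⁻¹ * b * g)⁻¹) * g⁻¹ := by group
      _ = g * y * g⁻¹ := by rw [mem_centralizer_iff.mp hy _ hb', mul_inv_cancel_right]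
  by_cases haSt : a ∈ St
  · exact hA0fix x hxc a ((hmemA0 a).mp haSt)
  have ha2 : (a : G) * a ∈ A0 := (hmemA0 (a * a)).mp (mul_self_mem_of_index_two hindex a)
  by_contra hav
  rcases h.extra with hp' | ⟨z, hz, hzp⟩ | hfree
  · exact hp' rfl
  · -- a square of a central element
    have hzV : z ∈ V := ⟨hz.1, centralizer_le hP0S hz.2⟩
    set u := g * z * g⁻¹ with hu
    have huV : u ∈ V := hWn.conj_mem z hzV g
    set e := (a : G) * u * (a : G)⁻¹ * u⁻¹ with he
    have heV : e ∈ V := mul_mem (hWn.conj_mem u huV a) (inv_mem huV)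
    have hae : (a : G) * e * (a : G)⁻¹ = e := by
      rw [hAc a a.2 e (hquad a a.2 u huV), mul_inv_cancel_right]
    have h2 := hA0fix z hz.2 _ ha2
    have hee : e * e = 1 := by
      rw [show (a : G) * a * (g * z * g⁻¹) * ((a : G) * a)⁻¹ =
        (a : G) * ((a : G) * u * (a : G)⁻¹) * (a : G)⁻¹ by rw [hu]; group,
        show (a : G) * u * (a : G)⁻¹ = e * u by rw [he]; group,
        show (a : G) * (e * u) * (a : G)⁻¹ = ((a : G) * e * (a : G)⁻¹) * ((a : G) * u * (a : G)⁻¹)
          by group, hae, show (a : G) * u * (a : G)⁻¹ = e * u by rw [he]; group, ← hu, ← mul_assoc,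
        mul_eq_right] at h2
      exact h2
    refine hav ?_
    have hv2 : v = u ^ 2 := by rw [hv, hu, conj_pow, hzp]
    rw [hv2, ← conj_pow, show (a : G) * u * (a : G)⁻¹ = e * u by rw [he]; group,
      (show Commute e u from hVc e heV u huV).mul_pow, pow_two e, hee, one_mul]
  · -- no section isomorphic to the symmetric group of degree 4
    set B := V ⊓ centralizer (A0 : Set G) with hB
    have hA0A : A0 ≤ A := inf_le_left
    have hA0S : A0 ≤ (S : Subgroup G) := hA0A.trans hA.2.1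
    have hvB : v ∈ B := ⟨hvV, mem_centralizer_iff.mpr fun b hb =>
      mul_inv_eq_iff_eq_mul.mp (hA0fix x hxc b hb)⟩
    have hVg : V ≤ g ⋆ (S : Subgroup G) := fun w hw => mem_cj.mpr
      (hVS (by simpa [mul_assoc] using hWn.conj_mem w hw g⁻¹))
    have hAVA0 : A ⊓ V ≤ A0 := le_inf inf_le_left (inf_le_right.trans hVg)
    have hAVB : A ⊓ V ≤ B := fun w hw =>
      ⟨hw.2, mem_centralizer_iff.mpr fun b hb => hAc b (hA0A hb) w hw.1⟩
    have hinf : A0 ⊓ B = A ⊓ V :=
      le_antisymm (inf_le_inf hA0A inf_le_left) (le_inf hAVA0 hAVB)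
    have hvA : v ∉ A := fun hvA => hav (by rw [hAc a a.2 v hvA, mul_inv_cancel_right])
    have h2B : 2 * Nat.card ↥(A ⊓ V) ≤ Nat.card B := by
      obtain ⟨c, hc⟩ := card_dvd_of_le hAVB
      have hlt := Solvable.card_lt_of_lt (lt_of_le_of_ne hAVB fun he => hvA (he.symm ▸ hvB).1)
      rw [hc] at hlt ⊢
      rcases c with _ | _ | c
      · simp at hlt
      · simp at hlt
      · rw [mul_comm 2]; exact Nat.mul_le_mul_left _ (by omega)
    set As := A0 ⊔ B with hAs
    have hsup := Solvable.card_sup_mul_card_inf (A := A0) (K := B) (fun b hb => by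
      refine centralizer_le_normalizer _ (mem_centralizer_iff.mpr fun w hw => ?_)
      exact (mem_centralizer_iff.mp hw.2 b hb).symm)
    rw [hinf] at hsup
    have hAsc : IsMulCommutative As := by
      rw [hAs, sup_eq_closure]
      refine Subgroup.isMulCommutative_closure ?_
      rintro y (hy | hy) w (hw | hw)
      · exact hAc y (hA0A hy) w (hA0A hw)
      · exact mem_centralizer_iff.mp hw.2 y hy
      · exact (mem_centralizer_iff.mp hy.2 w hw).symm
      · exact hVc y hy.1 w hw.1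
    have hAsS : As ≤ (S : Subgroup G) := sup_le hA0S (inf_le_left.trans hVS)
    have hAsle : Nat.card As ≤ Nat.card A := hA.2.2 As hAsc hAsS
    have hcA : Nat.card A = 2 * Nat.card A0 := by
      have h1 := St.card_mul_index
      rw [hindex, show St = A0.subgroupOf A from Subgroup.ext fun b => hmemA0 b,
        Nat.card_congr (subgroupOfEquivOfLe hA0A).toEquiv] at h1
      rw [← h1, mul_comm]
    have hBle : Nat.card B ≤ 2 * Nat.card ↥(A ⊓ V) := by
      refine Nat.le_of_mul_le_mul_left ?_ (Nat.card_pos (α := A0))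
      rw [← hsup, ← mul_assoc, mul_comm (Nat.card A0) 2, ← hcA]
      exact Nat.mul_le_mul_right _ hAsle
    have hAs_eq : Nat.card As = Nat.card A := by
      refine le_antisymm hAsle (Nat.le_of_mul_le_mul_right ?_ (Nat.card_pos (α := ↥(A ⊓ V))))
      rw [hsup, hcA, mul_comm 2, mul_assoc]
      exact Nat.mul_le_mul_left _ h2B
    have hA0C : A0 ≤ C' := by
      by_contra hn
      have hg : g⁻¹ ⋆ As ≤ (S : Subgroup G) := by
        rw [cj_le_iff', inv_inv]
        exact sup_le inf_le_right (inf_le_left.trans hVg)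
      have hxAs : x ∈ As := mem_sup_right ⟨hxV, centralizer_le hA0S hxc⟩
      have h3 := hfix As g⁻¹ hAsS hg ⟨As, hAsc, le_rfl, by rw [hAs_eq, hfam_card A hA],
        fun hc => hn (le_sup_left.trans hc)⟩ (Or.inl hxAs)
      have hvx : v = x := by
        rw [hv]
        nth_rewrite 1 [← h3]
        group
      exact hvA (hvx ▸ hxA)
    have hBV : B = V := inf_eq_left.mpr fun w hw => mem_centralizer_iff.mpr fun b hb =>
      (mem_centralizer_iff.mp (hA0C hb) w hw).symm
    rw [hBV] at h2B hBle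
    have hindexV : ((A ⊓ V).subgroupOf V).index = 2 := by
      have h1 := ((A ⊓ V).subgroupOf V).card_mul_index
      rw [Nat.card_congr (subgroupOfEquivOfLe (inf_le_right : A ⊓ V ≤ V)).toEquiv,
        le_antisymm hBle h2B, mul_comm 2] at h1
      exact Nat.eq_of_mul_eq_mul_left Nat.card_pos h1
    set w0 := (a : G) * v * (a : G)⁻¹ * v⁻¹ with hw0
    have hw0V : w0 ∈ V := mul_mem (hWn.conj_mem v hvV a) (inv_mem hvV)
    have haw : (a : G) * w0 * (a : G)⁻¹ = w0 := by
      rw [hAc a a.2 w0 (hquad a a.2 v hvV), mul_inv_cancel_right]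
    have hav' : (a : G) * v * (a : G)⁻¹ = w0 * v := by rw [hw0]; group
    have hw2 : w0 * w0 = 1 := by
      have h1 := hA0fix x hxc _ ha2
      rw [← hv, show (a : G) * a * v * ((a : G) * a)⁻¹ =
        (a : G) * ((a : G) * v * (a : G)⁻¹) * (a : G)⁻¹ by group, hav',
        show (a : G) * (w0 * v) * (a : G)⁻¹ = ((a : G) * w0 * (a : G)⁻¹) * ((a : G) * v * (a : G)⁻¹)
          by group, haw, hav', ← mul_assoc, mul_eq_right] at h1
      exact h1
    refine hfree (involves_s4_of_transvection V hVc hcore (a := (a : G)) (fun hc => hav ?_) hw0V hw2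
      haw fun w hw => ?_)
    · rw [← mem_centralizer_iff.mp hc v hvV, mul_inv_cancel_right]
    by_cases hwA : w ∈ A
    · exact Or.inl (by rw [hAc a a.2 w hwA, mul_inv_cancel_right])
    refine Or.inr ?_
    have hwv : w * v ∈ A := by
      have h1 : (⟨w, hw⟩ : V) * ⟨v, hvV⟩ ∈ (A ⊓ V).subgroupOf V :=
        (mul_mem_iff_of_index_two hindexV).mpr
          ⟨fun h' => absurd (mem_subgroupOf.mp h').1 hwA, fun h' => absurd (mem_subgroupOf.mp h').1 hvA⟩
      exact (mem_subgroupOf.mp h1).1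
    have h1 : (a : G) * (w * v) * (a : G)⁻¹ = w * v := by
      rw [hAc a a.2 _ hwv, mul_inv_cancel_right]
    have hw0inv : w0⁻¹ = w0 := inv_eq_of_mul_eq_one_right hw2
    rw [show (a : G) * (w * v) * (a : G)⁻¹ = ((a : G) * w * (a : G)⁻¹) * ((a : G) * v * (a : G)⁻¹)
      by group, hav', ← mul_assoc, mul_left_inj, ← eq_mul_inv_iff_mul_eq, hw0inv] at h1
    exact h1

/-- The inductive step. -/
theorem wc_step (ih : WCBelow.{u} p (Nat.card G)) (S : Sylow p G) {x : G}
    (h : WCHyp p G (S : Subgroup G) x)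
    (hpow : ∀ g : G, g * x ^ p * g⁻¹ ∈ (S : Subgroup G) → g * x ^ p * g⁻¹ = x ^ p) :
    ∀ g : G, g * x * g⁻¹ ∈ (S : Subgroup G) → g * x * g⁻¹ = x := by
  classical
  have hxc := h.centralizes
  intro g hg
  by_cases hx1 : x = 1
  · rw [hx1]; group
  set P0 := Cfsg.pCore p G with hP0
  have hP0S : P0 ≤ (S : Subgroup G) := pCore_le_sylow S
  by_cases hP0b : P0 = ⊥
  · refine fix_of_big ih S h (fun A => A ≠ ⊥) (fun A B hAB _ hA hB => hA (le_bot_iff.mp (hB ▸ hAB)))
      (fun A k _ _ hA hk => hA (cj_eq_bot_iff.mp hk))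
      (fun T hT hTb => (jkind_abelian (p := p)).ne_bot (S.2.to_le hT) hTb)
      (fun U hU hUb htop => hUb (le_bot_iff.mp (hP0b ▸ Solvable.le_pCore p
        (normalizer_eq_top_iff.mp htop) (S.2.to_le hU))))
      (zpowers x) g (zpowers_le.mpr h.mem) ?_ (fun hb => hx1 (zpowers_eq_bot.mp hb))
      (Or.inl (mem_zpowers x))
    rw [MonoidHom.map_zpowers]
    exact zpowers_le.mpr hg
  set C := centralizer (P0 : Set G) with hC
  haveI : C.Normal := Subgroup.normal_centralizer
  set W := (S : Subgroup G) ⊓ C with hW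
  have hxW : x ∈ W := ⟨h.mem, centralizer_le hP0S hxc⟩
  by_cases hWtop : normalizer (W : Set G) = ⊤
  · have := wc_critical ih S h hpow (normalizer_eq_top_iff.mp hWtop)
    rw [mem_center_iff.mp this g, mul_inv_cancel_right]
  have hCS : ∀ k ∈ C ⊔ (S : Subgroup G), ∃ c ∈ C, ∃ s ∈ (S : Subgroup G), c * s = k := by
    intro k hk
    rw [← SetLike.mem_coe, normal_mul] at hk
    exact Set.mem_mul.mp hk
  by_cases hCtop : C ⊔ (S : Subgroup G) = ⊤
  swap
  · obtain ⟨c, hc, n, hn, hcn⟩ := (isSylowIn_top S).frattini (le_top : C ≤ ⊤)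
      (by rw [normalizer_eq_top]) (mem_top g⁻¹)
    have hg' : g = n⁻¹ * c⁻¹ := by rw [← mul_inv_rev, ← hcn, inv_inv]
    have hSW : (S : Subgroup G) ≤ normalizer (W : Set G) := fun s hs =>
      mem_normalizer_iff_cj.mpr (by
        rw [hW, cj_inf, cj_eq_self_of_mem hs,
          show s ⋆ C = C from mem_normalizer_iff_cj.mp (by rw [normalizer_eq_top]; exact mem_top s)])
    have hnx : n⁻¹ * x * n⁻¹⁻¹ = x := wc_over ih S h hWtop hSW _ (inv_mem hn.2)
      ((mem_normalizer_iff.mp (inv_mem hn.2) x).mp hxW).1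
    -- move the factor in the centralizer to the outside
    set d := n⁻¹ * c⁻¹ * n with hd
    have hdC : d ∈ C := by
      rw [hd]
      simpa using (inferInstance : C.Normal).conj_mem c⁻¹ (inv_mem hc) n⁻¹
    have hgd : g * x * g⁻¹ = d * x * d⁻¹ := by
      conv_rhs => rw [← hnx, hd]
      rw [hg']; group
    rw [hgd] at hg ⊢
    exact wc_over ih S h hCtop le_sup_right d (mem_sup_left hdC) hg
  by_cases hxP0 : x ∈ P0
  · obtain ⟨c, hc, s, hs, rfl⟩ := hCS g (hCtop ▸ mem_top g)
    rw [show c * s * x * (c * s)⁻¹ = c * (s * x * s⁻¹) * c⁻¹ by group,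
      mem_centralizer_iff.mp hxc s hs, mul_inv_cancel_right, ← mem_centralizer_iff.mp hc x hxP0,
      mul_inv_cancel_right]
  -- the quotient by the p-core
  set π := QuotientGroup.mk' P0 with hπ
  have hsur : Function.Surjective π := QuotientGroup.mk'_surjective P0
  set Sb : Sylow p (G ⧸ P0) := S.mapSurjective hsur with hSb
  have hSbcoe : (Sb : Subgroup (G ⧸ P0)) = (S : Subgroup G).map π := Sylow.coe_mapSurjective hsur S
  have hback : ∀ y : G, π y ∈ (Sb : Subgroup (G ⧸ P0)) → y ∈ (S : Subgroup G) := by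
    intro y hy
    rw [hSbcoe] at hy
    obtain ⟨s, hs, hsy⟩ := hy
    have h1 : s⁻¹ * y ∈ P0 := (QuotientGroup.eq_one_iff _).mp (by
      show π (s⁻¹ * y) = 1
      rw [map_mul, map_inv, hsy, inv_mul_cancel])
    rw [show y = s * (s⁻¹ * y) by group]
    exact mul_mem hs (hP0S h1)
  have hxbc : π x ∈ (Sb : Subgroup (G ⧸ P0)) ⊓ centralizer ((Sb : Subgroup (G ⧸ P0)) : Set (G ⧸ P0)) := by
    rw [hSbcoe]
    exact map_inf_centralizer_self π _ (mem_map_of_mem π ⟨h.mem, hxc⟩)
  set J := Cfsg.thompsonSubgroupAOf (Sb : Subgroup (G ⧸ P0)) with hJ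
  set M := (normalizer (J : Set (G ⧸ P0))).comap π with hM
  have hxJ : π x ∈ J := center_mem_thompsonA hxbc.1 hxbc.2
  have hJS : J ≤ (Sb : Subgroup (G ⧸ P0)) := (jkind_abelian (p := p)).le _
  have hMtop : M ≠ ⊤ := by
    intro htop
    have hJn : normalizer (J : Set (G ⧸ P0)) = ⊤ := by
      rw [← map_comap_eq_self_of_surjective hsur (normalizer (J : Set (G ⧸ P0))), ← hM, htop]
      exact map_top_of_surjective π hsur
    have h1 : J.comap π ≤ P0 := by
      refine Solvable.le_pCore p ?_ (S.2.to_le fun y hy => hback y (hJS hy))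
      haveI := normalizer_eq_top_iff.mp hJn
      infer_instance
    exact hxP0 (h1 hxJ)
  have hSM : (S : Subgroup G) ≤ M := fun s hs =>
    (jkind_abelian (p := p)).normalizer_le _
      (le_normalizer (hSbcoe ▸ mem_map_of_mem π hs : π s ∈ (Sb : Subgroup (G ⧸ P0))))
  have hhyp : WCHyp p (G ⧸ P0) (Sb : Subgroup (G ⧸ P0)) (π x) := by
    refine ⟨hxbc.1, fun n hn => ?_, ?_⟩
    · obtain ⟨m, rfl⟩ := hsur n
      have hm1 : m * x * m⁻¹ ∈ (S : Subgroup G) := hback _ (hJS (by
        rw [map_mul, map_mul, map_inv]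
        exact (mem_normalizer_iff.mp hn (π x)).mp hxJ))
      rw [← map_mul, ← map_mul, mul_inv_eq_iff_eq_mul.mp (wc_over ih S h hMtop hSM m hn hm1)]
    · rcases h.extra with h' | ⟨z, hz, hzp⟩ | h'
      · exact Or.inl h'
      · refine Or.inr (Or.inl ⟨π z, ?_, by rw [← map_pow, hzp]⟩)
        rw [hSbcoe]
        exact map_inf_centralizer_self π _ (mem_map_of_mem π hz)
      · exact Or.inr (Or.inr fun hi => h' (involves_of_quotient P0 hi))
  have hcard : Nat.card (G ⧸ P0) < Nat.card G := by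
    rw [card_eq_card_quotient_mul_card_subgroup P0]
    exact lt_mul_of_one_lt_right Nat.card_pos ((one_lt_card_iff_ne_bot P0).mpr hP0b)
  obtain ⟨c, hc, s, hs, rfl⟩ := hCS g (hCtop ▸ mem_top g)
  have e : c * s * x * (c * s)⁻¹ = c * x * c⁻¹ := by
    rw [show c * s * x * (c * s)⁻¹ = c * (s * x * s⁻¹) * c⁻¹ by group,
      mem_centralizer_iff.mp hxc s hs, mul_inv_cancel_right]
  rw [e] at hg ⊢
  have hbar : π (c * x * c⁻¹) = π x := by
    have := ih (G ⧸ P0) hcard Sb (π x) hhyp (π c) (by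
      rw [← map_inv, ← map_mul, ← map_mul, hSbcoe]
      exact mem_map_of_mem π hg)
    rwa [← map_inv, ← map_mul, ← map_mul] at this
  set R := P0 ⊔ zpowers x with hR
  have hRS : R ≤ (S : Subgroup G) := sup_le hP0S (zpowers_le.mpr h.mem)
  have hnorm : ∀ b : G, b * x * b⁻¹ ∈ R → b ∈ normalizer (R : Set G) := fun b hb => by
    refine mem_normalizer_iff_cj.mpr (eq_of_le_of_card_le' ?_ (card_cj _ _).ge)
    rw [hR, Subgroup.map_sup, MonoidHom.map_zpowers, show b ⋆ P0 = P0 from
      mem_normalizer_iff_cj.mp (by rw [normalizer_eq_top]; exact mem_top b)]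
    exact sup_le le_sup_left (zpowers_le.mpr hb)
  have hSR : (S : Subgroup G) ≤ normalizer (R : Set G) := fun t ht => hnorm t (by
    rw [mem_centralizer_iff.mp hxc t ht, mul_inv_cancel_right]
    exact mem_sup_right (mem_zpowers x))
  have hRtop : normalizer (R : Set G) ≠ ⊤ := fun htop => hxP0 (Solvable.le_pCore p
    (normalizer_eq_top_iff.mp htop) (S.2.to_le hRS) (mem_sup_right (mem_zpowers x)))
  refine wc_over ih S h hRtop hSR c (hnorm c ?_) hg
  have hu : c * x * c⁻¹ * x⁻¹ ∈ P0 := (QuotientGroup.eq_one_iff _).mp (by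
    show π (c * x * c⁻¹ * x⁻¹) = 1
    rw [map_mul π (c * x * c⁻¹), hbar, map_inv, mul_inv_cancel])
  rw [show c * x * c⁻¹ = c * x * c⁻¹ * x⁻¹ * x by group]
  exact mul_mem (mem_sup_left hu) (mem_sup_right (mem_zpowers x))

end Induction

theorem wcBelow_all : ∀ n : ℕ, WCBelow.{u} p n := by
  intro n
  induction n with
  | zero => intro G _ _ h; omega
  | succ n ih =>
    intro G _ _ hn S x h
    obtain ⟨k, hk⟩ : ∃ k, orderOf x = k := ⟨_, rfl⟩
    induction k using Nat.strong_induction_on generalizing x with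
    | _ k ihk =>
      subst hk
      refine wc_step (fun G' _ _ hG' => ih G' (by omega)) S h ?_
      by_cases hx1 : x = 1
      · intro g _; rw [hx1, one_pow]; group
      have hp := (Fact.out : p.Prime)
      obtain ⟨j, hj⟩ := S.2 ⟨x, h.mem⟩
      obtain ⟨i, -, hi⟩ := (Nat.dvd_prime_pow hp).mp
        (orderOf_dvd_of_pow_eq_one (show x ^ p ^ j = 1 by simpa using congrArg Subtype.val hj))
      have hi0 : i ≠ 0 := fun h0 => hx1 (orderOf_eq_one_iff.mp (by rw [hi, h0, pow_zero]))
      have hlt : orderOf (x ^ p) < orderOf x := by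
        rw [orderOf_pow_of_dvd hp.ne_zero (hi ▸ dvd_pow_self p hi0)]
        exact Nat.div_lt_self (orderOf_pos x) hp.one_lt
      refine ihk _ hlt (x ^ p) ⟨pow_mem h.mem p, fun m hm => ?_, ?_⟩ rfl
      · exact ((show Commute m x from h.fix m hm).pow_right p).eq
      · rcases h.extra with h' | ⟨z, hz, hzp⟩ | h'
        · exact Or.inl h'
        · exact Or.inr (Or.inl ⟨z ^ p, pow_mem hz p, by rw [hzp]⟩)
        · exact Or.inr (Or.inr h')

/-- **Glauberman's theorem**: an element of a Sylow subgroup central in the normalizer of its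
Thompson subgroup is weakly closed, if `p` is odd, the element is a `p`th power of a central element
of the Sylow subgroup, or the symmetric group of degree 4 is not involved. -/
theorem weaklyClosed_of_central_normalizer {G : Type u} [Group G] [Finite G] (S : Sylow p G) {x : G}
    (h : WCHyp p G (S : Subgroup G) x) {g : G} (hg : g * x * g⁻¹ ∈ (S : Subgroup G)) :
    g * x * g⁻¹ = x :=
  wcBelow_all (Nat.card G + 1) G (Nat.lt_succ_self _) S x h g hg

end CfsgLib.ZJ
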