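import Cfsg.Agent.ZJ.StableQuot
import Cfsg.Agent.ZJ.ControlMain

/-!
Control of strong fusion in p-stable groups and in groups with SL₂(p)-free local subgroups.
-/

set_option autoImplicit false

namespace CfsgLib.ZJ

open Subgroup CfsgLib.Functor
open scoped CfsgLib.Functor commutatorElement

universe u

variable {p : ℕ} [Fact p.Prime]

theorem isNormalizerPStable_subgroup {G : Type u} [Group G] [Finite G] (M : Subgroup G)
    (hst : Cfsg.IsNormalizerPStable p G) : Cfsg.IsNormalizerPStable p M := by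
  intro P hP g hg hq
  set Pm := P.map M.subtype with hPm
  have hgN : (g : G) ∈ normalizer (Pm : Set G) :=
    le_normalizer_map M.subtype ⟨g, hg, rfl⟩
  have hq' : ⁅⁅Pm, zpowers (g : G)⁆, zpowers (g : G)⁆ = ⊥ := by
    have e : (zpowers g).map M.subtype = zpowers (g : G) := MonoidHom.map_zpowers M.subtype g
    rw [← e, hPm, ← map_commutator, ← map_commutator, hq, Subgroup.map_bot]
  obtain ⟨D, hD, hgD, hDp⟩ := (pcoreMod_iff _ _).mpr (hst Pm (hP.map _) (g : G) hgN hq')
  refine (pcoreMod_iff _ _).mp ⟨D.comap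
    ((M.subtype.comp (normalizer (P : Set M)).subtype).codRestrict _
      fun x => le_normalizer_map M.subtype ⟨x, x.2, rfl⟩), hD.comap _, hgD, fun x hx => ?_⟩
  obtain ⟨k, hk⟩ := hDp _ hx
  refine ⟨k, mem_subgroupOf.mpr (mem_centralizer_iff.mpr fun y hy => Subtype.ext ?_)⟩
  have h := mem_centralizer_iff.mp (mem_subgroupOf.mp hk) _ ⟨y, hy, rfl⟩
  rw [SubgroupClass.coe_pow] at h
  show (y : G) * (((x : M) ^ p ^ k : M) : G) = (((x : M) ^ p ^ k : M) : G) * (y : G)
  rw [SubgroupClass.coe_pow]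
  exact h

/-- A quadratic element modulo a normal subgroup acted on as a p-group is in the p-core. -/
theorem pcoreMod_of_quadratic_mod {G : Type u} [Group G] [Finite G] (hp : p ≠ 2)
    (hst : Cfsg.IsNormalizerPStable p G) (P0 R : Subgroup G) [P0.Normal] [R.Normal] (hPR : P0 ≤ R)
    (hR : IsPGroup p R) (hpow : ∀ x : G, ∃ j, x ^ p ^ j ∈ centralizer (P0 : Set G)) (g : G)
    (hq : ⁅⁅R, zpowers g⁆, zpowers g⁆ ≤ P0) : PCoreMod p (centralizer (R : Set G)) g := by
  obtain ⟨M, ⟨hMn, hPM, hMR, hgM⟩, hmax⟩ := Set.exists_max_image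
    {M : Subgroup G | M.Normal ∧ P0 ≤ M ∧ M ≤ R ∧ PCoreMod p (centralizer (M : Set G)) g}
    (fun M => Nat.card M) (Set.toFinite _)
    ⟨P0, inferInstance, le_rfl, hPR, ⊤, inferInstance, mem_top g, fun x _ => hpow x⟩
  by_cases hMeq : M = R
  · exact hMeq ▸ hgM
  exfalso
  set π := QuotientGroup.mk' M with hπ
  have hRb : R.map π ≠ ⊥ := fun h => hMeq (le_antisymm hMR (by
    rwa [Subgroup.map_eq_bot_iff, QuotientGroup.ker_mk'] at h))
  haveI : (R.map π).Normal := Normal.map inferInstance _ (QuotientGroup.mk'_surjective M)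
  have hRp : IsPGroup p (R.map π) := hR.map π
  have hsol : Group.IsSolvable (R.map π) := by
    haveI := hRp.isNilpotent
    infer_instance
  obtain ⟨V, hVn, hV1, hVR, hVc, -, q, hq', hVq, -⟩ :=
    Solvable.exists_normal_elementary_le (N := R.map π) hRb hsol
  have hV : Cfsg.IsElementaryAbelian p V := by
    obtain ⟨x, hx, hx1'⟩ := V.bot_or_exists_ne_one.resolve_left hV1
    obtain ⟨k, hk⟩ := (hRp.to_le hVR) ⟨x, hx⟩
    have hk' : x ^ p ^ k = 1 := by simpa using congrArg Subtype.val hk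
    have hqp : q = p := by
      haveI := Fact.mk hq'
      have hd := orderOf_dvd_of_pow_eq_one hk'
      rw [orderOf_eq_prime (hVq x hx) hx1'] at hd
      exact (Nat.prime_dvd_prime_iff_eq hq' Fact.out).mp (hq'.dvd_of_dvd_pow hd)
    exact ⟨hVc, hqp ▸ hVq⟩
  set M' := V.comap π with hM'
  have hMM' : M ≤ M' := fun x hx => by
    rw [hM', mem_comap, show π x = 1 from (QuotientGroup.eq_one_iff x).mpr hx]
    exact V.one_mem
  have hM'R : M' ≤ R := (comap_mono hVR).trans (by
    rw [comap_map_eq, QuotientGroup.ker_mk']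
    exact sup_le le_rfl hMR)
  have hlt : M < M' := lt_of_le_of_ne hMM' fun he => hV1 (by
    rw [← map_comap_eq_self_of_surjective (QuotientGroup.mk'_surjective M) V, ← hπ, ← hM', ← he,
      Subgroup.map_eq_bot_iff, QuotientGroup.ker_mk'])
  have hnot : ¬ PCoreMod p (centralizer (M' : Set G)) g := fun h =>
    absurd (hmax M' ⟨hVn.comap _, hPM.trans hMM', hM'R, h⟩)
      (not_le.mpr (Solvable.card_lt_of_lt hlt))
  obtain ⟨D, hD, hgD, hDp⟩ := hgM
  have hqV : ⁅⁅V, zpowers (π g)⁆, zpowers (π g)⁆ = ⊥ := by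
    refine le_bot_iff.mp ((commutator_mono (commutator_mono hVR le_rfl) le_rfl).trans ?_)
    rw [← MonoidHom.map_zpowers, ← map_commutator, ← map_commutator, map_le_iff_le_comap,
      MonoidHom.comap_bot, QuotientGroup.ker_mk']
    exact hq.trans hPM
  have hH : ∀ x, x ∈ normalizer (V : Set (G ⧸ M)) := fun x => by
    rw [normalizer_eq_top (H := V)]; exact mem_top x
  let ρ : G →* Module.End (ZMod p) (ElabMod V hV) :=
    (conjEnd hV).comp (π.codRestrict _ fun x => hH (π x))
  have hρ : ∀ x, x ∈ ρ.ker → π x ∈ centralizer (V : Set (G ⧸ M)) := fun x hx =>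
    (conjEnd_eq_one_iff hV ⟨π x, hH _⟩).mp hx
  have hn : ¬ PCoreMod p ρ.ker g := by
    rintro ⟨D2, hD2, hgD2, hD2p⟩
    refine hnot ⟨D ⊓ D2, inferInstance, ⟨hgD, hgD2⟩, fun x hx => ?_⟩
    obtain ⟨k1, hk1⟩ := hDp x hx.1
    obtain ⟨k2, hk2⟩ := hD2p x hx.2
    have h2 : π (x ^ p ^ (k1 + k2)) ∈ centralizer (V : Set (G ⧸ M)) := by
      refine hρ _ ?_
      rw [pow_add, mul_comm, pow_mul]
      exact pow_mem hk2 _
    obtain ⟨k, hk⟩ := pow_mem_centralizer_of_step (hR.to_le hMR) (x := x ^ p ^ (k1 + k2))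
      (B := M') (by rw [pow_add, pow_mul]; exact pow_mem hk1 _) (fun u hu => by
        refine (QuotientGroup.eq_one_iff _).mp ?_
        show π (x ^ p ^ (k1 + k2) * u * (x ^ p ^ (k1 + k2))⁻¹ * u⁻¹) = 1
        rw [map_mul, map_mul, map_mul, map_inv, map_inv, ← mem_centralizer_iff.mp h2 _ hu,
          mul_inv_cancel_right, mul_inv_cancel])
    exact ⟨k1 + k2 + k, by rw [pow_add, pow_mul]; exact hk⟩
  obtain ⟨h, v, w, hvw⟩ := exists_plane_of_not_pcoreMod hp ρ g
    (conjEnd_quadratic hV ⟨π g, hH _⟩ hqV) hn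
  set g' := h * g * h⁻¹ with hg'
  set K1 : Subgroup G := closure {g, g'} with hK1
  set σ : K1 →* Module.End (ZMod p) (ElabMod V hV) := ρ.comp K1.subtype with hσ
  let a : K1 := ⟨g, subset_closure (Set.mem_insert _ _)⟩
  let a' : K1 := ⟨g', subset_closure (Set.mem_insert_of_mem _ rfl)⟩
  have hpa : PlaneMat σ v w a (upper 1) := by
    have e : σ a = ρ g := rfl
    simp [PlaneMat, e, hvw.fv, hvw.fw, add_comm]
  have hpa' : PlaneMat σ v w a' (lower (-1)) := by
    have e : σ a' = ρ g' := rfl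
    simp [PlaneMat, e, hvw.fv', hvw.fw', sub_eq_add_neg]
  have hgen : closure ({a, a'} : Set K1) = ⊤ := by
    apply Subgroup.map_injective K1.subtype_injective
    rw [MonoidHom.map_closure, Set.image_pair, ← MonoidHom.range_eq_map, range_subtype]
    rfl
  obtain ⟨φ0, hφ0⟩ := exists_plane_hom σ v w hvw.ind {a, a'} (by
    rintro x (rfl | rfl)
    exacts [⟨_, hpa⟩, ⟨_, hpa'⟩])
  let φ : K1 →* SL2 (ZMod p) :=
    φ0.comp ((MulEquiv.subgroupCongr hgen.symm).toMonoidHom.comp topEquiv.symm.toMonoidHom)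
  have hφ : ∀ x : K1, PlaneMat σ v w x (φ x) := fun x => hφ0 ⟨x, by rw [hgen]; trivial⟩
  have hsurj : Function.Surjective φ := by
    rw [← MonoidHom.range_eq_top]
    apply sl2_zmod_generated
    · exact ⟨a, planeMat_unique σ v w hvw.ind (hφ a) hpa⟩
    · refine ⟨a'⁻¹, ?_⟩
      rw [map_inv, planeMat_unique σ v w hvw.ind (hφ a') hpa']
      exact inv_eq_of_mul_eq_one_right (by rw [lower_mul, neg_add_cancel, lower_zero])
  let ι : Multiplicative (ZMod p × ZMod p) →* G ⧸ M :=
    { toFun := fun x => ((ofVec hV ((Multiplicative.toAdd x).1 • v + (Multiplicative.toAdd x).2 • w) : V) : G ⧸ M)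
      map_one' := by simp [ofVec_zero]
      map_mul' := fun x y => by
        rw [← Subgroup.coe_mul, ← ofVec_add]
        congr 2
        simp only [toAdd_mul, Prod.fst_add, Prod.snd_add, add_smul]
        abel }
  have hι : Function.Injective ι := by
    rw [injective_iff_map_eq_one]
    intro x hx
    have : (Multiplicative.toAdd x).1 • v + (Multiplicative.toAdd x).2 • w = 0 :=
      ofVec_injective hV (Subtype.ext hx)
    obtain ⟨e1, e2⟩ := hvw.ind _ _ this
    exact Multiplicative.toAdd.injective (Prod.ext e1 e2)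
  refine false_of_plane_section hp hst (hR.to_le hMR) K1 (fun x hx => ?_) φ hsurj ι hι ?_
  · refine hDp x (((closure_le D).mpr ?_) hx)
    rintro y (rfl | rfl)
    exacts [hgD, hD.conj_mem g hgD h]
  · intro x c d
    obtain ⟨g1, g2⟩ := hφ x
    refine ((ofVec_conjEnd hV ⟨π x, hH _⟩ (c • v + d • w)).symm.trans ?_ : _)
    show ((ofVec hV (σ x (c • v + d • w)) : V) : G ⧸ M) = _
    rw [map_add, map_smul, map_smul, g1, g2]
    show _ = ((ofVec hV ((φ x 0 0 * c + φ x 0 1 * d) • v + (φ x 1 0 * c + φ x 1 1 * d) • w) : V) : G ⧸ M)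
    congr 2
    module

/-- p-stability passes to the quotient by a normal p-subgroup acted on as a p-group. -/
theorem isNormalizerPStable_quotient {G : Type u} [Group G] [Finite G] (hp : p ≠ 2)
    (P0 : Subgroup G) [P0.Normal] (hP0 : IsPGroup p P0)
    (hpow : ∀ x : G, ∃ j, x ^ p ^ j ∈ centralizer (P0 : Set G))
    (hst : Cfsg.IsNormalizerPStable p G) : Cfsg.IsNormalizerPStable p (G ⧸ P0) := by
  intro Rb hRb gb hgb hq
  obtain ⟨g, rfl⟩ := QuotientGroup.mk'_surjective P0 gb
  set π := QuotientGroup.mk' P0 with hπ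
  set R := Rb.comap π with hR
  set N := (normalizer (Rb : Set (G ⧸ P0))).comap π with hN
  have hRN : R ≤ N := comap_mono le_normalizer
  have hP0R : P0 ≤ R := fun x hx => by
    rw [hR, mem_comap, show π x = 1 from (QuotientGroup.eq_one_iff x).mpr hx]
    exact Rb.one_mem
  have hRp : IsPGroup p R := by
    intro x
    obtain ⟨k, hk⟩ := hRb ⟨_, x.2⟩
    have hk' : (x : G) ^ p ^ k ∈ P0 := (QuotientGroup.eq_one_iff _).mp
      (show π ((x : G) ^ p ^ k) = 1 by rw [map_pow]; exact congrArg Subtype.val hk)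
    obtain ⟨j, hj⟩ := hP0 ⟨_, hk'⟩
    exact ⟨k + j, Subtype.ext (by simpa [pow_add, pow_mul] using congrArg Subtype.val hj)⟩
  haveI : (P0.subgroupOf N).Normal := Normal.subgroupOf inferInstance N
  haveI hRn : (R.subgroupOf N).Normal := by
    refine ⟨fun x hx n => ?_⟩
    show π ((n : G) * (x : G) * (n : G)⁻¹) ∈ Rb
    rw [map_mul, map_mul, map_inv]
    exact (mem_normalizer_iff.mp n.2 _).mp hx
  have hmain := pcoreMod_of_quadratic_mod hp (isNormalizerPStable_subgroup N hst)
    (P0.subgroupOf N) (R.subgroupOf N) (comap_mono hP0R)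
    (hRp.of_equiv (subgroupOfEquivOfLe hRN).symm) (fun x => ?_) ⟨g, hgb⟩ ?_
  · obtain ⟨D, hD, hgD, hDp⟩ := hmain
    set ψ : N →* ↥(normalizer (Rb : Set (G ⧸ P0))) :=
      (π.comp N.subtype).codRestrict _ fun x => x.2 with hψ
    have hψs : Function.Surjective ψ := fun y => by
      obtain ⟨x, hx⟩ := QuotientGroup.mk'_surjective P0 (y : G ⧸ P0)
      exact ⟨⟨x, by rw [hN, mem_comap, hπ, hx]; exact y.2⟩, Subtype.ext hx⟩
    refine (pcoreMod_iff _ _).mp ⟨D.map ψ, hD.map ψ hψs, ⟨_, hgD, rfl⟩, ?_⟩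
    rintro _ ⟨x, hx, rfl⟩
    obtain ⟨k, hk⟩ := hDp x hx
    refine ⟨k, ?_⟩
    rw [← map_pow, mem_subgroupOf, mem_centralizer_iff]
    intro yb hyb
    obtain ⟨y, rfl⟩ := QuotientGroup.mk'_surjective P0 yb
    have := congrArg Subtype.val
      (mem_centralizer_iff.mp hk ⟨y, hRN hyb⟩ (mem_subgroupOf.mpr hyb))
    show π y * π _ = π _ * π y
    rw [← map_mul, ← map_mul]
    exact congrArg π this
  · obtain ⟨j, hj⟩ := hpow x
    exact ⟨j, mem_centralizer_iff.mpr fun y hy => Subtype.ext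
      (mem_centralizer_iff.mp hj y (mem_subgroupOf.mp hy))⟩
  · show _ ≤ Subgroup.comap N.subtype P0
    rw [← map_le_iff_le_comap, map_commutator, map_commutator, MonoidHom.map_zpowers,
      map_subgroupOf_eq_of_le hRN]
    intro x hx
    refine (QuotientGroup.eq_one_iff _).mp (mem_bot.mp ?_)
    rw [← hq]
    have h := mem_map_of_mem π hx
    rw [map_commutator, map_commutator, MonoidHom.map_zpowers, hR,
      map_comap_eq_self_of_surjective (QuotientGroup.mk'_surjective P0)] at h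
    exact h

theorem inherited_stable (hp : p ≠ 2) :
    Inherited.{u} p (fun G _ _ => Cfsg.IsNormalizerPStable p G) where
  sub _ _ _ _ h M _ _ _ := isNormalizerPStable_subgroup M h
  quot _ _ _ _ h hpow := isNormalizerPStable_quotient hp _ (Solvable.isPGroup_pCore p) hpow h
  stable _ _ _ _ h _ _ := stableNormal_of_normalizer h

/-- SL₂(p)-freeness of the normalizers of the subgroups between `Z(S)` and `S`. -/
def LocalSL2Free (p : ℕ) [Fact p.Prime] (G : Type u) [Group G] (S : Sylow p G) : Prop :=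
  ∀ P : Subgroup G, (S : Subgroup G) ⊓ centralizer ((S : Subgroup G) : Set G) ≤ P → P ≤ S →
    ∀ (K : Subgroup G), K ≤ normalizer (P : Set G) → ∀ f : K →* SL2 (ZMod p),
      ¬ Function.Surjective f

theorem inherited_local (hp : p ≠ 2) : Inherited.{u} p (LocalSL2Free p) where
  sub G _ _ S h M R hRS hZR := by
    intro P hZP hPR K hK f hf
    refine h (P.map M.subtype) (fun z hz => ?_) ((map_mono hPR).trans hRS)
      (K.map M.subtype) ((map_mono hK).trans (le_normalizer_map _))
      (f.comp (K.equivMapOfInjective _ M.subtype_injective).symm.toMonoidHom)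
      (hf.comp (MulEquiv.surjective _))
    obtain ⟨y, hy, rfl⟩ := hZR hz
    refine mem_map_of_mem _ (hZP ⟨hy, mem_centralizer_iff.mpr fun w hw => Subtype.ext ?_⟩)
    exact mem_centralizer_iff.mp hz.2 _ (hRS ⟨w, hw, rfl⟩)
  quot G _ _ S h _ := by
    intro P hZP hPS K hK f hf
    set π := QuotientGroup.mk' (Cfsg.pCore p G) with hπ
    refine h (P.comap π) (fun z hz => ?_) ?_ (K.comap π) ?_ (f.comp (π.subgroupComap K))
      (hf.comp (MonoidHom.subgroupComap_surjective_of_surjective π K (QuotientGroup.mk'_surjective _)))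
    · refine hZP ⟨⟨z, hz.1, rfl⟩, mem_centralizer_iff.mpr ?_⟩
      rintro _ ⟨w, hw, rfl⟩
      show π w * π z = π z * π w
      rw [← map_mul, ← map_mul, mem_centralizer_iff.mp hz.2 w hw]
    · refine (Subgroup.comap_mono hPS).trans ?_
      show ((S : Subgroup G).map π).comap π ≤ _
      rw [comap_map_eq, QuotientGroup.ker_mk']
      exact sup_le le_rfl (pCore_le_sylow S)
    · refine (comap_mono hK).trans ?_
      intro x hx
      rw [mem_normalizer_iff]
      intro y
      rw [mem_comap, mem_comap, map_mul, map_mul, map_inv]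
      exact mem_normalizer_iff.mp hx (π y)
  stable G _ _ S h _ hT := by
    refine stableNormal_of_free hp fun hinv => ?_
    obtain ⟨K, f, hf⟩ := exists_surjective_of_involves (involves_sl2_of_qd hinv)
    refine h (Cfsg.pCore p G) (fun z hz => hT ⟨hz.1, mem_coreKer.mpr
      ⟨centralizer (Cfsg.pCore p G : Set G), inferInstance, ?_, fun x hx => ⟨0, by simpa using hx⟩⟩⟩)
      (pCore_le_sylow S) K (by rw [normalizer_eq_top (H := Cfsg.pCore p G)]; exact le_top) f hf
    exact mem_centralizer_iff.mpr fun y hy => mem_centralizer_iff.mp hz.2 y (pCore_le_sylow S hy)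

end CfsgLib.ZJ
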