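import Cfsg.Agent.ZJ.DihedralSection

/-!
Sections isomorphic to the symmetric group of degree 4 and action on 2-subgroups.
-/

set_option autoImplicit false
set_option linter.style.haveILetI false

namespace CfsgLib.ZJ

open Subgroup

/-- An element of order three in its action and an involutory one inverting it, on an elementary
abelian 2-group, normalize a common four-group on which the first acts without fixed points. -/
theorem exists_four_group {G : Type*} [Group G] [Finite G] (W : Subgroup G)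
    (hc : ∀ u ∈ W, ∀ v ∈ W, u * v = v * u) (h2 : ∀ u ∈ W, u * u = 1) {a t : G}
    (haW : a ∈ normalizer (W : Set G)) (htW : t ∈ normalizer (W : Set G))
    (ha3 : ∀ u ∈ W, a ^ 3 * u * (a ^ 3)⁻¹ = u) (hne : ∃ u ∈ W, a * u * a⁻¹ ≠ u)
    (hinv : ∀ u ∈ W, t * a * t⁻¹ * u * (t * a * t⁻¹)⁻¹ = a⁻¹ * u * a)
    (ht : ∃ k : ℕ, t ^ 2 ^ k = 1) :
    ∃ X : Subgroup G, Nat.card X = 4 ∧ X ≤ W ∧ a ∈ normalizer (X : Set G) ∧
      t ∈ normalizer (X : Set G) ∧ ∀ x ∈ X, a * x = x * a → x = 1 := by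
  classical
  have cA : ∀ u ∈ W, a * u * a⁻¹ ∈ W := fun u hu => (mem_normalizer_iff.mp haW u).mp hu
  have cT : ∀ u ∈ W, t * u * t⁻¹ ∈ W := fun u hu => (mem_normalizer_iff.mp htW u).mp hu
  have hA3 : ∀ u ∈ W, a * (a * (a * u * a⁻¹) * a⁻¹) * a⁻¹ = u := fun u hu => by
    calc _ = a ^ 3 * u * (a ^ 3)⁻¹ := by rw [pow_three]; group
      _ = u := ha3 u hu
  have hTA : ∀ u ∈ W, t * (a * u * a⁻¹) * t⁻¹ = a * (a * (t * u * t⁻¹) * a⁻¹) * a⁻¹ := fun u hu => by
    have hAi : a⁻¹ * (t * u * t⁻¹) * a = a * (a * (t * u * t⁻¹) * a⁻¹) * a⁻¹ := by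
      conv_lhs => rw [← hA3 _ (cT u hu)]
      group
    rw [← hAi, ← hinv _ (cT u hu)]
    group
  -- the nonzero vector killed by `1 + a + a²` and fixed by `t`
  set D : Set G := {u | u ∈ W ∧ u * (a * u * a⁻¹) * (a * (a * u * a⁻¹) * a⁻¹) = 1} with hD
  have hDmul : ∀ u ∈ D, ∀ v ∈ D, u * v ∈ D := by
    rintro u ⟨hu, hu'⟩ v ⟨hv, hv'⟩
    refine ⟨mul_mem hu hv, ?_⟩
    have comm := hc _ hv _ (cA u hu)
    calc u * v * (a * (u * v) * a⁻¹) * (a * (a * (u * v) * a⁻¹) * a⁻¹)
        = u * (v * (a * u * a⁻¹)) * ((a * v * a⁻¹) * (a * (a * u * a⁻¹) * a⁻¹))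
            * (a * (a * v * a⁻¹) * a⁻¹) := by group
      _ = u * ((a * u * a⁻¹) * v) * ((a * (a * u * a⁻¹) * a⁻¹) * (a * v * a⁻¹))
            * (a * (a * v * a⁻¹) * a⁻¹) := by
          rw [comm, hc _ (cA v hv) _ (cA _ (cA u hu))]
      _ = u * (a * u * a⁻¹) * (v * (a * (a * u * a⁻¹) * a⁻¹)) * (a * v * a⁻¹)
            * (a * (a * v * a⁻¹) * a⁻¹) := by simp only [mul_assoc]
      _ = (u * (a * u * a⁻¹) * (a * (a * u * a⁻¹) * a⁻¹)) *
            (v * (a * v * a⁻¹) * (a * (a * v * a⁻¹) * a⁻¹)) := by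
          rw [hc _ hv _ (cA _ (cA u hu))]; simp only [mul_assoc]
      _ = 1 := by rw [hu', hv', one_mul]
  have hDA : ∀ u ∈ D, a * u * a⁻¹ ∈ D := by
    rintro u ⟨hu, hu'⟩
    refine ⟨cA u hu, ?_⟩
    calc (a * u * a⁻¹) * (a * (a * u * a⁻¹) * a⁻¹) * (a * (a * (a * u * a⁻¹) * a⁻¹) * a⁻¹)
        = a * (u * (a * u * a⁻¹) * (a * (a * u * a⁻¹) * a⁻¹)) * a⁻¹ := by group
      _ = 1 := by rw [hu', mul_one, mul_inv_cancel]
  have hDT : ∀ u ∈ D, t * u * t⁻¹ ∈ D := by
    rintro u ⟨hu, hu'⟩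
    refine ⟨cT u hu, ?_⟩
    have e2 : t * (a * (a * u * a⁻¹) * a⁻¹) * t⁻¹ = a * (t * u * t⁻¹) * a⁻¹ := by
      rw [hTA _ (cA u hu), hTA _ hu, hA3 _ (cA _ (cT u hu))]
    calc (t * u * t⁻¹) * (a * (t * u * t⁻¹) * a⁻¹) * (a * (a * (t * u * t⁻¹) * a⁻¹) * a⁻¹)
        = (t * u * t⁻¹) * ((t * (a * (a * u * a⁻¹) * a⁻¹) * t⁻¹) * (t * (a * u * a⁻¹) * t⁻¹)) := by
          rw [e2, hTA u hu, mul_assoc]
      _ = t * (u * ((a * (a * u * a⁻¹) * a⁻¹) * (a * u * a⁻¹))) * t⁻¹ := by group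
      _ = 1 := by
          rw [hc _ (cA _ (cA u hu)) _ (cA u hu), ← mul_assoc u, hu', mul_one, mul_inv_cancel]
  obtain ⟨w, hw, hw'⟩ := hne
  obtain ⟨u0, hu0, hu01⟩ : ∃ u ∈ D, u ≠ 1 := by
    refine ⟨a * w * a⁻¹ * w, ⟨mul_mem (cA w hw) hw, ?_⟩, fun h => hw' ?_⟩
    · have e : ∀ x ∈ W, ∀ y ∈ W, ∀ z ∈ W, y * x * (z * y) * (x * z) = 1 := by
        intro x hx y hy z hz
        rw [hc z hz y hy, hc x hx z hz]
        calc y * x * (y * z) * (z * x) = y * x * y * (z * z) * x := by simp only [mul_assoc]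
          _ = y * (x * y) * x := by rw [h2 z hz, mul_one]; simp only [mul_assoc]
          _ = (y * y) * (x * x) := by rw [hc x hx y hy]; simp only [mul_assoc]
          _ = 1 := by rw [h2 x hx, h2 y hy, one_mul]
      have := e w hw _ (cA w hw) _ (cA _ (cA w hw))
      convert this using 2
      · group
      · nth_rewrite 3 [← hA3 w hw]
        group
    · rw [mul_eq_one_iff_eq_inv, inv_eq_of_mul_eq_one_right (h2 w hw)] at h
      exact h
  obtain ⟨v, hv, hv1, htv⟩ : ∃ v ∈ D, v ≠ 1 ∧ t * v * t⁻¹ = v := by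
    obtain ⟨k, hk⟩ := ht
    have key : ∀ j : ℕ, ∀ u ∈ D, u ≠ 1 →
        (∃ v ∈ D, v ≠ 1 ∧ t * v * t⁻¹ = v) ∨
          (u * (t ^ 2 ^ j * u * (t ^ 2 ^ j)⁻¹) ≠ 1 ∧
            u * (t ^ 2 ^ j * u * (t ^ 2 ^ j)⁻¹) ∈ D) := by
      intro j
      induction j with
      | zero =>
        intro u hu hu1
        by_cases h : u * (t * u * t⁻¹) = 1
        · refine Or.inl ⟨u, hu, hu1, ?_⟩
          rw [mul_eq_one_iff_eq_inv, inv_eq_of_mul_eq_one_right (h2 _ (cT u hu.1))] at h
          exact h.symm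
        · exact Or.inr (by simpa using ⟨h, hDmul u hu _ (hDT u hu)⟩)
      | succ j ih =>
        intro u hu hu1
        rcases ih u hu hu1 with h | ⟨h, hm⟩
        · exact Or.inl h
        rcases ih _ hm h with h' | ⟨h', hm'⟩
        · exact Or.inl h'
        set s := t ^ 2 ^ j with hs
        have hss : t ^ 2 ^ (j + 1) = s * s := by rw [hs, ← pow_add, pow_succ, mul_two]
        have hsW : ∀ x ∈ W, s * x * s⁻¹ ∈ W := fun x hx =>
          (mem_normalizer_iff.mp (pow_mem htW _) x).mp hx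
        have e : u * (s * u * s⁻¹) * (s * (u * (s * u * s⁻¹)) * s⁻¹) =
            u * (t ^ 2 ^ (j + 1) * u * (t ^ 2 ^ (j + 1))⁻¹) := by
          rw [hss]
          calc u * (s * u * s⁻¹) * (s * (u * (s * u * s⁻¹)) * s⁻¹)
              = u * ((s * u * s⁻¹) * (s * u * s⁻¹)) * (s * s * u * (s * s)⁻¹) := by group
            _ = _ := by rw [h2 _ (hsW u hu.1), mul_one]
        rw [e] at h' hm'
        exact Or.inr ⟨h', hm'⟩
    rcases key k u0 hu0 hu01 with h | ⟨h, -⟩
    · exact h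
    · rw [hk, one_mul, inv_one, mul_one, h2 u0 hu0.1] at h
      exact absurd rfl h
  obtain ⟨hvW, hvD⟩ := hv
  set b := a * v * a⁻¹ with hb
  set c := a * b * a⁻¹ with hcdef
  have hbW : b ∈ W := cA v hvW
  have hcW : c ∈ W := cA b hbW
  have hac : a * c * a⁻¹ = v := hA3 v hvW
  have hbv : v * b = c := by
    rw [mul_eq_one_iff_eq_inv, inv_eq_of_mul_eq_one_right (h2 c hcW)] at hvD
    exact hvD
  have hb1 : b ≠ 1 := fun h => hv1 (conj_eq_one_iff.mp h)
  have hc1 : c ≠ 1 := fun h => hb1 (conj_eq_one_iff.mp h)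
  have hvb : v ≠ b := fun h => hc1 (by rw [← hbv, ← h, h2 v hvW])
  have hvc : v ≠ c := fun h => hb1 (mul_eq_left.mp (hbv.trans h.symm))
  have hbc : b ≠ c := fun h => hv1 (mul_eq_right.mp (hbv.trans h.symm))
  have hvc' : v * c = b := by rw [← hbv, ← mul_assoc, h2 v hvW, one_mul]
  have hbc' : b * c = v := by rw [← hbv, hc v hvW b hbW, ← mul_assoc, h2 b hbW, one_mul]
  let S : Finset G := {1, v, b, c}
  let X : Subgroup G :=
    { carrier := S
      one_mem' := by simp [S]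
      mul_mem' := by
        intro x y hx hy
        simp only [S, Finset.coe_insert, Finset.coe_singleton, Set.mem_insert_iff,
          Set.mem_singleton_iff] at hx hy ⊢
        rcases hx with h | h | h | h <;> subst x <;> rcases hy with h | h | h | h <;> subst y <;>
          simp [h2 v hvW, h2 b hbW, h2 c hcW, hbv, hvc', hbc', hc b hbW v hvW, hc c hcW v hvW,
            hc c hcW b hbW]
      inv_mem' := by
        intro x hx
        simp only [S, Finset.coe_insert, Finset.coe_singleton, Set.mem_insert_iff,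
          Set.mem_singleton_iff] at hx ⊢
        rcases hx with h | h | h | h <;> subst x <;>
          simp [inv_eq_of_mul_eq_one_right (h2 v hvW), inv_eq_of_mul_eq_one_right (h2 b hbW),
            inv_eq_of_mul_eq_one_right (h2 c hcW)] }
  have hmem : ∀ x, x ∈ X ↔ x = 1 ∨ x = v ∨ x = b ∨ x = c := fun x => by
    show x ∈ (S : Set G) ↔ _
    simp [S]
  have hX : Nat.card X = 4 := by
    show Nat.card ↥(S : Set G) = 4
    rw [Nat.card_coe_set_eq, Set.ncard_coe_finset,
      Finset.card_eq_of_equiv_fin ?_]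
    exact (Finset.equivFinOfCardEq (by
      simp [S, Finset.card_insert_of_notMem, hv1.symm, hb1.symm, hc1.symm, hvb, hvc, hbc]))
  have hle : X ≤ W := fun x hx => by
    rcases (hmem x).mp hx with h | h | h | h <;> subst x <;> first | exact one_mem _ | assumption
  have nmem : ∀ g : G, (∀ x ∈ X, g * x * g⁻¹ ∈ X) → g ∈ normalizer (X : Set G) := fun g hg =>
    mem_normalizer_fintype hg
  refine ⟨X, hX, hle, nmem a ?_, nmem t ?_, ?_⟩
  · intro x hx
    rcases (hmem x).mp hx with h | h | h | h <;> subst x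
    · simp
    · exact (hmem _).mpr (Or.inr (Or.inr (Or.inl rfl)))
    · exact (hmem _).mpr (Or.inr (Or.inr (Or.inr rfl)))
    · exact (hmem _).mpr (Or.inr (Or.inl hac))
  · intro x hx
    rcases (hmem x).mp hx with h | h | h | h <;> subst x
    · simp
    · exact (hmem _).mpr (Or.inr (Or.inl htv))
    · refine (hmem _).mpr (Or.inr (Or.inr (Or.inr ?_)))
      rw [hcdef, hb, hTA v hvW, htv]
    · refine (hmem _).mpr (Or.inr (Or.inr (Or.inl ?_)))
      rw [hcdef, hTA b hbW]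
      rw [show t * b * t⁻¹ = c by rw [hb, hTA v hvW, htv], hac]
  · intro x hx hcomm
    have hfix : a * x * a⁻¹ = x := mul_inv_eq_iff_eq_mul.mpr hcomm
    rcases (hmem x).mp hx with h | h | h | h <;> subst x
    · rfl
    · exact absurd hfix.symm hvb
    · exact absurd hfix.symm hbc
    · exact absurd (hac.symm.trans hfix) hvc

end CfsgLib.ZJ

namespace CfsgLib.ZJ

open Subgroup

/-- If an element of order three is inverted in the action of the normalizer of a 2-subgroup then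
the symmetric group of degree 4 is involved. -/
theorem involves_s4_of_action {G : Type*} [Group G] [Finite G] (T : Subgroup G) [T.Normal]
    (hT : IsPGroup 2 T) (h : Inverts 3 (G ⧸ centralizer (T : Set G))) :
    Cfsg.Involves (Equiv.Perm (Fin 4)) G := by
  classical
  haveI : Fact (Nat.Prime 2) := ⟨Nat.prime_two⟩
  haveI : Fact (Nat.Prime 3) := ⟨Nat.prime_three⟩
  set C := centralizer (T : Set G) with hC
  obtain ⟨g, x, hx1, ⟨k, hk⟩, hgx⟩ := h
  set q := QuotientGroup.mk' C with hq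
  have hQ : IsPGroup 3 (zpowers x) := by
    obtain ⟨j, -, hj⟩ := (Nat.dvd_prime_pow Fact.out).mp (orderOf_dvd_of_pow_eq_one hk)
    exact IsPGroup.of_card (n := j) (by rw [Nat.card_zpowers, hj])
  set M := (normalizer ((zpowers x : Subgroup (G ⧸ C)) : Set (G ⧸ C))).comap q with hM
  set E : Subgroup M := ((zpowers x).comap q).subgroupOf M with hE
  haveI : E.Normal := ⟨fun e he m => by
    rw [hE, mem_subgroupOf, mem_comap] at he ⊢
    push_cast
    rw [map_mul, map_mul, map_inv]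
    exact (mem_normalizer_iff.mp m.2 _).mp he⟩
  obtain ⟨P⟩ := (inferInstance : Nonempty (Sylow 3 E))
  have hfrat := P.normalizer_sup_eq_top
  obtain ⟨g0, hg0⟩ := QuotientGroup.mk'_surjective C g
  have hgN : g ∈ normalizer ((zpowers x : Subgroup (G ⧸ C)) : Set (G ⧸ C)) := by
    rw [mem_normalizer_iff_map_conj_eq, MonoidHom.map_zpowers]
    show zpowers ((MulAut.conj g) x) = _
    rw [MulAut.conj_apply, hgx, zpowers_inv]
  have hg0M : g0 ∈ M := mem_comap.mpr (hg0.symm ▸ hgN)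
  obtain ⟨n, hn, e, he, hne⟩ : ∃ n ∈ normalizer (((P : Subgroup E).map E.subtype : Subgroup M) : Set M),
      ∃ e ∈ E, n * e = ⟨g0, hg0M⟩ := by
    have := (eq_top_iff.mp hfrat) (mem_top (⟨g0, hg0M⟩ : M))
    rw [← SetLike.mem_coe, Subgroup.coe_mul_of_left_le_normalizer_right _ _
      (le_normalizer_of_normal)] at this
    obtain ⟨n, hn, e, he, h⟩ := Set.mem_mul.mp this
    exact ⟨n, hn, e, he, h⟩
  have hn_inv : q n * x * (q n)⁻¹ = x⁻¹ := by
    obtain ⟨i, hi⟩ := mem_zpowers_iff.mp (mem_comap.mp he : q (e : G) ∈ zpowers x)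
    have h1 : q (n : G) = g * (x ^ i)⁻¹ := by
      rw [eq_mul_inv_iff_mul_eq, hi, ← map_mul, ← hg0]
      exact congrArg q (congrArg Subtype.val hne)
    rw [h1]
    calc g * (x ^ i)⁻¹ * x * (g * (x ^ i)⁻¹)⁻¹ = g * x * g⁻¹ := by group
      _ = x⁻¹ := hgx
  obtain ⟨m, hm, k2, hk2⟩ := exists_odd_pow_two_element (n : G)
  have ht_inv : q ((n : G) ^ m) * x * (q ((n : G) ^ m))⁻¹ = x⁻¹ := by
    rw [map_pow]
    exact conj_odd_pow hn_inv hm
  set t := (n : G) ^ m with ht
  set R0 := ((P : Subgroup E).map E.subtype).map M.subtype with hR0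
  have hR0p : IsPGroup 3 R0 := (P.2.map _).map _
  have htR0 : t ∈ normalizer (R0 : Set G) := by
    refine pow_mem (mem_normalizer_fintype fun y hy => ?_) m
    obtain ⟨y, hy', rfl⟩ := hy
    exact ⟨n * y * n⁻¹, (mem_normalizer_iff.mp hn y).mp hy', rfl⟩
  obtain ⟨y, hyR, hyx⟩ : ∃ y ∈ R0, q y = x := by
    let f : E →* zpowers x := ((q.comp M.subtype).comp E.subtype).codRestrict _ fun e => e.2
    have hf : Function.Surjective f := fun z => by
      obtain ⟨z0, hz0⟩ := QuotientGroup.mk'_surjective C (z : G ⧸ C)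
      have hz : q z0 ∈ zpowers x := hz0.symm ▸ z.2
      exact ⟨⟨⟨z0, mem_comap.mpr (le_normalizer hz)⟩, hz⟩, Subtype.ext hz0⟩
    have htop := ((P.mapSurjective hf).3 (hQ.to_subgroup ⊤) le_top).symm
    have hmem : (⟨x, mem_zpowers x⟩ : zpowers x) ∈
        ((P.mapSurjective hf : Sylow 3 _) : Subgroup _) := htop ▸ mem_top _
    obtain ⟨r, hr, hrx⟩ := hmem
    exact ⟨_, mem_map_of_mem _ (mem_map_of_mem _ hr), congrArg Subtype.val hrx⟩
  -- pass to the Frattini quotient of `T`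
  set Φ := (frattini T).map T.subtype with hΦ
  haveI : Φ.Normal := ConjAct.normal_of_characteristic_of_normal
  set π := QuotientGroup.mk' Φ with hπ
  set W := T.map π with hW
  have hfr := PGroupBasic.commutator_pow_le_frattini hT
  have hWc : ∀ u ∈ W, ∀ v ∈ W, u * v = v * u := by
    rintro _ ⟨a, ha, rfl⟩ _ ⟨b, hb, rfl⟩
    rw [← map_mul, ← map_mul]
    refine (QuotientGroup.eq_iff_div_mem).mpr ?_
    have h := hfr.1 (commutator_mem_commutator (mem_top (⟨a, ha⟩ : T)) (mem_top (⟨b, hb⟩ : T)))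
    refine ⟨_, h, ?_⟩
    simp [commutatorElement_def, div_eq_mul_inv, mul_assoc]
  have hW2 : ∀ u ∈ W, u * u = 1 := by
    rintro _ ⟨a, ha, rfl⟩
    rw [← map_mul]
    refine (QuotientGroup.eq_one_iff _).mpr ⟨_, hfr.2 ⟨a, ha⟩, ?_⟩
    simp [pow_two]
  haveI : W.Normal := Normal.map inferInstance π (QuotientGroup.mk'_surjective Φ)
  have hNW : ∀ z : G ⧸ Φ, z ∈ normalizer (W : Set (G ⧸ Φ)) := fun z =>
    (normalizer_eq_top_iff.mpr (inferInstance : W.Normal)) ▸ mem_top z
  have hCW : ∀ c ∈ C, ∀ u ∈ W, π c * u * (π c)⁻¹ = u := by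
    rintro c hc _ ⟨a, ha, rfl⟩
    rw [← map_inv, ← map_mul, ← map_mul, ← mem_centralizer_iff.mp hc a ha, mul_inv_cancel_right]
  -- `y` acts nontrivially
  have hyC : y ∉ C := fun h => hx1 (hyx ▸ (QuotientGroup.eq_one_iff y).mpr h)
  obtain ⟨j, hj⟩ := hR0p ⟨y, hyR⟩
  have hj' : y ^ 3 ^ j = 1 := by simpa using congrArg Subtype.val hj
  have hnontriv : ¬ ∀ u ∈ W, π y * u * (π y)⁻¹ = u := by
    intro htriv
    refine hyC (CoprimeAct.trivial_on_frattini_quotient (A := zpowers y) (K := T) ?_ ?_ ?_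
      (mem_zpowers y))
    · rw [normalizer_eq_top_iff.mpr (inferInstance : T.Normal)]
      exact le_top
    · obtain ⟨i, -, hi⟩ := (Nat.dvd_prime_pow Nat.prime_three).mp (orderOf_dvd_of_pow_eq_one hj')
      obtain ⟨l, hl⟩ := IsPGroup.iff_card.mp (hT.to_subgroup (frattini T))
      rw [Nat.card_zpowers, hi, hl]
      exact ((Nat.coprime_primes Nat.prime_three Nat.prime_two).mpr (by norm_num)).pow i l
    · intro a ha k hk
      have hstab : ∀ a ∈ zpowers y, ∀ u ∈ W, π a * u * (π a)⁻¹ = u := by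
        intro a ha u hu
        have hcy : π y ∈ centralizer (W : Set (G ⧸ Φ)) :=
          mem_centralizer_iff.mpr fun u hu => (mul_inv_eq_iff_eq_mul.mp (htriv u hu)).symm
        obtain ⟨i, rfl⟩ := mem_zpowers_iff.mp ha
        rw [map_zpow, ← mem_centralizer_iff.mp (zpow_mem hcy i) u hu, mul_inv_cancel_right]
      refine (QuotientGroup.eq_one_iff _).mp ?_
      show π (a * k * a⁻¹ * k⁻¹) = 1
      rw [map_mul, map_mul, map_mul, map_inv, map_inv, hstab a ha _ (mem_map_of_mem π hk),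
        mul_inv_cancel]
  have hex : ∃ i : ℕ, ∀ u ∈ W, π y ^ 3 ^ i * u * (π y ^ 3 ^ i)⁻¹ = u :=
    ⟨j, fun u _ => by rw [← map_pow, hj', map_one, one_mul, inv_one, mul_one]⟩
  obtain ⟨i, hi, hmin⟩ : ∃ i, (∀ u ∈ W, π y ^ 3 ^ i * u * (π y ^ 3 ^ i)⁻¹ = u) ∧
      ∀ i' < i, ¬ ∀ u ∈ W, π y ^ 3 ^ i' * u * (π y ^ 3 ^ i')⁻¹ = u :=
    ⟨Nat.find hex, Nat.find_spec hex, fun i' hi' => Nat.find_min hex hi'⟩
  cases i with
  | zero => exact absurd (by simpa using hi) hnontriv
  | succ i =>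
    set a := y ^ 3 ^ i with ha
    have hinvC : a * (t * a * t⁻¹) ∈ C := by
      refine (QuotientGroup.eq_one_iff _).mp ?_
      show q (a * (t * a * t⁻¹)) = 1
      rw [map_mul, map_mul, map_mul, map_inv, ha, map_pow, hyx, ← conj_pow, ht_inv, inv_pow,
        mul_inv_cancel]
    have hinvW : ∀ u ∈ W, π t * π a * (π t)⁻¹ * u * (π t * π a * (π t)⁻¹)⁻¹ =
        (π a)⁻¹ * u * π a := by
      intro u hu
      have h1 := hCW _ hinvC u hu
      rw [map_mul, map_mul, map_mul, map_inv] at h1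
      calc π t * π a * (π t)⁻¹ * u * (π t * π a * (π t)⁻¹)⁻¹
          = (π a)⁻¹ * (π a * (π t * π a * (π t)⁻¹) * u * (π a * (π t * π a * (π t)⁻¹))⁻¹) * π a := by
            group
        _ = _ := by rw [h1]
    obtain ⟨X, hX, hXW, haX, htX, hfpf⟩ := exists_four_group W hWc hW2 (hNW (π a)) (hNW (π t))
      (fun u hu => by
        rw [ha, map_pow, ← pow_mul, ← pow_succ]
        exact hi u hu)
      (by
        have h := hmin i (Nat.lt_succ_self i)
        push Not at h
        rw [ha, map_pow]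
        exact h)
      hinvW ⟨k2, by rw [← map_pow, hk2, map_one]⟩
    refine involves_of_quotient Φ (involves_s4_of_normalized X hX (R := R0.map π) ?_
      (mem_map_of_mem π (pow_mem hyR _)) ?_ (fun u hu => hinvW u (hXW hu)) haX htX hfpf)
    · obtain ⟨l, hl⟩ := IsPGroup.iff_card.mp (hR0p.map π)
      rw [hl]
      exact (by decide : Odd 3).pow
    · refine mem_normalizer_fintype fun z hz => ?_
      obtain ⟨z, hz, rfl⟩ := hz
      exact ⟨t * z * t⁻¹, (mem_normalizer_iff.mp htR0 z).mp hz, by simp [hπ]⟩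

/-- The four-group of permutations. -/
def kleinFourSubgroup : Subgroup (Equiv.Perm (Fin 4)) where
  carrier := {σ | σ = 1 ∨ (σ * σ = 1 ∧ ∀ i, σ i ≠ i)}
  one_mem' := Or.inl rfl
  mul_mem' {a b} := by revert a b; decide +kernel
  inv_mem' {a} := by revert a; decide +kernel

instance : DecidablePred (· ∈ kleinFourSubgroup) := fun σ =>
  inferInstanceAs (Decidable (σ = 1 ∨ (σ * σ = 1 ∧ ∀ i, σ i ≠ i)))

theorem kleinFourSubgroup_normal : kleinFourSubgroup.Normal :=
  ⟨by decide +kernel⟩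

theorem kleinFourSubgroup_facts :
    (∀ σ : Equiv.Perm (Fin 4), (∀ τ ∈ kleinFourSubgroup, τ * σ = σ * τ) → σ ∈ kleinFourSubgroup) ∧
    (∀ σ ∈ kleinFourSubgroup, σ ^ 2 = 1) ∧
    (∃ g x : Equiv.Perm (Fin 4), x ∉ kleinFourSubgroup ∧ x ^ 3 ∈ kleinFourSubgroup ∧
      g * x * g⁻¹ * x ∈ kleinFourSubgroup) := by
  refine ⟨by decide +kernel, by decide +kernel, Equiv.swap 0 1, Equiv.swap 0 1 * Equiv.swap 1 2, ?_⟩
  decide +kernel

/-- A section isomorphic to the symmetric group of degree 4 gives a 2-subgroup whose automizer has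
an inverted element of order three. -/
theorem exists_action_of_involves_s4 {G : Type*} [Group G] [Finite G]
    (h : Cfsg.Involves (Equiv.Perm (Fin 4)) G) :
    ∃ T : Subgroup G, IsPGroup 2 T ∧ Inverts 3 (↥(normalizer (T : Set G)) ⧸
      (centralizer (T : Set G)).subgroupOf (normalizer (T : Set G))) := by
  classical
  haveI : Fact (Nat.Prime 2) := ⟨Nat.prime_two⟩
  haveI : Fact (Nat.Prime 3) := ⟨Nat.prime_three⟩
  obtain ⟨K, f, hf⟩ := exists_surjective_of_involves h
  haveI := kleinFourSubgroup_normal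
  obtain ⟨hcen, hexp, g, x, hx, hx3, hgx⟩ := kleinFourSubgroup_facts
  set V := kleinFourSubgroup
  set H := V.comap f with hH
  haveI : H.Normal := Normal.comap inferInstance f
  obtain ⟨P⟩ := (inferInstance : Nonempty (Sylow 2 H))
  set T0 := (P : Subgroup H).map H.subtype with hT0
  have hfrat : normalizer (T0 : Set K) ⊔ H = ⊤ := P.normalizer_sup_eq_top
  set T := T0.map K.subtype with hT
  refine ⟨T, (P.2.map _).map _, ?_⟩
  have hVT : V ≤ T0.map f := by
    let fH := f.subgroupComap V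
    have hfH : Function.Surjective fH := f.subgroupComap_surjective_of_surjective V hf
    have hV2 : IsPGroup 2 V := fun σ => ⟨1, Subtype.ext (by simpa using hexp σ σ.2)⟩
    have htop := ((P.mapSurjective hfH).3 (hV2.to_subgroup ⊤) le_top).symm
    intro v hv
    have hmem : (⟨v, hv⟩ : V) ∈ ((P.mapSurjective hfH : Sylow 2 _) : Subgroup _) := htop ▸ mem_top _
    obtain ⟨r, hr, hrv⟩ := hmem
    exact ⟨_, mem_map_of_mem _ hr, congrArg Subtype.val hrv⟩
  set N := normalizer (T : Set G) with hN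
  set C := (centralizer (T : Set G)).subgroupOf N with hC
  set φ : normalizer (T0 : Set K) →* N ⧸ C := (QuotientGroup.mk' C).comp
    ((K.subtype.comp (normalizer (T0 : Set K)).subtype).codRestrict N fun y => by
      refine mem_normalizer_fintype fun z hz => ?_
      obtain ⟨z, hz, rfl⟩ := hz
      exact ⟨(y : K) * z * (y : K)⁻¹, (mem_normalizer_iff.mp y.2 z).mp hz, rfl⟩) with hφ
  set ψ : normalizer (T0 : Set K) →* Equiv.Perm (Fin 4) ⧸ V :=
    ((QuotientGroup.mk' V).comp f).comp (normalizer (T0 : Set K)).subtype with hψ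
  have hker : φ.ker ≤ ψ.ker := by
    intro y hy
    have hyC : ((y : K) : G) ∈ centralizer (T : Set G) := by
      have hh : φ y = 1 := hy
      rw [hφ, MonoidHom.comp_apply, QuotientGroup.mk'_apply, QuotientGroup.eq_one_iff] at hh
      exact hh
    refine (QuotientGroup.eq_one_iff _).mpr (hcen _ fun τ hτ => ?_)
    obtain ⟨r, hr, rfl⟩ := hVT hτ
    show f r * f y = f y * f r
    rw [← map_mul, ← map_mul]
    exact congrArg f (Subtype.ext (mem_centralizer_iff.mp hyC _ (mem_map_of_mem _ hr)))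
  have hψs : Function.Surjective ψ := by
    intro z
    obtain ⟨s, rfl⟩ := QuotientGroup.mk'_surjective V z
    obtain ⟨k, rfl⟩ := hf s
    have := (eq_top_iff.mp hfrat) (mem_top k)
    rw [← SetLike.mem_coe, Subgroup.coe_mul_of_left_le_normalizer_right _ _
      (le_normalizer_of_normal)] at this
    obtain ⟨n, hn, e, he, rfl⟩ := Set.mem_mul.mp this
    refine ⟨⟨n, hn⟩, ?_⟩
    rw [map_mul, map_mul, show QuotientGroup.mk' V (f e) = 1 from
      (QuotientGroup.eq_one_iff _).mpr he, mul_one]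
    rfl
  have hinv : Inverts 3 (Equiv.Perm (Fin 4) ⧸ V) := by
    refine ⟨g, x, fun h => hx ((QuotientGroup.eq_one_iff x).mp h),
      ⟨1, (QuotientGroup.eq_one_iff _).mpr hx3⟩, ?_⟩
    rw [eq_inv_iff_mul_eq_one]
    exact (QuotientGroup.eq_one_iff _).mpr hgx
  let θ : φ.range →* Equiv.Perm (Fin 4) ⧸ V :=
    (QuotientGroup.lift φ.ker ψ hker).comp (QuotientGroup.quotientKerEquivRange φ).symm.toMonoidHom
  have hθ : Function.Surjective θ := (QuotientGroup.lift_surjective_of_surjective _ _ hψs hker).comp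
    (MulEquiv.surjective _)
  exact (hinv.of_surjective (by norm_num) θ hθ).of_subgroup

end CfsgLib.ZJ
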