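import Cfsg.Agent.ZJ.Replacement
import Mathlib.GroupTheory.PGroup
import Mathlib.GroupTheory.Nilpotent

/-!
Glauberman's replacement theorem.
-/

set_option autoImplicit false

namespace CfsgLib.ZJ

open Subgroup
open scoped commutatorElement

variable {G : Type*} [Group G] {A B : Subgroup G} {b : G}

theorem inter_le_repl (A : Subgroup G) (b : G) :
    A ⊓ A.map (MulAut.conj (b⁻¹)).toMonoidHom ≤ repl A b := le_sup_left

theorem kappa_mem_repl {a : G} (ha : a ∈ A) : a * b⁻¹ * a⁻¹ * b ∈ repl A b :=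
  mem_sup_right (subset_closure ⟨a, ha, rfl⟩)

theorem repl_le_sup (A : Subgroup G) (b : G) :
    repl A b ≤ A ⊔ A.map (MulAut.conj (b⁻¹)).toMonoidHom := by
  refine sup_le (inf_le_left.trans le_sup_left) ((closure_le _).mpr ?_)
  rintro _ ⟨a, ha, rfl⟩
  rw [show a * b⁻¹ * a⁻¹ * b = a * (b⁻¹ * a⁻¹ * b) by group]
  exact mul_mem (mem_sup_left ha) (mem_sup_right (conjA_mk (inv_mem ha)))

theorem sup_le_repl_sup (A : Subgroup G) (b : G) :
    A ⊔ A.map (MulAut.conj (b⁻¹)).toMonoidHom ≤ A ⊔ repl A b := by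
  refine sup_le le_sup_left fun x hx => ?_
  have ha := mem_conjA.mp hx
  rw [show x = ((b * x * b⁻¹) * b⁻¹ * (b * x * b⁻¹)⁻¹ * b)⁻¹ * (b * x * b⁻¹) by group]
  exact mul_mem (inv_mem (mem_sup_right (kappa_mem_repl ha))) (mem_sup_left ha)

variable (R : ReplData A B b)
include R

theorem ReplData.repl_le_normalizer : repl A b ≤ normalizer (A : Set G) :=
  (repl_le_sup A b).trans (sup_le le_normalizer R.h1)

theorem ReplData.normalizes_repl : A ≤ normalizer (repl A b : Set G) := by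
  intro c hc
  have key : ∀ c ∈ A, repl A b ≤ (repl A b).comap (MulAut.conj c).toMonoidHom := by
    intro c hc
    refine sup_le (fun d hd => ?_) ((closure_le _).mpr ?_)
    · show c * d * c⁻¹ ∈ repl A b
      rw [← (R.central hd (Or.inl hc)).eq, mul_inv_cancel_right]
      exact inter_le_repl A b hd
    · rintro _ ⟨a, ha, rfl⟩
      show c * (a * b⁻¹ * a⁻¹ * b) * c⁻¹ ∈ repl A b
      have hu := conjA_mk (b := b) (inv_mem ha)
      have e : c * (a * b⁻¹ * a⁻¹ * b) * c⁻¹ =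
          ⁅c, a * (b⁻¹ * a⁻¹ * b)⁆ * (a * b⁻¹ * a⁻¹ * b) := by
        simp only [commutatorElement_def]; group
      rw [e, R.bracket_mul_right hc (Or.inl ha) hu,
        commutatorElement_eq_one_iff_mul_comm.mpr (R.comm hc ha), one_mul]
      exact mul_mem (inter_le_repl A b (R.comm_mem hc hu)) (kappa_mem_repl ha)
  rw [mem_normalizer_iff]
  intro x
  refine ⟨fun hx => key c hc hx, fun hx => ?_⟩
  have h2 : c⁻¹ * (c * x * c⁻¹) * c⁻¹⁻¹ ∈ repl A b := key c⁻¹ (inv_mem hc) hx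
  rwa [show c⁻¹ * (c * x * c⁻¹) * c⁻¹⁻¹ = x by group] at h2

variable [Finite G] (hodd : Odd (orderOf b) ∨ IsMulCommutative B)
include hodd

theorem ReplData.mem_repl_iff {x : G} :
    x ∈ repl A b ↔ ∃ d ∈ A ⊓ A.map (MulAut.conj (b⁻¹)).toMonoidHom, ∃ a ∈ A,
      x = d * (a * b⁻¹ * a⁻¹ * b) := by
  refine ⟨fun hx => ?_, ?_⟩
  swap
  · rintro ⟨d, hd, a, ha, rfl⟩
    exact mul_mem (inter_le_repl A b hd) (kappa_mem_repl ha)
  have hcD : ∀ d ∈ A ⊓ A.map (MulAut.conj (b⁻¹)).toMonoidHom, ∀ a ∈ A,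
      Commute d (a * b⁻¹ * a⁻¹ * b) := fun d hd a ha => by
    rw [show a * b⁻¹ * a⁻¹ * b = a * (b⁻¹ * a⁻¹ * b) by group]
    exact (R.central hd (Or.inl ha)).mul_right (R.central hd (Or.inr (conjA_mk (inv_mem ha))))
  have hdz : ∀ a ∈ A, ∀ c ∈ A,
      ⁅c, b⁻¹ * a * b⁆ ∈ A ⊓ A.map (MulAut.conj (b⁻¹)).toMonoidHom :=
    fun a ha c hc => R.comm_mem hc (conjA_mk ha)
  let M : Subgroup G :=
    { carrier := {x | ∃ d ∈ A ⊓ A.map (MulAut.conj (b⁻¹)).toMonoidHom, ∃ a ∈ A,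
        x = d * (a * b⁻¹ * a⁻¹ * b)}
      one_mem' := ⟨1, one_mem _, 1, one_mem _, by group⟩
      mul_mem' := by
        rintro _ _ ⟨d, hd, a, ha, rfl⟩ ⟨d', hd', c, hc, rfl⟩
        refine ⟨d * d' * ⁅c, b⁻¹ * a * b⁆, mul_mem (mul_mem hd hd') (hdz a ha c hc), a * c,
          mul_mem ha hc, ?_⟩
        calc d * (a * b⁻¹ * a⁻¹ * b) * (d' * (c * b⁻¹ * c⁻¹ * b))
            = d * ((a * b⁻¹ * a⁻¹ * b) * d') * (c * b⁻¹ * c⁻¹ * b) := by group
          _ = d * d' * ((a * b⁻¹ * a⁻¹ * b) * (c * b⁻¹ * c⁻¹ * b)) := by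
            rw [← (hcD d' hd' a ha).eq]; group
          _ = _ := by rw [R.kappa_mul ha hc]; simp only [mul_assoc]
      inv_mem' := by
        rintro _ ⟨d, hd, a, ha, rfl⟩
        have hk := R.kappa_mul ha (inv_mem ha)
        have h1 : a * a⁻¹ * b⁻¹ * (a * a⁻¹)⁻¹ * b = 1 := by group
        rw [h1, mul_one] at hk
        refine ⟨d⁻¹ * (⁅a⁻¹, b⁻¹ * a * b⁆)⁻¹, mul_mem (inv_mem hd) (inv_mem (hdz a ha _ (inv_mem ha))),
          a⁻¹, inv_mem ha, ?_⟩
        rw [mul_inv_rev, ← (hcD d hd a ha).inv_inv.eq, mul_assoc d⁻¹]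
        congr 1
        rw [eq_inv_mul_iff_mul_eq, (hcD _ (hdz a ha _ (inv_mem ha)) a ha).inv_right.eq, ← hk,
          inv_mul_cancel_left] }
  have hle : repl A b ≤ M := by
    refine sup_le (fun d hd => ⟨d, hd, 1, one_mem _, by group⟩) ((closure_le _).mpr ?_)
    rintro _ ⟨a, ha, rfl⟩
    exact ⟨1, one_mem _, a, ha, by group⟩
  exact hle hx

theorem ReplData.repl_comm {x y : G} (hx : x ∈ repl A b) (hy : y ∈ repl A b) :
    x * y = y * x := by
  obtain ⟨d, hd, a, ha, rfl⟩ := (R.mem_repl_iff hodd).mp hx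
  obtain ⟨d', hd', c, hc, rfl⟩ := (R.mem_repl_iff hodd).mp hy
  have hcD : ∀ d ∈ A ⊓ A.map (MulAut.conj (b⁻¹)).toMonoidHom, ∀ a ∈ A,
      Commute d (a * b⁻¹ * a⁻¹ * b) := fun d hd a ha => by
    rw [show a * b⁻¹ * a⁻¹ * b = a * (b⁻¹ * a⁻¹ * b) by group]
    exact (R.central hd (Or.inl ha)).mul_right (R.central hd (Or.inr (conjA_mk (inv_mem ha))))
  have hk : Commute (a * b⁻¹ * a⁻¹ * b) (c * b⁻¹ * c⁻¹ * b) := by
    show _ * _ = _ * _
    rw [R.kappa_mul ha hc, R.kappa_mul hc ha, R.symm hodd hc ha, R.comm hc ha]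
  exact ((show Commute d d' from R.comm hd.1 hd'.1).mul_right (hcD d hd c hc)).mul_left
    ((hcD d' hd' a ha).symm.mul_right hk)

theorem ReplData.isMulCommutative_repl : IsMulCommutative (repl A b) :=
  ⟨⟨fun x y => Subtype.ext (R.repl_comm hodd x.2 y.2)⟩⟩

theorem ReplData.inf_repl : A ⊓ repl A b = A ⊓ A.map (MulAut.conj (b⁻¹)).toMonoidHom := by
  refine le_antisymm ?_ (le_inf inf_le_left (inter_le_repl A b))
  rintro x ⟨hxA, hx⟩
  obtain ⟨d, hd, a, ha, rfl⟩ := (R.mem_repl_iff hodd).mp hx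
  have hka : a * b⁻¹ * a⁻¹ * b ∈ A := by simpa [mul_assoc] using A.mul_mem (A.inv_mem hd.1) hxA
  obtain ⟨e, he, hee⟩ := R.conj_kappa ha
  have hba : b * a * b⁻¹ ∈ A := by
    rw [show b * a * b⁻¹ = (b * (a * b⁻¹ * a⁻¹ * b) * b⁻¹) * a by group, hee]
    exact mul_mem (mul_mem hka (R.hBA he)) ha
  refine mul_mem hd ⟨hka, ?_⟩
  rw [show a * b⁻¹ * a⁻¹ * b = a * (b⁻¹ * a⁻¹ * b) by group]
  exact Subgroup.mul_mem _ (mem_conjA.mpr hba) (conjA_mk (inv_mem ha))

theorem ReplData.card_repl : Nat.card (repl A b) = Nat.card A := by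
  have e1 := Solvable.card_sup_mul_card_inf R.normalizes_repl
  have e2 := Solvable.card_sup_mul_card_inf R.h2
  have hsup : A ⊔ repl A b = A ⊔ A.map (MulAut.conj (b⁻¹)).toMonoidHom :=
    le_antisymm (sup_le le_sup_left (repl_le_sup A b)) (sup_le_repl_sup A b)
  rw [R.inf_repl hodd, hsup, e2] at e1
  have hc : Nat.card (A.map (MulAut.conj (b⁻¹)).toMonoidHom : Subgroup G) = Nat.card A :=
    (Nat.card_congr (A.equivMapOfInjective _ (MulAut.conj (b⁻¹)).injective).toEquiv).symm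
  rw [hc] at e1
  exact (Nat.eq_of_mul_eq_mul_left Nat.card_pos e1).symm

omit hodd in
theorem ReplData.inf_le_repl (hA : A ⊓ B ≤ A) : A ⊓ B ≤ repl A b := by
  rintro x ⟨hx, hxB⟩
  refine inter_le_repl A b ⟨hA ⟨hx, hxB⟩, mem_conjA.mpr ?_⟩
  rw [show b * x * b⁻¹ = ⁅b, x⁆ * x by simp only [commutatorElement_def]; group]
  exact mul_mem (R.hBA (commutator_mem_commutator R.hb hxB)) hx

omit hodd in
theorem ReplData.derived_le_repl : ⁅B, B⁆ ≤ repl A b :=
  R.derived_le.trans (inter_le_repl A b)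

omit hodd in
theorem ReplData.inf_lt (hbA : b ∉ normalizer (A : Set G)) : A ⊓ B < repl A b ⊓ B := by
  refine lt_of_le_of_ne (le_inf (R.inf_le_repl inf_le_left) inf_le_right) fun h => hbA ?_
  have hle : A.map (MulAut.conj (b⁻¹)).toMonoidHom ≤ A := by
    rintro x hx
    have ha := mem_conjA.mp hx
    have hk : (b * x * b⁻¹) * b⁻¹ * (b * x * b⁻¹)⁻¹ * b ∈ A ⊓ B :=
      h ▸ ⟨kappa_mem_repl ha, R.kappa_mem ha⟩
    rw [show x = ((b * x * b⁻¹) * b⁻¹ * (b * x * b⁻¹)⁻¹ * b)⁻¹ * (b * x * b⁻¹) by group]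
    exact mul_mem (inv_mem hk.1) ha
  have heq : A.map (MulAut.conj (b⁻¹)).toMonoidHom = A :=
    Solvable.eq_of_le_of_card_le hle
      (Nat.card_congr (A.equivMapOfInjective _ (MulAut.conj (b⁻¹)).injective).toEquiv).le
  refine (inv_mem_iff (x := b)).mp (mem_normalizer_iff_map_conj_eq.mpr heq)

omit hodd in
theorem ReplData.b_mem_normalizer : b ∈ normalizer (repl A b : Set G) := by
  have hle : repl A b ≤ (repl A b).comap (MulAut.conj b).toMonoidHom := by
    refine sup_le (fun d hd => inter_le_repl A b (R.conj_inter hd)) ((closure_le _).mpr ?_)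
    rintro _ ⟨a, ha, rfl⟩
    obtain ⟨e, he, hee⟩ := R.conj_kappa ha
    show b * (a * b⁻¹ * a⁻¹ * b) * b⁻¹ ∈ repl A b
    rw [hee]
    exact mul_mem (kappa_mem_repl ha) (R.derived_le_repl he)
  refine mem_normalizer_iff_map_conj_eq.mpr
    (Solvable.eq_of_le_of_card_le (map_le_iff_le_comap.mpr hle) ?_)
  exact (Nat.card_congr ((repl A b).equivMapOfInjective _ (MulAut.conj b).injective).toEquiv).le

omit hodd [Finite G] in
theorem ReplData.kappa_pow_eq_one (e : ℕ) (he : Odd e) {a : G} (ha : a ∈ A) (hae : a ^ e = 1) :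
    (a * b⁻¹ * a⁻¹ * b) ^ e = 1 := by
  have hu := conjA_mk (b := b) (inv_mem ha)
  set u := b⁻¹ * a⁻¹ * b with hudef
  have hk : a * b⁻¹ * a⁻¹ * b = a * u := by rw [hudef]; group
  rw [hk]
  have hue : u ^ e = 1 := by
    rw [hudef, show b⁻¹ * a⁻¹ * b = b⁻¹ * a⁻¹ * b⁻¹⁻¹ by group, conj_pow, inv_pow, hae]
    group
  have hz := R.comm_mem ha hu
  have hmp := mul_pow_of_central (x := a) (y := u) (z := ⁅a, u⁆⁻¹)
    (by simp only [commutatorElement_def]; group) (R.central hz (Or.inl ha)).inv_left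
    (R.central hz (Or.inr hu)).inv_left e
  rw [hmp, hae, hue, mul_one, mul_one]
  have hze : ⁅a, u⁆ ^ e = 1 := by
    rw [← R.bracket_pow_right ha hu, hue, commutatorElement_one_right]
  obtain ⟨m, hm⟩ := he
  rw [show e.choose 2 = e * m by
    rw [Nat.choose_two_right, hm, show 2 * m + 1 - 1 = 2 * m by omega, ← mul_assoc,
      mul_comm (2 * m + 1) 2, mul_assoc, Nat.mul_div_cancel_left _ two_pos], pow_mul, inv_pow, hze,
    inv_one, one_pow]

theorem ReplData.pow_eq_one (e : ℕ) (he : Odd e) (hexp : ∀ a ∈ A, a ^ e = 1) {x : G}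
    (hx : x ∈ repl A b) : x ^ e = 1 := by
  obtain ⟨d, hd, a, ha, rfl⟩ := (R.mem_repl_iff hodd).mp hx
  have hcd : Commute d (a * b⁻¹ * a⁻¹ * b) := R.repl_comm hodd (inter_le_repl A b hd)
    (kappa_mem_repl ha)
  rw [hcd.mul_pow, hexp d hd.1, one_mul, R.kappa_pow_eq_one e he ha (hexp a ha)]

omit hodd in
theorem ReplData.card_omegaOne_le {p : ℕ} (hodd : Odd (orderOf b) ∨ IsMulCommutative B)
    (hp : Odd p) : Nat.card (Cfsg.omegaOne p A) ≤ Nat.card (Cfsg.omegaOne p (repl A b)) := by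
  let A0 : Subgroup G :=
    { carrier := {x | x ∈ A ∧ x ^ p = 1}
      one_mem' := ⟨one_mem A, one_pow p⟩
      mul_mem' := fun {x y} hx hy => ⟨mul_mem hx.1 hy.1, by
        rw [(show Commute x y from R.comm hx.1 hy.1).mul_pow, hx.2, hy.2, one_mul]⟩
      inv_mem' := fun {x} hx => ⟨inv_mem hx.1, by rw [inv_pow, hx.2, inv_one]⟩ }
  have hA0 : Cfsg.omegaOne p A = A0 := le_antisymm ((closure_le _).mpr fun x hx => hx) subset_closure
  have hA0A : A0 ≤ A := fun x hx => hx.1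
  have hnA : normalizer (A : Set G) ≤ normalizer (A0 : Set G) := by
    intro g hg
    rw [mem_normalizer_iff]
    intro x
    refine and_congr (mem_normalizer_iff.mp hg x) ?_
    rw [conj_pow]
    exact ⟨fun h => by rw [h, mul_one, mul_inv_cancel], fun h => by
      rw [mul_inv_eq_one] at h; exact mul_eq_left.mp h⟩
  have hphi : A0.map (MulAut.conj (b⁻¹)).toMonoidHom ≤ normalizer (A0 : Set G) :=
    (map_mono hA0A).trans (R.h1.trans hnA)
  have hrepl : repl A0 b ≤ normalizer (A0 : Set G) :=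
    (repl_le_sup A0 b).trans (sup_le le_normalizer hphi)
  have hsub : repl A0 b ≤ repl A b :=
    sup_le ((inf_le_inf hA0A (map_mono hA0A)).trans (inter_le_repl A b))
      ((closure_le _).mpr fun x ⟨a, ha, hxa⟩ => hxa ▸ kappa_mem_repl (hA0A ha))
  have hpow : repl A0 b ≤ Cfsg.omegaOne p (repl A b) := by
    refine sup_le (fun x hx => subset_closure ⟨hsub (inter_le_repl A0 b hx), hx.1.2⟩)
      ((closure_le _).mpr ?_)
    rintro _ ⟨a, ha, rfl⟩
    exact subset_closure ⟨kappa_mem_repl ha.1, R.kappa_pow_eq_one p hp ha.1 ha.2⟩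
  refine le_trans ?_ (Subgroup.card_le_of_le hpow)
  rw [hA0]
  have e1 := Solvable.card_sup_mul_card_inf hphi
  have e2 := Solvable.card_sup_mul_card_inf hrepl
  have h1 : Nat.card ↥(A0.map (MulAut.conj (b⁻¹)).toMonoidHom ⊔ A0) ≤
      Nat.card ↥(repl A0 b ⊔ A0) :=
    Subgroup.card_le_of_le (by
      rw [sup_comm _ A0, sup_comm _ A0]
      exact (sup_le le_sup_left (le_sup_right.trans (sup_le_repl_sup A0 b))))
  have h2 : Nat.card ↥(A0.map (MulAut.conj (b⁻¹)).toMonoidHom ⊓ A0) ≤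
      Nat.card ↥(repl A0 b ⊓ A0) :=
    Subgroup.card_le_of_le (by
      rw [inf_comm _ A0, inf_comm _ A0]
      exact le_inf inf_le_left (inter_le_repl A0 b))
  have hc : Nat.card (A0.map (MulAut.conj (b⁻¹)).toMonoidHom : Subgroup G) = Nat.card A0 :=
    (Nat.card_congr (A0.equivMapOfInjective _ (MulAut.conj (b⁻¹)).injective).toEquiv).symm
  have h3 := Nat.mul_le_mul h1 h2
  rw [e1, e2, hc] at h3
  exact Nat.le_of_mul_le_mul_right h3 Nat.card_pos

omit R hodd

omit [Finite G] in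
theorem replData_of_normalizes {A B : Subgroup G} {b : G} (hA : IsMulCommutative A)
    (hBA : ⁅B, B⁆ ≤ A) (hAB : A ≤ normalizer (B : Set G)) (hb : b ∈ B) {N : Subgroup G}
    (hAN : A ≤ N) (hN : N ≤ normalizer (A : Set G)) (hbN : b ∈ normalizer (N : Set G)) :
    ReplData A B b := by
  refine ⟨hA, hBA, hAB, hb, fun x hx => hN ?_, fun a ha => ?_⟩
  · obtain ⟨a, ha, rfl⟩ := hx
    simpa using (mem_normalizer_iff.mp (inv_mem hbN) a).mp (hAN ha)
  · have h1 : b * a * b⁻¹ ∈ normalizer (A : Set G) :=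
      hN ((mem_normalizer_iff.mp hbN a).mp (hAN ha))
    rw [mem_normalizer_iff]
    intro x
    rw [mem_conjA, mem_conjA, mem_normalizer_iff.mp h1 (b * x * b⁻¹)]
    simp [mul_assoc]

/-- A proper subgroup normalizing `B` and not containing it is normalized by some element of `B`
outside it, in a finite p-group. -/
theorem exists_normalizes_in {p : ℕ} [Fact p.Prime] {B N : Subgroup G}
    (hG : IsPGroup p ↥(N ⊔ B)) (hN : N ≤ normalizer (B : Set G)) (hnot : ¬ B ≤ N) :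
    ∃ b ∈ B, b ∈ normalizer (N : Set G) ∧ b ∉ N := by
  set M := N ⊔ B with hM
  have := hG.isNilpotent
  have hlt : N.subgroupOf M < ⊤ := lt_top_iff_ne_top.mpr fun h =>
    hnot (le_sup_right.trans (subgroupOf_eq_top.mp h))
  obtain ⟨x, hx, hxN⟩ := SetLike.exists_of_lt
    (Group.normalizerCondition_of_isNilpotent (G := M) _ hlt)
  obtain ⟨n, hn, β, hβ, hnβ⟩ := (Solvable.mem_sup_of_le_normalizer hN).mp x.2
  have hxN' : (x : G) ∈ normalizer (N : Set G) := by
    rw [mem_normalizer_iff]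
    intro y
    refine ⟨fun hy => ?_, fun hy => ?_⟩
    · have := (mem_normalizer_iff.mp hx ⟨y, mem_sup_left hy⟩).mp (mem_subgroupOf.mpr hy)
      simpa [mem_subgroupOf] using this
    · have hyM : y ∈ M := by
        have h := mul_mem (mul_mem (inv_mem x.2) (mem_sup_left hy : _ ∈ M)) x.2
        rwa [show (x : G)⁻¹ * ((x : G) * y * (x : G)⁻¹) * x = y by group] at h
      exact mem_subgroupOf.mp ((mem_normalizer_iff.mp hx ⟨y, hyM⟩).mpr (by
        simpa [mem_subgroupOf] using hy))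
  refine ⟨β, hβ, ?_, fun hβN => hxN (mem_subgroupOf.mpr (hnβ ▸ mul_mem hn hβN))⟩
  rw [show β = n⁻¹ * (x : G) by rw [← hnβ]; group]
  exact mul_mem (inv_mem (le_normalizer hn)) hxN'

theorem exists_normalizes {p : ℕ} [Fact p.Prime] (hG : IsPGroup p G) {B N : Subgroup G}
    (hN : N ≤ normalizer (B : Set G)) (hnot : ¬ B ≤ N) :
    ∃ b ∈ B, b ∈ normalizer (N : Set G) ∧ b ∉ N :=
  exists_normalizes_in (hG.to_subgroup _) hN hnot

theorem odd_orderOf {p : ℕ} [Fact p.Prime] (hG : IsPGroup p G) (hp : p ≠ 2) (g : G) :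
    Odd (orderOf g) := by
  obtain ⟨k, hk⟩ := IsPGroup.iff_orderOf.mp hG g
  rw [hk]
  exact ((Fact.out : p.Prime).odd_of_ne_two hp).pow

/-- Replacement inside a p-subgroup: an element of `B` giving replacement data. -/
theorem exists_replacement_in {p : ℕ} [Fact p.Prime] {A B : Subgroup G}
    (hG : IsPGroup p ↥(A ⊔ B)) (hA : IsMulCommutative A) (hBA : ⁅B, B⁆ ≤ A)
    (hAB : A ≤ normalizer (B : Set G)) (hnot : ¬ B ≤ normalizer (A : Set G)) :
    ∃ b, ReplData A B b ∧ b ∈ B ∧ b ∉ normalizer (A : Set G) := by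
  set N := normalizer (A : Set G) ⊓ (A ⊔ B) with hN
  have hNB : N ≤ normalizer (B : Set G) := inf_le_right.trans (sup_le hAB le_normalizer)
  obtain ⟨b, hb, hbN, hbN'⟩ := exists_normalizes_in (hG.to_le (sup_le inf_le_right le_sup_right))
    hNB (fun h => hnot (h.trans inf_le_left))
  exact ⟨b, replData_of_normalizes hA hBA hAB hb (le_inf le_normalizer le_sup_left) inf_le_left hbN,
    hb, fun h => hbN' ⟨h, mem_sup_right hb⟩⟩

/-- Replacement: an abelian subgroup normalized by `B` can be reached. -/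
theorem exists_replacement {p : ℕ} [Fact p.Prime] (hG : IsPGroup p G) {A B : Subgroup G}
    (hA : IsMulCommutative A) (hBA : ⁅B, B⁆ ≤ A) (hAB : A ≤ normalizer (B : Set G))
    (hnot : ¬ B ≤ normalizer (A : Set G)) :
    ∃ b, ReplData A B b ∧ b ∈ B ∧ b ∉ normalizer (A : Set G) :=
  exists_replacement_in (hG.to_subgroup _) hA hBA hAB hnot

end CfsgLib.ZJ
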