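import Cfsg.Agent.ZJ.ZKinds
import Cfsg.Prelude.Def_LocalEven

/-!
In Qd(p) the centre of the Thompson subgroup does not control fusion.
-/

set_option autoImplicit false

namespace CfsgLib.ZJ

open Subgroup

variable {p : ℕ} [Fact p.Prime]

theorem not_controls_qd {X : Type*} [Group X] [Finite X] (hp : p ≠ 2)
    (e : X ≃* ↥(Cfsg.qd p)) :
    ∃ T : Sylow p X, ¬ Cfsg.ControlsStrongFusion p (Cfsg.centerThompsonAOf (T : Subgroup X)) := by
  let el : ZMod p → ZMod p → SL2 (ZMod p) → X := fun c d A =>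
    e.symm ⟨affMat c d A, affMat_mem_qd c d A⟩
  have hmul : ∀ c d A c' d' A', el c d A * el c' d' A' =
      el (c + (A 0 0 * c' + A 0 1 * d')) (d + (A 1 0 * c' + A 1 1 * d')) (A * A') := by
    intro c d A c' d' A'
    simp only [el, ← map_mul]
    congr 1
    exact Subtype.ext (by rw [Subgroup.coe_mul, affMat_mul])
  have hel : ∀ {c d A c' d' A'}, el c d A = el c' d' A' → c = c' ∧ d = d' ∧ A = A' :=
    fun h => affMat_inj (congrArg Subtype.val (e.symm.injective h))
  have hdec : ∀ x : X, ∃ c d A, x = el c d A := by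
    intro x
    obtain ⟨c, d, A, h⟩ := exists_affMat_of_mem_qd (e x).2
    exact ⟨c, d, A, e.injective (by simp only [el, MulEquiv.apply_symm_apply]; exact Subtype.ext h)⟩
  have h1 : el 0 0 1 = 1 := by
    refine e.injective ?_
    simp only [el, MulEquiv.apply_symm_apply, map_one]
    exact Subtype.ext affMat_one
  -- the Sylow subgroup
  let U : Subgroup X :=
    { carrier := {x | ∃ c d a, x = el c d (upper a)}
      one_mem' := ⟨0, 0, 0, by rw [upper_zero, h1]⟩
      mul_mem' := by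
        rintro _ _ ⟨c, d, a, rfl⟩ ⟨c', d', a', rfl⟩
        exact ⟨_, _, a + a', by rw [hmul, upper_mul]⟩
      inv_mem' := by
        rintro _ ⟨c, d, a, rfl⟩
        refine ⟨-(c + (-a) * d), -d, -a, inv_eq_of_mul_eq_one_left ?_⟩
        rw [hmul, upper_mul, neg_add_cancel, upper_zero, upper_00, upper_01, upper_10, upper_11,
          ← h1]
        congr 1 <;> ring }
  let P : Subgroup X :=
    { carrier := {x | ∃ c d, x = el c d 1}
      one_mem' := ⟨0, 0, h1.symm⟩
      mul_mem' := by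
        rintro _ _ ⟨c, d, rfl⟩ ⟨c', d', rfl⟩
        exact ⟨_, _, by rw [hmul, one_mul]⟩
      inv_mem' := by
        rintro _ ⟨c, d, rfl⟩
        refine ⟨-c, -d, inv_eq_of_mul_eq_one_left ?_⟩
        rw [hmul, one_mul, ← h1]
        simp }
  let A' : Subgroup X :=
    { carrier := {x | ∃ c a, x = el c 0 (upper a)}
      one_mem' := ⟨0, 0, by rw [upper_zero, h1]⟩
      mul_mem' := by
        rintro _ _ ⟨c, a, rfl⟩ ⟨c', a', rfl⟩
        exact ⟨c + c', a + a', by rw [hmul, upper_mul]; simp⟩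
      inv_mem' := by
        rintro _ ⟨c, a, rfl⟩
        refine ⟨-c, -a, inv_eq_of_mul_eq_one_left ?_⟩
        rw [hmul, upper_mul, neg_add_cancel, upper_zero, ← h1]
        simp }
  have hPA : IsPGroup p U := by
    refine IsPGroup.of_card (n := 3) ?_
    rw [Nat.card_congr (Equiv.ofBijective (fun z : ZMod p × ZMod p × ZMod p =>
      (⟨el z.1 z.2.1 (upper z.2.2), _, _, _, rfl⟩ : U)) ⟨?_, ?_⟩).symm]
    · simp only [Nat.card_prod, Nat.card_zmod]
      ring
    · rintro ⟨c, d, a⟩ ⟨c', d', a'⟩ h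
      obtain ⟨rfl, rfl, hA⟩ := hel (congrArg Subtype.val h)
      have : a = a' := by simpa using congrArg (fun M : SL2 (ZMod p) => M 0 1) hA
      rw [this]
    · rintro ⟨_, c, d, a, rfl⟩
      exact ⟨(c, d, a), rfl⟩
  obtain ⟨T, hT⟩ := hPA.exists_le_sylow
  refine ⟨T, ?_⟩
  -- `T = U`
  have hTU : (T : Subgroup X) ≤ U := by
    haveI := T.2.isNilpotent
    have hPT : P ≤ (T : Subgroup X) := by
      rintro _ ⟨c, d, rfl⟩
      exact hT ⟨c, d, 0, by rw [upper_zero]⟩
    have hPn : (P.subgroupOf (T : Subgroup X)).Normal := by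
      refine (normal_subgroupOf_iff_le_normalizer hPT).2 fun x _ => ?_
      rw [mem_normalizer_iff]
      have key : ∀ x y : X, y ∈ P → x * y * x⁻¹ ∈ P := by
        rintro x _ ⟨c, d, rfl⟩
        obtain ⟨c', d', A, rfl⟩ := hdec x
        refine ⟨A 0 0 * c + A 0 1 * d, A 1 0 * c + A 1 1 * d, ?_⟩
        rw [mul_inv_eq_iff_eq_mul, hmul, hmul, mul_one, one_mul]
        simp [add_comm]
      intro y
      exact ⟨key x y, fun h => by simpa [mul_assoc] using key x⁻¹ _ h⟩
    have hP1 : P.subgroupOf (T : Subgroup X) ≠ ⊥ := by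
      intro h
      have hmem : (⟨el 1 0 1, hPT ⟨1, 0, rfl⟩⟩ : (T : Subgroup X)) ∈ P.subgroupOf (T : Subgroup X) :=
        mem_subgroupOf.mpr ⟨1, 0, rfl⟩
      rw [h, mem_bot] at hmem
      exact one_ne_zero (hel ((congrArg Subtype.val hmem).trans h1.symm)).1
    obtain ⟨z, hz, hz1⟩ := (bot_or_exists_ne_one _).resolve_left
      (PGroupBasic.inf_center_ne_bot _ hP1)
    obtain ⟨c0, d0, hz0⟩ := mem_subgroupOf.mp hz.1
    intro x hx
    obtain ⟨c, d, A, rfl⟩ := hdec x
    have hcomm : ∀ y ∈ (T : Subgroup X), y * (z : X) = (z : X) * y := fun y hy =>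
      congrArg Subtype.val (mem_center_iff.mp hz.2 ⟨y, hy⟩)
    have hu := hcomm _ (hT ⟨0, 0, 1, rfl⟩)
    rw [hz0, hmul, hmul] at hu
    obtain ⟨hu1, -, -⟩ := hel hu
    have hd0 : d0 = 0 := by simpa using hu1
    subst hd0
    have hc0 : c0 ≠ 0 := by
      rintro rfl
      exact hz1 (Subtype.ext (hz0.trans h1))
    have hA := hcomm _ hx
    rw [hz0, hmul, hmul] at hA
    obtain ⟨hA1, hA2, -⟩ := hel hA
    simp at hA1 hA2
    have h00 : A 0 0 = 1 := by
      have : (A 0 0 - 1) * c0 = 0 := by linear_combination hA1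
      exact sub_eq_zero.mp ((mul_eq_zero.mp this).resolve_right hc0)
    have h10 : A 1 0 = 0 := hA2.resolve_right hc0
    have h11 : A 1 1 = 1 := by
      have := sl2_det A
      rw [h00, h10] at this
      simpa using this
    exact ⟨c, d, A 0 1, congrArg (el c d) (sl2_ext h00 rfl h10 h11)⟩
  have hTeq : (T : Subgroup X) = U := le_antisymm hTU hT
  -- abelian subgroups have order at most p²
  have hbound : ∀ B : Subgroup X, IsMulCommutative B → B ≤ U → Nat.card B ≤ Nat.card (ZMod p × ZMod p) := by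
    intro B hB hBU
    choose cf df af hf using fun x : B => hBU x.2
    by_cases hall : ∀ x : B, af x = 0
    · refine Nat.card_le_card_of_injective (fun x : B => (cf x, df x)) fun x y h => ?_
      simp only [Prod.mk.injEq] at h
      exact Subtype.ext (by rw [hf x, hf y, hall x, hall y, h.1, h.2])
    push Not at hall
    obtain ⟨y, hy⟩ := hall
    refine Nat.card_le_card_of_injective (fun x : B => (cf x, af x)) fun x x' h => ?_
    simp only [Prod.mk.injEq] at h
    have key : ∀ x : B, af y * df x = af x * df y := by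
      intro x
      have hc := congrArg Subtype.val (hB.is_comm.comm x y)
      simp only [Subgroup.coe_mul, hf x, hf y, hmul] at hc
      obtain ⟨hc1, -, -⟩ := hel hc
      simp at hc1
      linear_combination -hc1
    have hd : df x = df x' := mul_left_cancel₀ hy (by rw [key x, key x', h.2])
    exact Subtype.ext (by rw [hf x, hf x', h.1, h.2, hd])
  have hPfam : P ∈ fam (fun A : Subgroup X => IsMulCommutative A) (T : Subgroup X) := by
    refine ⟨⟨⟨?_⟩⟩, ?_, fun B hB hBT => (hbound B hB (hBT.trans hTU)).trans ?_⟩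
    · rintro ⟨_, c, d, rfl⟩ ⟨_, c', d', rfl⟩
      refine Subtype.ext ?_
      show el c d 1 * el c' d' 1 = el c' d' 1 * el c d 1
      simp [hmul, add_comm]
    · rintro _ ⟨c, d, rfl⟩
      exact hT ⟨c, d, 0, by rw [upper_zero]⟩
    · exact Nat.card_le_card_of_injective
        (fun z : ZMod p × ZMod p => (⟨el z.1 z.2 1, _, _, rfl⟩ : P)) fun z z' h => by
          obtain ⟨h1, h2, -⟩ := hel (congrArg Subtype.val h)
          exact Prod.ext h1 h2
  have hAfam : A' ∈ fam (fun A : Subgroup X => IsMulCommutative A) (T : Subgroup X) := by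
    refine ⟨⟨⟨?_⟩⟩, ?_, fun B hB hBT => (hbound B hB (hBT.trans hTU)).trans ?_⟩
    · rintro ⟨_, c, a, rfl⟩ ⟨_, c', a', rfl⟩
      refine Subtype.ext ?_
      show el c 0 (upper a) * el c' 0 (upper a') = el c' 0 (upper a') * el c 0 (upper a)
      simp [hmul, upper_mul, add_comm]
    · rintro _ ⟨c, a, rfl⟩
      exact hT ⟨c, 0, a, rfl⟩
    · exact Nat.card_le_card_of_injective
        (fun z : ZMod p × ZMod p => (⟨el z.1 0 (upper z.2), _, _, rfl⟩ : A')) fun z z' h => by
          obtain ⟨h1, -, h2⟩ := hel (congrArg Subtype.val h)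
          exact Prod.ext h1 (by simpa using congrArg (fun M : SL2 (ZMod p) => M 0 1) h2)
  set Z := Cfsg.centerThompsonAOf (T : Subgroup X) with hZdef
  have hZline : ∀ x ∈ Z, ∃ c, x = el c 0 1 := by
    intro x hx
    rw [hZdef, ← famCenter_abelian_eq] at hx
    obtain ⟨c, d, rfl⟩ := mem_sInf.mp hx _ hPfam
    obtain ⟨c', a, h⟩ := mem_sInf.mp hx _ hAfam
    obtain ⟨rfl, rfl, -⟩ := hel h
    exact ⟨c, rfl⟩
  have hZ1 : Z ≠ ⊥ := (zkind_centerThompsonA hp).ne_bot X _ T.2 (by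
    intro h
    have hmem : el 1 0 1 ∈ (T : Subgroup X) := hT ⟨1, 0, 0, by rw [upper_zero]⟩
    rw [h, mem_bot, ← h1] at hmem
    exact one_ne_zero (hel hmem).1)
  obtain ⟨x, hx, hx1⟩ := Z.bot_or_exists_ne_one.resolve_left hZ1
  obtain ⟨c, rfl⟩ := hZline x hx
  have hc : c ≠ 0 := by rintro rfl; exact hx1 h1
  rintro ⟨T', hZT', hctl⟩
  have hPT' : P ≤ (T' : Subgroup X) := by
    have hPT : P ≤ (T : Subgroup X) := hPfam.2.1
    obtain ⟨g, rfl⟩ := MulAction.exists_smul_eq X T T'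
    intro y hy
    rw [Sylow.coe_subgroup_smul]
    refine ⟨g⁻¹ * y * g, hPT ?_, by simp [mul_assoc]⟩
    obtain ⟨c₁, d₁, rfl⟩ := hy
    obtain ⟨c', d', A, hg⟩ := hdec g⁻¹
    refine ⟨A 0 0 * c₁ + A 0 1 * d₁, A 1 0 * c₁ + A 1 1 * d₁, ?_⟩
    rw [show g⁻¹ * el c₁ d₁ 1 * g = g⁻¹ * el c₁ d₁ 1 * g⁻¹⁻¹ by group, hg, mul_inv_eq_iff_eq_mul,
      hmul, hmul, mul_one, one_mul]
    simp [add_comm]
  obtain ⟨M, hM00, hM01, hM10, hM11⟩ : ∃ M : SL2 (ZMod p),
      M 0 0 = 0 ∧ M 0 1 = -c ∧ M 1 0 = c⁻¹ ∧ M 1 1 = 0 :=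
    ⟨⟨!![0, -c; c⁻¹, 0], by simp [Matrix.det_fin_two, hc]⟩, rfl, rfl, rfl, rfl⟩
  have hconj : el 0 0 M * el c 0 1 * (el 0 0 M)⁻¹ = el 0 1 1 := by
    rw [mul_inv_eq_iff_eq_mul, hmul, hmul, mul_one, one_mul, hM00, hM01, hM10, hM11]
    simp [inv_mul_cancel₀ hc]
  obtain ⟨-, h⟩ := hctl ({el c 0 1} : Set X) (Set.singleton_subset_iff.mpr (hPT' ⟨c, 0, rfl⟩))
  obtain ⟨n, hn, hne⟩ := h (el 0 0 M) (by
    rw [Set.image_singleton, Set.singleton_subset_iff, hconj]
    exact hPT' ⟨0, 1, rfl⟩)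
  have h2 := (mem_normalizer_iff.mp hn _).mp hx
  rw [← hne _ rfl, hconj] at h2
  obtain ⟨c', hc'⟩ := hZline _ h2
  exact one_ne_zero (hel hc').2.1

end CfsgLib.ZJ
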