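import Cfsg.Agent.ZJ.SL2Basic
import Mathlib.GroupTheory.PGroup
import Mathlib.GroupTheory.Coset.Card
import Mathlib.GroupTheory.Subgroup.Centralizer
import Mathlib.GroupTheory.GroupAction.Quotient
import Mathlib.GroupTheory.OrderOfElement

/-!
Dickson's lemma on finite subgroups of SL₂ generated by transvections, in the weak form needed for
quadratic action: a finite subgroup containing `upper 1` and not fixing its line contains a
conjugate of `lower 1` by an upper unitriangular matrix.
-/

set_option autoImplicit false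

namespace CfsgLib.ZJ

open scoped Classical

namespace SL2Count

variable {K : Type*} [Field K] (L : Subgroup (SL2 K))

/-- The `(i, j)` entry of an element of `L`. -/
abbrev ent (g : L) (i j : Fin 2) : K := (g : SL2 K) i j

theorem ent_mul (g h : L) (i j : Fin 2) :
    ent L (g * h) i j = ent L g i 0 * ent L h 0 j + ent L g i 1 * ent L h 1 j :=
  sl2_mul (g : SL2 K) (h : SL2 K) i j

theorem ent_ext {g h : L} (h00 : ent L g 0 0 = ent L h 0 0) (h01 : ent L g 0 1 = ent L h 0 1)
    (h10 : ent L g 1 0 = ent L h 1 0) (h11 : ent L g 1 1 = ent L h 1 1) : g = h :=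
  Subtype.ext (sl2_ext h00 h01 h10 h11)

theorem ent_det (g : L) : ent L g 0 0 * ent L g 1 1 - ent L g 0 1 * ent L g 1 0 = 1 :=
  sl2_det _

theorem ent_inv (g : L) : ent L g⁻¹ 0 0 = ent L g 1 1 ∧ ent L g⁻¹ 0 1 = - ent L g 0 1 ∧
    ent L g⁻¹ 1 0 = - ent L g 1 0 ∧ ent L g⁻¹ 1 1 = ent L g 0 0 :=
  sl2_inv _

theorem ent_one : ent L 1 0 0 = 1 ∧ ent L 1 0 1 = 0 ∧ ent L 1 1 0 = 0 ∧ ent L 1 1 1 = 1 := by
  simp [ent]

/-- The trace. -/
def tr (g : L) : K := ent L g 0 0 + ent L g 1 1

/-- The stabilizer of the line of the first basis vector. -/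
def borel : Subgroup L where
  carrier := {g | ent L g 1 0 = 0}
  one_mem' := (ent_one L).2.2.1
  mul_mem' {a b} (ha : ent L a 1 0 = 0) (hb : ent L b 1 0 = 0) := by
    show ent L (a * b) 1 0 = 0
    rw [ent_mul, ha, hb]; ring
  inv_mem' {a} (ha : ent L a 1 0 = 0) := by
    show ent L a⁻¹ 1 0 = 0
    rw [(ent_inv L a).2.2.1, ha, neg_zero]

/-- The unipotent radical of the Borel subgroup. -/
def unip : Subgroup L where
  carrier := {g | ent L g 1 0 = 0 ∧ ent L g 0 0 = 1}
  one_mem' := ⟨(ent_one L).2.2.1, (ent_one L).1⟩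
  mul_mem' {a b} ha hb := by
    show ent L (a * b) 1 0 = 0 ∧ ent L (a * b) 0 0 = 1
    rw [ent_mul, ent_mul, ha.1, hb.1, ha.2, hb.2]
    constructor <;> ring
  inv_mem' {a} ha := by
    show ent L a⁻¹ 1 0 = 0 ∧ ent L a⁻¹ 0 0 = 1
    rw [(ent_inv L a).2.2.1, (ent_inv L a).1, ha.1]
    refine ⟨neg_zero, ?_⟩
    have := ent_det L a
    rw [ha.1, ha.2] at this
    linear_combination this

/-- The centralizer of a nontrivial element of the unipotent radical. -/
def uz : Subgroup L where
  carrier := {g | ent L g 1 0 = 0 ∧ ent L g 0 0 = ent L g 1 1}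
  one_mem' := ⟨(ent_one L).2.2.1, by rw [(ent_one L).1, (ent_one L).2.2.2]⟩
  mul_mem' {a b} ha hb := by
    show ent L (a * b) 1 0 = 0 ∧ ent L (a * b) 0 0 = ent L (a * b) 1 1
    rw [ent_mul, ent_mul, ent_mul, ha.1, hb.1, ha.2, hb.2]
    constructor <;> ring
  inv_mem' {a} ha := by
    show ent L a⁻¹ 1 0 = 0 ∧ ent L a⁻¹ 0 0 = ent L a⁻¹ 1 1
    rw [(ent_inv L a).2.2.1, (ent_inv L a).1, (ent_inv L a).2.2.2, ha.1, ha.2]
    exact ⟨neg_zero, rfl⟩

theorem mem_borel {g : L} : g ∈ borel L ↔ ent L g 1 0 = 0 := Iff.rfl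
theorem mem_unip {g : L} : g ∈ unip L ↔ ent L g 1 0 = 0 ∧ ent L g 0 0 = 1 := Iff.rfl
theorem mem_uz {g : L} : g ∈ uz L ↔ ent L g 1 0 = 0 ∧ ent L g 0 0 = ent L g 1 1 := Iff.rfl

theorem unip_11 {g : L} (hg : g ∈ unip L) : ent L g 1 1 = 1 := by
  have := ent_det L g
  rw [hg.1, hg.2] at this
  linear_combination this

theorem unip_le_uz : unip L ≤ uz L := fun g hg =>
  ⟨hg.1, by rw [hg.2, unip_11 L hg]⟩

theorem uz_le_borel : uz L ≤ borel L := fun _ hg => hg.1

/-- The central elements of `L` that are scalar. -/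
noncomputable def scalars : Finset (SL2 K) := {1, -1}

/-- `g` is not a scalar matrix. -/
def NonScalar (g : L) : Prop :=
  ¬ (ent L g 0 1 = 0 ∧ ent L g 1 0 = 0 ∧ ent L g 0 0 = ent L g 1 1)

theorem scalar_iff {g : L} : ¬ NonScalar L g ↔ (g : SL2 K) = 1 ∨ (g : SL2 K) = -1 := by
  constructor
  · intro h
    obtain ⟨h01, h10, h00⟩ := not_not.mp h
    have hd := ent_det L g
    rw [h01, h10, ← h00] at hd
    have : (ent L g 0 0 - 1) * (ent L g 0 0 + 1) = 0 := by linear_combination hd
    rcases mul_eq_zero.mp this with h' | h'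
    · left
      have e : ent L g 0 0 = 1 := sub_eq_zero.mp h'
      exact sl2_ext (e.trans (by simp)) (h01.trans (by simp)) (h10.trans (by simp))
        ((h00.symm.trans e).trans (by simp))
    · right
      have e : ent L g 0 0 = -1 := eq_neg_of_add_eq_zero_left h'
      exact sl2_ext (e.trans (by simp)) (h01.trans (by simp)) (h10.trans (by simp))
        ((h00.symm.trans e).trans (by simp))
  · intro h hns
    apply hns
    rcases h with h | h <;> simp [ent, h]

/-- The centralizer of an element. -/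
abbrev cz (g : L) : Subgroup L := Subgroup.centralizer {g}

theorem mem_cz {g h : L} : h ∈ cz L g ↔ h * g = g * h := by
  simp [cz, Subgroup.mem_centralizer_singleton_iff]

theorem self_mem_cz (g : L) : g ∈ cz L g := (mem_cz L).mpr rfl

theorem comm_of_cz {g h k : L} (hg : NonScalar L g) (h1 : h ∈ cz L g) (h2 : k ∈ cz L g) :
    h * k = k * h :=
  Subtype.ext (sl2_comm_of_comm hg (congrArg Subtype.val ((mem_cz L).mp h1)).symm
    (congrArg Subtype.val ((mem_cz L).mp h2)).symm)

theorem cz_eq_of_mem {g h : L} (hg : NonScalar L g) (hh : NonScalar L h) (hm : h ∈ cz L g) :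
    cz L h = cz L g := by
  apply le_antisymm
  · intro k hk
    rw [mem_cz]
    exact comm_of_cz L hh hk ((mem_cz L).mpr ((mem_cz L).mp hm).symm)
  · intro k hk
    rw [mem_cz]
    exact comm_of_cz L hg hk hm

theorem cz_of_unip {e : L} (he : e ∈ unip L) (h1 : e ≠ 1) : cz L e = uz L := by
  have h11 := unip_11 L he
  have ha : ent L e 0 1 ≠ 0 := by
    intro h0
    apply h1
    apply ent_ext <;> simp only [(ent_one L).1, (ent_one L).2.1, (ent_one L).2.2.1,
      (ent_one L).2.2.2, he.1, he.2, h11, h0]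
  ext k
  rw [mem_cz, mem_uz]
  constructor
  · intro hk
    have eu : (e : SL2 K) = upper (ent L e 0 1) := sl2_ext he.2 rfl he.1 h11
    have := congrArg Subtype.val hk
    simp only [Subgroup.coe_mul, eu] at this
    exact comm_upper ha this.symm
  · intro hk
    apply ent_ext <;> simp only [ent_mul, he.1, he.2, h11, hk.1, hk.2] <;> ring

theorem nonScalar_of_unip {e : L} (he : e ∈ unip L) (h1 : e ≠ 1) : NonScalar L e := by
  intro h
  apply h1
  apply ent_ext <;> simp only [(ent_one L).1, (ent_one L).2.1, (ent_one L).2.2.1,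
      (ent_one L).2.2.2, he.1, he.2, unip_11 L he, h.1]

/-- Conjugation on the subgroups of `L`. -/
abbrev cj (x : L) (A : Subgroup L) : Subgroup L := A.map (MulAut.conj x).toMonoidHom

theorem mem_cj {x y : L} {A : Subgroup L} : y ∈ cj L x A ↔ x⁻¹ * y * x ∈ A := by
  constructor
  · rintro ⟨a, ha, rfl⟩
    simpa [MulAut.conj_apply, mul_assoc] using ha
  · intro h
    exact ⟨_, h, by simp [mul_assoc]⟩

theorem cj_cj (x y : L) (A : Subgroup L) : cj L x (cj L y A) = cj L (x * y) A := by
  ext z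
  rw [mem_cj, mem_cj, mem_cj]
  simp [mul_assoc]

theorem cj_one (A : Subgroup L) : cj L 1 A = A := by
  ext z
  simp [mem_cj]

theorem cz_cj (x g : L) : cj L x (cz L g) = cz L (x * g * x⁻¹) := by
  ext y
  rw [mem_cj, mem_cz, mem_cz]
  constructor
  · intro h
    calc y * (x * g * x⁻¹) = x * ((x⁻¹ * y * x) * g) * x⁻¹ := by group
      _ = x * (g * (x⁻¹ * y * x)) * x⁻¹ := by rw [h]
      _ = _ := by group
  · intro h
    calc x⁻¹ * y * x * g = x⁻¹ * (y * (x * g * x⁻¹)) * x := by group
      _ = x⁻¹ * ((x * g * x⁻¹) * y) * x := by rw [h]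
      _ = _ := by group

theorem nonScalar_conj {x g : L} (hg : NonScalar L g) : NonScalar L (x * g * x⁻¹) := by
  intro h
  apply hg
  have h' := (scalar_iff L (g := x * g * x⁻¹)).mp (not_not.mpr h)
  have hc : ¬ NonScalar L g := by
    rw [scalar_iff]
    have e : (g : SL2 K) = (x : SL2 K)⁻¹ * ((x * g * x⁻¹ : L) : SL2 K) * (x : SL2 K) := by
      simp [mul_assoc]
    rcases h' with h' | h'
    · left; rw [e, h']; simp
    · right; rw [e, h']; simp
  exact not_not.mp hc

variable [Finite L]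

/-- The orbit of a subgroup under conjugation. -/
noncomputable def orb (A : Subgroup L) : Finset (Subgroup L) :=
  letI := Fintype.ofFinite L
  Finset.univ.image fun x : L => cj L x A

theorem mem_orb {A C : Subgroup L} : C ∈ orb L A ↔ ∃ x, cj L x A = C := by
  simp [orb]

theorem self_mem_orb (A : Subgroup L) : A ∈ orb L A := (mem_orb L).mpr ⟨1, cj_one L A⟩

theorem orb_eq_of_mem {A C : Subgroup L} (h : C ∈ orb L A) : orb L C = orb L A := by
  obtain ⟨x, rfl⟩ := (mem_orb L).mp h
  ext D
  simp only [mem_orb, cj_cj]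
  constructor
  · rintro ⟨y, hy⟩; exact ⟨_, hy⟩
  · rintro ⟨y, hy⟩; exact ⟨y * x⁻¹, by simpa using hy⟩

omit [Finite L] in
theorem card_cj (x : L) (A : Subgroup L) : Nat.card (cj L x A) = Nat.card A :=
  Subgroup.card_map_of_injective (MulEquiv.injective _)

theorem card_orb (A : Subgroup L) :
    (orb L A).card * Nat.card (Subgroup.normalizer (A : Set L)) = Nat.card L := by
  let _ := Fintype.ofFinite L
  have key : ∀ x y : L, cj L x A = cj L y A ↔ x⁻¹ * y ∈ Subgroup.normalizer (A : Set L) := by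
    intro x y
    rw [Subgroup.mem_normalizer_iff]
    constructor
    · intro h a
      have h2 := SetLike.ext_iff.mp h (y * a * y⁻¹)
      simp only [mem_cj] at h2
      simpa [mul_assoc] using h2.symm
    · intro h
      ext z
      rw [mem_cj, mem_cj, h (y⁻¹ * z * y)]
      simp [mul_assoc]
  let e : L ⧸ Subgroup.normalizer (A : Set L) ≃ (orb L A : Finset (Subgroup L)) :=
    Equiv.ofBijective
      (fun q => Quotient.liftOn' q (fun x => (⟨cj L x A, (mem_orb L).mpr ⟨x, rfl⟩⟩ :
          (orb L A : Finset (Subgroup L))))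
        (fun x y h => Subtype.ext ((key x y).mpr (QuotientGroup.leftRel_apply.mp h))))
      ⟨fun q r => Quotient.inductionOn₂' q r fun x y h =>
          Quotient.sound' (QuotientGroup.leftRel_apply.mpr ((key x y).mp (congrArg Subtype.val h))),
        fun C => by
          obtain ⟨x, hx⟩ := (mem_orb L).mp C.2
          exact ⟨QuotientGroup.mk x, Subtype.ext hx⟩⟩
  have h1 : (orb L A).card = Nat.card (L ⧸ Subgroup.normalizer (A : Set L)) := by
    rw [Nat.card_congr e, Nat.card_eq_fintype_card, Fintype.card_coe]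
  rw [h1, ← Subgroup.card_eq_card_quotient_mul_card_subgroup]

/-- The family of centralizers of non-scalar elements. -/
noncomputable def fam : Finset (Subgroup L) :=
  letI := Fintype.ofFinite L
  (Finset.univ.filter fun g : L => NonScalar L g).image (cz L)

theorem mem_fam {A : Subgroup L} : A ∈ fam L ↔ ∃ g, NonScalar L g ∧ cz L g = A := by
  simp [fam]

theorem orb_subset_fam {A : Subgroup L} (hA : A ∈ fam L) : orb L A ⊆ fam L := by
  intro C hC
  obtain ⟨x, rfl⟩ := (mem_orb L).mp hC
  obtain ⟨g, hg, rfl⟩ := (mem_fam L).mp hA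
  exact (mem_fam L).mpr ⟨_, nonScalar_conj L hg, (cz_cj L x g).symm⟩

end SL2Count

end CfsgLib.ZJ
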