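import Cfsg.Agent.ZJ.Inherit

/-!
Quadratic elements outside the p-core: a commuting involution.
-/

set_option autoImplicit false
set_option linter.style.haveILetI false

namespace CfsgLib.ZJ

open Subgroup
open scoped commutatorElement

universe u

variable {p : ℕ} [Fact p.Prime]

/-- An element is in the p-core modulo the centralizer of a normal p-subgroup if it is so on every
elementary abelian section by normal subgroups. -/
theorem pcoreMod_of_sections {G : Type u} [Group G] [Finite G] (R : Subgroup G) [R.Normal]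
    (hR : IsPGroup p R) (g : G)
    (hsec : ∀ (M : Subgroup G) [M.Normal], M ≤ R → ∀ V : Subgroup (G ⧸ M), V.Normal →
      Cfsg.IsElementaryAbelian p V → V ≤ R.map (QuotientGroup.mk' M) →
      PCoreMod p ((centralizer (V : Set (G ⧸ M))).comap (QuotientGroup.mk' M)) g) :
    PCoreMod p (centralizer (R : Set G)) g := by
  obtain ⟨M, ⟨hMn, hMR, hgM⟩, hmax⟩ := Set.exists_max_image
    {M : Subgroup G | M.Normal ∧ M ≤ R ∧ PCoreMod p (centralizer (M : Set G)) g}
    (fun M => Nat.card M) (Set.toFinite _)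
    ⟨⊥, inferInstance, bot_le, ⊤, inferInstance, mem_top g, fun x _ => ⟨0, mem_centralizer_iff.mpr fun y hy => by simp [mem_bot.mp hy]⟩⟩
  by_cases hMeq : M = R
  · exact hMeq ▸ hgM
  exfalso
  set π := QuotientGroup.mk' M with hπ
  have hRb : R.map π ≠ ⊥ := fun h => hMeq (le_antisymm hMR (by
    rwa [Subgroup.map_eq_bot_iff, QuotientGroup.ker_mk'] at h))
  haveI : (R.map π).Normal := Normal.map inferInstance _ (QuotientGroup.mk'_surjective M)
  have hRp : IsPGroup p (R.map π) := hR.map π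
  have hsol : Group.IsSolvable (R.map π) := by
    haveI := hRp.isNilpotent
    infer_instance
  obtain ⟨V, hVn, hV1, hVR, hVc, -, q, hq', hVq, -⟩ :=
    Solvable.exists_normal_elementary_le (N := R.map π) hRb hsol
  have hV : Cfsg.IsElementaryAbelian p V := by
    obtain ⟨x, hx, hx1'⟩ := V.bot_or_exists_ne_one.resolve_left hV1
    obtain ⟨k, hk⟩ := (hRp.to_le hVR) ⟨x, hx⟩
    have hk' : x ^ p ^ k = 1 := by simpa using congrArg Subtype.val hk
    have hqp : q = p := by
      haveI := Fact.mk hq'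
      have hd := orderOf_dvd_of_pow_eq_one hk'
      rw [orderOf_eq_prime (hVq x hx) hx1'] at hd
      exact (Nat.prime_dvd_prime_iff_eq hq' Fact.out).mp (hq'.dvd_of_dvd_pow hd)
    exact ⟨hVc, hqp ▸ hVq⟩
  set M' := V.comap π with hM'
  have hMM' : M ≤ M' := fun x hx => by
    rw [hM', mem_comap, show π x = 1 from (QuotientGroup.eq_one_iff x).mpr hx]
    exact V.one_mem
  have hM'R : M' ≤ R := (comap_mono hVR).trans (by
    rw [comap_map_eq, QuotientGroup.ker_mk']
    exact sup_le le_rfl hMR)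
  have hlt : M < M' := lt_of_le_of_ne hMM' fun he => hV1 (by
    rw [← map_comap_eq_self_of_surjective (QuotientGroup.mk'_surjective M) V, ← hπ, ← hM', ← he,
      Subgroup.map_eq_bot_iff, QuotientGroup.ker_mk'])
  have hnot : ¬ PCoreMod p (centralizer (M' : Set G)) g := fun h =>
    absurd (hmax M' ⟨hVn.comap _, hM'R, h⟩)
      (not_le.mpr (Solvable.card_lt_of_lt hlt))
  obtain ⟨D, hD, hgD, hDp⟩ := hgM
  haveI := hMn
  obtain ⟨D2, hD2, hgD2, hD2p⟩ := hsec M hMR V hVn hV hVR
  refine hnot ⟨D ⊓ D2, inferInstance, ⟨hgD, hgD2⟩, fun x hx => ?_⟩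
  obtain ⟨k1, hk1⟩ := hDp x hx.1
  obtain ⟨k2, hk2⟩ := hD2p x hx.2
  have h2 : π (x ^ p ^ (k1 + k2)) ∈ centralizer (V : Set (G ⧸ M)) := by
    rw [pow_add, mul_comm, pow_mul, map_pow]
    exact pow_mem (mem_comap.mp hk2) _
  obtain ⟨k, hk⟩ := pow_mem_centralizer_of_step (hR.to_le hMR) (x := x ^ p ^ (k1 + k2))
    (B := M') (by rw [pow_add, pow_mul]; exact pow_mem hk1 _) (fun u hu => by
      refine (QuotientGroup.eq_one_iff _).mp ?_
      show π (x ^ p ^ (k1 + k2) * u * (x ^ p ^ (k1 + k2))⁻¹ * u⁻¹) = 1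
      rw [map_mul, map_mul, map_mul, map_inv, map_inv, ← mem_centralizer_iff.mp h2 _ hu,
        mul_inv_cancel_right, mul_inv_cancel])
  exact ⟨k1 + k2 + k, by rw [pow_add, pow_mul]; exact hk⟩

/-- In a ring, `Xⁿ + X⁻ⁿ` commutes with `A` when `X = (1 + B)(1 + A)` with `A² = B² = 0`. -/
theorem commute_pow_add_pow {R : Type*} [Ring R] {A B : R} (hA : A * A = 0) (hB : B * B = 0)
    (n : ℕ) : Commute (((1 + B) * (1 + A)) ^ n + ((1 - A) * (1 - B)) ^ n) A := by
  set X := (1 + B) * (1 + A) with hX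
  set Y := (1 - A) * (1 - B) with hY
  have hA' : ∀ t : R, A * (A * t) = 0 := fun t => by rw [← mul_assoc, hA, zero_mul]
  have hB' : ∀ t : R, B * (B * t) = 0 := fun t => by rw [← mul_assoc, hB, zero_mul]
  have hXY : X * Y = 1 := by
    rw [hX, hY]
    simp only [mul_add, add_mul, mul_sub, sub_mul, mul_one, one_mul, mul_assoc, hA, hB, hA', hB',
      mul_zero]
    abel
  have hYX : Y * X = 1 := by
    rw [hX, hY]
    simp only [mul_add, add_mul, mul_sub, sub_mul, mul_one, one_mul, mul_assoc, hA, hB, hA', hB',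
      mul_zero]
    abel
  have h1 : Commute (X + Y) A := by
    show (X + Y) * A = A * (X + Y)
    rw [hX, hY]
    simp only [mul_add, add_mul, mul_sub, sub_mul, mul_one, one_mul, mul_assoc, hA, hB, hA', hB',
      mul_zero]
    abel
  suffices ∀ n, Commute (X ^ n + Y ^ n) A ∧ Commute (X ^ (n + 1) + Y ^ (n + 1)) A from (this n).1
  intro n
  induction n with
  | zero =>
    refine ⟨?_, by simpa using h1⟩
    rw [pow_zero, pow_zero]
    exact (Commute.one_left A).add_left (Commute.one_left A)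
  | succ n ih =>
    refine ⟨ih.2, ?_⟩
    have e : X ^ (n + 1 + 1) + Y ^ (n + 1 + 1) =
        (X + Y) * (X ^ (n + 1) + Y ^ (n + 1)) - (X ^ n + Y ^ n) := by
      have e1 : X * Y ^ (n + 1) = Y ^ n := by rw [pow_succ', ← mul_assoc, hXY, one_mul]
      have e2 : Y * X ^ (n + 1) = X ^ n := by rw [pow_succ', ← mul_assoc, hYX, one_mul]
      rw [add_mul, mul_add, mul_add, e1, e2, ← pow_succ', ← pow_succ']
      abel
    rw [e]
    exact (h1.mul_left ih.2).sub_left ih.1

section Rep

variable {G : Type u} [Group G] {V : Type*} [AddCommGroup V] [Module (ZMod p) V]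

theorem sq_zero_conj (ρ : G →* Module.End (ZMod p) V) (a g : G)
    (ha : (ρ a - 1) * (ρ a - 1) = 0) : (ρ (g * a * g⁻¹) - 1) * (ρ (g * a * g⁻¹) - 1) = 0 := by
  have h1 : ρ g * ρ g⁻¹ = 1 := by rw [← map_mul, mul_inv_cancel, map_one]
  have h2 : ρ g⁻¹ * ρ g = 1 := by rw [← map_mul, inv_mul_cancel, map_one]
  have h3 : ρ (g * a * g⁻¹) - 1 = ρ g * (ρ a - 1) * ρ g⁻¹ := by
    rw [map_mul, map_mul, mul_sub, sub_mul, mul_one, h1]
  rw [h3, mul_assoc _ (ρ g⁻¹), ← mul_assoc (ρ g⁻¹) (ρ g * (ρ a - 1)),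
    ← mul_assoc (ρ g⁻¹) (ρ g), h2, one_mul, ← mul_assoc, mul_assoc (ρ g) (ρ a - 1) (ρ a - 1),
    ha, mul_zero, zero_mul]

theorem rep_inv_of_sq_zero (ρ : G →* Module.End (ZMod p) V) (a : G)
    (ha : (ρ a - 1) * (ρ a - 1) = 0) : ρ a⁻¹ = 1 - (ρ a - 1) := by
  set A := ρ a - 1 with hA
  have h : ρ a * (1 - A) = 1 := by
    rw [show ρ a = 1 + A by rw [hA]; abel, add_mul, one_mul, mul_sub, mul_one, ha]
    abel
  calc ρ a⁻¹ = ρ a⁻¹ * (ρ a * (1 - A)) := by rw [h, mul_one]
    _ = 1 - A := by rw [← mul_assoc, ← map_mul, inv_mul_cancel, map_one, one_mul]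

/-- An involution in the group generated by a product of two quadratic elements commutes with them. -/
theorem commute_of_sq_eq_one (hp : p ≠ 2) (ρ : G →* Module.End (ZMod p) V) (a b : G) (n : ℕ)
    (ha : (ρ a - 1) * (ρ a - 1) = 0) (hb : (ρ b - 1) * (ρ b - 1) = 0)
    (h2 : ρ ((b * a) ^ n) * ρ ((b * a) ^ n) = 1) : Commute (ρ ((b * a) ^ n)) (ρ a) := by
  set A := ρ a - 1 with hA
  set B := ρ b - 1 with hB
  have hX : ρ (b * a) = (1 + B) * (1 + A) := by
    rw [map_mul, hA, hB, add_sub_cancel, add_sub_cancel]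
  have hY : ρ (b * a)⁻¹ = (1 - A) * (1 - B) := by
    rw [mul_inv_rev, map_mul, rep_inv_of_sq_zero ρ a ha, rep_inv_of_sq_zero ρ b hb]
  have hc := commute_pow_add_pow ha hb n
  rw [← hX, ← hY, ← map_pow, ← map_pow, inv_pow] at hc
  set J := ρ ((b * a) ^ n) with hJ
  have hJi : ρ ((b * a) ^ n)⁻¹ = J := by
    calc ρ ((b * a) ^ n)⁻¹ = ρ ((b * a) ^ n)⁻¹ * (J * J) := by rw [h2, mul_one]
      _ = J := by rw [← mul_assoc, hJ, ← map_mul, inv_mul_cancel, map_one, one_mul]
  rw [hJi] at hc
  have hJA : J * A = A * J := by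
    have h : (J + J) * A = A * (J + J) := hc
    rw [add_mul, mul_add, ← sub_eq_zero] at h
    have h' : (2 : ZMod p) • (J * A - A * J) = 0 := by
      rw [two_smul, ← h]; abel
    exact sub_eq_zero.mp ((smul_eq_zero.mp h').resolve_left (two_ne_zero_zmod hp))
  show J * ρ a = ρ a * J
  rw [show ρ a = 1 + A by rw [hA, add_sub_cancel], mul_add, add_mul, mul_one, one_mul, hJA]

end Rep

/-- A quadratic element outside the p-core modulo the centralizer commutes, modulo that p-core, with
an element acting as an involution. -/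
theorem exists_commuting_involution {G : Type u} [Group G] [Finite G] (hp : p ≠ 2) (B : Subgroup G)
    [B.Normal] (hB : IsPGroup p B) (a : G) (hq : ⁅⁅B, zpowers a⁆, zpowers a⁆ = ⊥)
    (hn : ¬ PCoreMod p (centralizer (B : Set G)) a) :
    ∃ j : G, j ∉ centralizer (B : Set G) ∧ j ^ 2 ∈ centralizer (B : Set G) ∧
      PCoreMod p (centralizer (B : Set G)) ⁅j, a⁆ := by
  -- the action on a section
  have hsq : ∀ (M : Subgroup G) [M.Normal] (V : Subgroup (G ⧸ M))
      (hV : Cfsg.IsElementaryAbelian p V) (hVB : V ≤ B.map (QuotientGroup.mk' M))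
      (hH : ∀ x, x ∈ normalizer (V : Set (G ⧸ M))),
      let ρ : G →* Module.End (ZMod p) (ElabMod V hV) :=
        (conjEnd hV).comp ((QuotientGroup.mk' M).codRestrict _ fun x => hH (QuotientGroup.mk' M x))
      ((ρ a - 1) * (ρ a - 1) = 0) ∧
        (ρ.ker = (centralizer (V : Set (G ⧸ M))).comap (QuotientGroup.mk' M)) ∧
        (centralizer (B : Set G) ≤ ρ.ker) := by
    intro M _ V hV hVB hH ρ
    have hker : ρ.ker = (centralizer (V : Set (G ⧸ M))).comap (QuotientGroup.mk' M) :=
      Subgroup.ext fun x => conjEnd_eq_one_iff hV ⟨QuotientGroup.mk' M x, hH _⟩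
    refine ⟨conjEnd_quadratic hV ⟨QuotientGroup.mk' M a, hH _⟩ ?_, hker, ?_⟩
    · refine le_bot_iff.mp ((commutator_mono (commutator_mono hVB le_rfl) le_rfl).trans ?_)
      rw [← MonoidHom.map_zpowers, ← map_commutator, ← map_commutator, hq, Subgroup.map_bot]
    · intro x hx
      rw [hker, mem_comap, mem_centralizer_iff]
      intro v hv
      obtain ⟨u, hu, rfl⟩ := hVB hv
      rw [← map_mul, ← map_mul, mem_centralizer_iff.mp hx u hu]
  -- a section on which `a` is not in the p-core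
  obtain ⟨M, hMn, -, V, hVn, hV, hVB, hnV⟩ : ∃ (M : Subgroup G) (_ : M.Normal), M ≤ B ∧
      ∃ V : Subgroup (G ⧸ M), V.Normal ∧ Cfsg.IsElementaryAbelian p V ∧
        V ≤ B.map (QuotientGroup.mk' M) ∧
        ¬ PCoreMod p ((centralizer (V : Set (G ⧸ M))).comap (QuotientGroup.mk' M)) a := by
    by_contra hcon
    refine hn (pcoreMod_of_sections B hB a fun M _ hMB V hVn hV hVB => ?_)
    by_contra hnV
    exact hcon ⟨M, inferInstance, hMB, V, hVn, hV, hVB, hnV⟩
  haveI := hMn
  haveI := hVn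
  obtain ⟨hqρ, hkerρ, hCρ⟩ := hsq M V hV hVB fun x => by
    rw [normalizer_eq_top (H := V)]; exact mem_top x
  set ρ : G →* Module.End (ZMod p) (ElabMod V hV) :=
    (conjEnd hV).comp ((QuotientGroup.mk' M).codRestrict _ fun x => by
      rw [normalizer_eq_top (H := V)]; exact mem_top _) with hρ
  rw [← hkerρ] at hnV
  obtain ⟨g, v, w, hvw⟩ := exists_plane_of_not_pcoreMod hp ρ a hqρ hnV
  set X := g * a * g⁻¹ * a with hX
  -- the order of `X` modulo the centralizer is even
  set o := orderOf (QuotientGroup.mk' (centralizer (B : Set G)) X) with ho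
  have hXo : X ^ o ∈ centralizer (B : Set G) := by
    refine (QuotientGroup.eq_one_iff _).mp ?_
    show QuotientGroup.mk' _ (X ^ o) = 1
    rw [map_pow, ho, pow_orderOf_eq_one]
  have heven : Even o := by
    rw [← Nat.not_odd_iff_even]
    intro hodd
    have h1 : ρ (X ^ o) = 1 := MonoidHom.mem_ker.mp (hCρ hXo)
    have hv' : ρ X v = v - w := by
      rw [hX, map_mul, Module.End.mul_apply, hvw.fv, hvw.fv']
    have hw' : ρ X w = v := by
      rw [hX, map_mul, Module.End.mul_apply, hvw.fw, map_add, hvw.fw', hvw.fv']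
      abel
    have h3 : ρ (X ^ 3) v = -v := by
      rw [map_pow, pow_succ, pow_succ, pow_one]
      simp only [Module.End.mul_apply, hv', map_sub, hw']
      abel
    have h4 : ∀ i : ℕ, Odd i → ρ (X ^ (3 * i)) v = -v := by
      intro i hi
      obtain ⟨l, rfl⟩ := hi
      induction l with
      | zero => simpa using h3
      | succ l ih =>
        rw [show 3 * (2 * (l + 1) + 1) = 3 + (3 + 3 * (2 * l + 1)) by ring, pow_add, pow_add, map_mul,
          map_mul, Module.End.mul_apply, Module.End.mul_apply, ih, map_neg, h3, neg_neg, h3]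
    have h5 := h4 o hodd
    rw [mul_comm, pow_mul, map_pow, h1, one_pow, Module.End.one_apply] at h5
    obtain ⟨e, -⟩ := hvw.ind 2 0 (by rw [zero_smul, add_zero, two_smul]; nth_rewrite 2 [h5]; exact add_neg_cancel v)
    exact two_ne_zero_zmod hp e
  obtain ⟨l, hl⟩ := heven
  have hopos : 0 < o := orderOf_pos _
  refine ⟨X ^ l, fun h => ?_, ?_, ?_⟩
  · have h1 : (QuotientGroup.mk' (centralizer (B : Set G)) X) ^ l = 1 := by
      rw [← map_pow]; exact (QuotientGroup.eq_one_iff _).mpr h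
    exact absurd (Nat.le_of_dvd (by omega) (orderOf_dvd_of_pow_eq_one h1)) (by omega)
  · rw [← pow_mul, show l * 2 = o by omega]
    exact hXo
  · refine pcoreMod_of_sections B hB _ fun M' _ _ V' hV'n hV' hV'B => ?_
    haveI := hV'n
    obtain ⟨hq', hker', hC'⟩ := hsq M' V' hV' hV'B fun x => by
      rw [normalizer_eq_top (H := V')]; exact mem_top x
    set ρ' : G →* Module.End (ZMod p) (ElabMod V' hV') :=
      (conjEnd hV').comp ((QuotientGroup.mk' M').codRestrict _ fun x => by
        rw [normalizer_eq_top (H := V')]; exact mem_top _) with hρ'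
    have hc : Commute (ρ' (X ^ l)) (ρ' a) := by
      refine commute_of_sq_eq_one hp ρ' a (g * a * g⁻¹) l hq' (sq_zero_conj ρ' a g hq') ?_
      rw [← map_mul, ← pow_add, ← hl]
      exact MonoidHom.mem_ker.mp (hC' hXo)
    refine ⟨(centralizer (V' : Set (G ⧸ M'))).comap (QuotientGroup.mk' M'),
      Normal.comap inferInstance _, ?_, fun x hx => ⟨0, by simpa using hx⟩⟩
    rw [← hker', MonoidHom.mem_ker, commutatorElement_def, map_mul, map_mul, map_mul, hc.eq,
      mul_assoc (ρ' a), ← map_mul ρ' (X ^ l), mul_inv_cancel, map_one, mul_one, ← map_mul,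
      mul_inv_cancel, map_one]

end CfsgLib.ZJ
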