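import Cfsg.Agent.ZJ.InvertsControl
import Cfsg.Agent.Invol.BaerSuzuki
import Cfsg.Agent.Solvable.Fitting

/-!
2-closed groups and inverted elements of odd order.
-/

set_option autoImplicit false
set_option linter.style.haveILetI false

namespace CfsgLib.ZJ

open Subgroup CfsgLib.Functor
open scoped CfsgLib.Functor

universe u

/-- In a 2-closed group no nonidentity element of odd prime power order is inverted. -/
theorem not_inverts_of_two_closed {G : Type u} [Group G] [Finite G]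
    (h : ∀ P : Sylow 2 G, (P : Subgroup G).Normal) {q : ℕ} [Fact q.Prime] (hq : q ≠ 2) :
    ¬ Inverts q G := by
  haveI : Fact (Nat.Prime 2) := ⟨Nat.prime_two⟩
  rintro ⟨g, x, hx1, ⟨k, hk⟩, hgx⟩
  obtain ⟨P⟩ := (inferInstance : Nonempty (Sylow 2 G))
  haveI := h P
  set π := QuotientGroup.mk' (P : Subgroup G) with hπ
  have hodd : Odd (orderOf (π g)) := by
    refine Odd.of_dvd_nat ?_ ((orderOf_dvd_natCard (π g)).trans (index_eq_card _).symm.dvd)
    rw [← Nat.not_even_iff_odd, even_iff_two_dvd]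
    exact P.not_dvd_index
  have hc2 : Commute (π g ^ 2) (π x) := by
    have h1 : π g * π x * (π g)⁻¹ = (π x)⁻¹ := by rw [← map_inv, ← map_mul, ← map_mul, hgx, map_inv]
    rw [Commute, SemiconjBy, pow_two]
    calc π g * π g * π x = π g * (π g * π x * (π g)⁻¹) * π g := by group
      _ = π g * (π x)⁻¹ * π g := by rw [h1]
      _ = (π g * π x * (π g)⁻¹)⁻¹ * (π g * π g) := by group
      _ = π x * (π g * π g) := by rw [h1, inv_inv]
  have hc : Commute (π g) (π x) := by
    obtain ⟨m, hm⟩ := hodd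
    have : π g = (π g ^ 2) ^ (m + 1) := by
      rw [← pow_mul, show 2 * (m + 1) = orderOf (π g) + 1 by omega, pow_succ, pow_orderOf_eq_one,
        one_mul]
    rw [this]
    exact hc2.pow_left _
  have hx' : π x = (π x)⁻¹ := by
    rw [← map_inv, ← hgx, map_mul, map_mul, map_inv, hc.eq, mul_inv_cancel_right]
  have hxP : π x = 1 := eq_one_of_eq_inv hq (k := k) (by rw [← map_pow, hk, map_one]) hx'
  have hxP' : x ∈ (P : Subgroup G) := (QuotientGroup.eq_one_iff x).mp hxP
  obtain ⟨j, hj⟩ := P.2 ⟨x, hxP'⟩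
  exact hx1 (orderOf_eq_one_iff.mp (Nat.eq_one_of_dvd_coprimes
    (((Nat.coprime_primes Fact.out Nat.prime_two).mpr hq).pow k j) (orderOf_dvd_of_pow_eq_one hk)
    (orderOf_dvd_of_pow_eq_one (by simpa using congrArg Subtype.val hj))))

/-- A group in which no nonidentity element of odd prime power order is inverted is 2-closed. -/
theorem two_closed_of_not_inverts {G : Type u} [Group G] [Finite G]
    (h : ∀ q : ℕ, q.Prime → q ≠ 2 → q ∣ Nat.card G → ¬ Inverts q G) (P : Sylow 2 G) :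
    (P : Subgroup G).Normal := by
  haveI : Fact (Nat.Prime 2) := ⟨Nat.prime_two⟩
  set O := Cfsg.pCore 2 G with hO
  set π := QuotientGroup.mk' O with hπ
  have hOP : O ≤ P := Fitting.pCore_le_sylow P
  suffices hcop : ¬ 2 ∣ Nat.card (G ⧸ O) by
    have hPO : (P : Subgroup G) ≤ O := by
      intro x hx
      refine (QuotientGroup.eq_one_iff x).mp (orderOf_eq_one_iff.mp ?_)
      obtain ⟨k, hk⟩ := P.2 ⟨x, hx⟩
      refine Nat.eq_one_of_dvd_coprimes ((Nat.prime_two.coprime_iff_not_dvd.mpr hcop).pow_left k)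
        (orderOf_dvd_of_pow_eq_one ?_) (orderOf_dvd_natCard _)
      have hk' : x ^ 2 ^ k = 1 := by simpa using congrArg Subtype.val hk
      rw [← QuotientGroup.mk_pow, hk', QuotientGroup.mk_one]
    rw [le_antisymm hPO hOP]
    infer_instance
  intro h2
  obtain ⟨t, ht⟩ := exists_prime_orderOf_dvd_card' 2 h2
  by_cases htO : t ∈ Cfsg.pCore 2 (G ⧸ O)
  · have hle : (Cfsg.pCore 2 (G ⧸ O)).comap π ≤ O := by
      refine Solvable.le_pCore 2 inferInstance (fun x => ?_)
      obtain ⟨k, hk⟩ := Solvable.isPGroup_pCore 2 (⟨π x, x.2⟩ : Cfsg.pCore 2 (G ⧸ O))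
      have hk' : (x : G) ^ 2 ^ k ∈ O := (QuotientGroup.eq_one_iff _).mp (by
        show π ((x : G) ^ 2 ^ k) = 1
        rw [map_pow]
        exact congrArg Subtype.val hk)
      obtain ⟨l, hl⟩ := Solvable.isPGroup_pCore 2 ⟨_, hk'⟩
      exact ⟨k + l, Subtype.ext (by simpa [pow_add, pow_mul] using congrArg Subtype.val hl)⟩
    obtain ⟨x, rfl⟩ := QuotientGroup.mk'_surjective O t
    exact Invol.ne_one ht ((QuotientGroup.eq_one_iff x).mpr (hle htO))
  · obtain ⟨y, hy1, hyodd, hinv⟩ := Invol.exists_inverted_odd t ht htO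
    have hord1 : orderOf y ≠ 1 := fun h => hy1 (orderOf_eq_one_iff.mp h)
    obtain ⟨q, hq, hqy⟩ := Nat.exists_prime_and_dvd hord1
    haveI := Fact.mk hq
    have hq2 : q ≠ 2 := by
      rintro rfl
      exact absurd (hyodd.of_dvd_nat hqy) (by decide)
    have hi : Inverts q (G ⧸ O) := by
      refine ⟨t, y ^ (orderOf y / q), fun h => ?_, ⟨1, ?_⟩, by rw [← conj_pow, hinv, inv_pow]⟩
      · exact absurd (Nat.le_of_dvd (Nat.div_pos (Nat.le_of_dvd (orderOf_pos y) hqy) hq.pos)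
          (orderOf_dvd_of_pow_eq_one h)) (not_le.mpr (Nat.div_lt_self (orderOf_pos y) hq.one_lt))
      · rw [pow_one, ← pow_mul, Nat.div_mul_cancel hqy, pow_orderOf_eq_one]
    exact h q hq hq2 ((hqy.trans (orderOf_dvd_natCard y)).trans (card_quotient_dvd_card O))
      (hi.of_surjective hq2 π (QuotientGroup.mk'_surjective O))

/-- Inverted elements in `N(Z(J(T)))` can be moved into `T`. -/
theorem exists_inverted_mem {G : Type u} [Group G] [Finite G] {q : ℕ} [Fact q.Prime] {N : Subgroup G}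
    (T : Sylow q G) (hT : (T : Subgroup G) ≤ N) (h : Inverts q N) :
    ∃ g ∈ N, ∃ x ∈ (T : Subgroup G), x ≠ 1 ∧ g * x * g⁻¹ = x⁻¹ := by
  obtain ⟨g, x, hx1, ⟨k, hk⟩, hgx⟩ := h
  obtain ⟨j, -, hj⟩ := (Nat.dvd_prime_pow Fact.out).mp (orderOf_dvd_of_pow_eq_one hk)
  obtain ⟨R, hR⟩ := (IsPGroup.of_card (n := j) (by rw [Nat.card_zpowers, hj]) :
    IsPGroup q (zpowers x)).exists_le_sylow
  obtain ⟨c, hc⟩ := MulAction.exists_smul_eq N R (T.subtype hT)
  have hy : c * x * c⁻¹ ∈ ((T.subtype hT : Sylow q N) : Subgroup N) := by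
    rw [← hc, Sylow.coe_subgroup_smul]
    exact ⟨x, hR (mem_zpowers x), rfl⟩
  refine ⟨_, (c * g * c⁻¹).2, _, hy, fun h => hx1 ?_, ?_⟩
  · have : c * x * c⁻¹ = 1 := Subtype.ext h
    rwa [mul_inv_eq_one, mul_eq_left] at this
  · have : (c * g * c⁻¹) * (c * x * c⁻¹) * (c * g * c⁻¹)⁻¹ = (c * x * c⁻¹)⁻¹ := by
      calc _ = c * (g * x * g⁻¹) * c⁻¹ := by group
        _ = _ := by rw [hgx]; group
    exact congrArg Subtype.val this

end CfsgLib.ZJ
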