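import Cfsg.Agent.ZJ.NormalPComplement
import Cfsg.Agent.ZJ.ZKinds

/-!
Thompson's normal p-complement theorem.
-/

set_option autoImplicit false
set_option linter.style.haveILetI false

namespace CfsgLib.ZJ

open Subgroup CfsgLib.Functor
open scoped CfsgLib.Functor commutatorElement

universe u

variable {p : ℕ} [Fact p.Prime]

/-- A Thompson subgroup, generated by the members of largest order of an admissible class. -/
structure JKind (p : ℕ) (Q : ∀ (G : Type u) [Group G], Subgroup G → Prop)
    (J : ∀ (G : Type u) [Group G], Subgroup G → Subgroup G) : Prop where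
  adm : ∀ (G : Type u) [Group G] [Finite G], Admissible (Q G)
  eq : ∀ (G : Type u) [Group G] (U : Subgroup G), J G U = sSup (fam (Q G) U)
  extend : ∀ (G : Type u) [Group G] [Finite G] (A : Subgroup G) (x : G), Q G A → x ^ p = 1 →
    (∀ a ∈ A, a * x = x * a) → Q G (A ⊔ zpowers x)
  replMem : ∀ (G : Type u) [Group G] [Finite G] (A B : Subgroup G) (b : G), Q G A → ReplData A B b →
    IsMulCommutative B → Q G (repl A b)
  map : ∀ (G H : Type u) [Group G] [Group H] [Finite G] [Finite H] (f : G →* H) (U : Subgroup G),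
    Function.Injective f → J H (U.map f) = (J G U).map f

variable {Q : ∀ (G : Type u) [Group G], Subgroup G → Prop}
  {J : ∀ (G : Type u) [Group G], Subgroup G → Subgroup G}

theorem JKind.le (K : JKind p Q J) {G : Type u} [Group G] (U : Subgroup G) : J G U ≤ U := by
  rw [K.eq]
  exact sSup_le fun A hA => hA.2.1

theorem JKind.normalizer_le (K : JKind p Q J) {G : Type u} [Group G] [Finite G] (U : Subgroup G) :
    normalizer (U : Set G) ≤ normalizer ((J G U : Subgroup G) : Set G) := fun g hg =>
  mem_normalizer_iff_cj.mpr (by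
    rw [← K.map G G _ U (MulAut.conj g).injective, mem_normalizer_iff_cj.mp hg])

theorem JKind.ne_bot (K : JKind p Q J) {G : Type u} [Group G] [Finite G] {U : Subgroup G}
    (hU : IsPGroup p U) (h : U ≠ ⊥) : J G U ≠ ⊥ := by
  haveI := hU.isNilpotent
  haveI := (nontrivial_iff_ne_bot U).2 h
  obtain ⟨k, hk⟩ := (hU.to_subgroup (center U)).exists_card_eq
  have hk0 : k ≠ 0 := fun h0 => Group.IsNilpotent.center_ne_bot (G := U)
    (eq_bot_of_card_eq _ (by rw [hk, h0, pow_zero]))
  obtain ⟨z, hz⟩ := exists_prime_orderOf_dvd_card' (G := center U) p (hk ▸ dvd_pow_self p hk0)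
  have hzp : ((z : U) : G) ^ p = 1 := by
    have h := pow_orderOf_eq_one z
    rw [hz] at h
    rw [← SubmonoidClass.coe_pow, ← SubmonoidClass.coe_pow, h]
    rfl
  have hz1 : ((z : U) : G) ≠ 1 := fun h1 => (Fact.out : p.Prime).one_lt.ne'
    (hz.symm.trans (orderOf_eq_one_iff.mpr (Subtype.ext (Subtype.ext h1))))
  obtain ⟨A, hA⟩ := exists_fam (K.adm G) U
  have hM := K.extend G A _ hA.1 hzp fun a ha =>
    congrArg Subtype.val (mem_center_iff.mp z.2 ⟨a, hA.2.1 ha⟩)
  have hAeq := Solvable.eq_of_le_of_card_le (le_sup_left : A ≤ A ⊔ zpowers ((z : U) : G))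
    (hA.2.2 _ hM (sup_le hA.2.1 (zpowers_le.mpr (z : U).2)))
  intro hbot
  refine hz1 (mem_bot.mp (hbot ▸ ?_))
  rw [K.eq]
  exact le_sSup hA (hAeq ▸ mem_sup_right (mem_zpowers _))

theorem JKind.map_hom (K : JKind p Q J) {G H : Type u} [Group G] [Group H] [Finite G] [Finite H]
    (f : G →* H) (U : Subgroup G) (hf : ∀ x ∈ U, f x = 1 → x = 1) :
    J H (U.map f) = (J G U).map f := by
  have h1 : Function.Injective (f.comp U.subtype) := by
    rw [injective_iff_map_eq_one]
    exact fun x hx => Subtype.ext (hf x x.2 hx)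
  have e : (⊤ : Subgroup U).map U.subtype = U := by rw [← MonoidHom.range_eq_map, range_subtype]
  conv_lhs => rw [← e]
  rw [map_map, K.map U H _ ⊤ h1, ← map_map, ← K.map U G _ ⊤ U.subtype_injective, e]

/-- The subgroups `J(U)` and `Z(U)`. -/
def thompsonE (J : ∀ (G : Type u) [Group G], Subgroup G → Subgroup G) :
    Bool → ∀ (G : Type u) [Group G], Subgroup G → Subgroup G
  | true, G, _, U => J G U
  | false, _, _, U => U ⊓ centralizer (U : Set _)

/-- The local subgroups `N(J(U))` and `C(Z(U))`. -/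
def thompsonX (J : ∀ (G : Type u) [Group G], Subgroup G → Subgroup G) :
    Bool → ∀ (G : Type u) [Group G], Subgroup G → Subgroup G
  | true, G, _, U => normalizer ((J G U : Subgroup G) : Set G)
  | false, G, _, U => centralizer ((U ⊓ centralizer (U : Set G) : Subgroup G) : Set G)

theorem map_inf_centralizer_self {G H : Type*} [Group G] [Group H] (f : G →* H) (U : Subgroup G) :
    (U ⊓ centralizer (U : Set G)).map f ≤ U.map f ⊓ centralizer ((U.map f : Subgroup H) : Set H) := by
  rintro _ ⟨z, ⟨hz, hzc⟩, rfl⟩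
  refine ⟨mem_map_of_mem f hz, mem_centralizer_iff.mpr ?_⟩
  rintro _ ⟨w, hw, rfl⟩
  rw [← map_mul, ← map_mul, mem_centralizer_iff.mp hzc w hw]

theorem JKind.localSystem (K : JKind p Q J) : LocalSystem p (thompsonE J) (thompsonX J) where
  le i G _ _ U := by
    cases i
    case true =>
      exact K.le U
    case false =>
      exact inf_le_left
  ne_bot i G _ _ U hU h := by
    cases i
    case true =>
      exact K.ne_bot hU h
    case false =>
      haveI := hU.isNilpotent
      haveI := (nontrivial_iff_ne_bot U).2 h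
      obtain ⟨z, hz, hz1⟩ := (bot_or_exists_ne_one _).resolve_left
        (Group.IsNilpotent.center_ne_bot (G := U))
      intro hbot
      exact hz1 (Subtype.ext (mem_bot.mp (hbot ▸ (⟨z.2, mem_centralizer_iff.mpr fun w hw =>
        congrArg Subtype.val (mem_center_iff.mp hz ⟨w, hw⟩)⟩ :
          (z : G) ∈ U ⊓ centralizer (U : Set G)))))
  normalizer_le i G _ _ U := by
    cases i
    case true =>
      exact K.normalizer_le U
    case false =>
      intro g hg
      show g ∈ normalizer ((U ⊓ centralizer (U : Set G) : Subgroup G) : Set G)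
      rw [mem_normalizer_iff_cj] at hg ⊢
      refine eq_of_le_of_card_le' ?_ (card_cj _ _).ge
      have h := map_inf_centralizer_self (MulAut.conj g).toMonoidHom U
      rwa [hg] at h
  le_normalizer i G _ _ U := by
    cases i
    case true =>
      exact le_rfl
    case false =>
      show centralizer _ ≤ normalizer _
      exact centralizer_le_normalizer _
  self_le i G _ _ U := by
    cases i
    case true =>
      exact le_normalizer.trans (K.normalizer_le U)
    case false =>
      exact fun u hu => mem_centralizer_iff.mpr fun z hz =>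
        (mem_centralizer_iff.mp hz.2 u hu).symm
  map i G _ _ M R := by
    cases i
    case true =>
      show _ ≤ normalizer ((J G (R.map M.subtype) : Subgroup G) : Set G)
      rw [K.map M G M.subtype _ M.subtype_injective]
      exact le_normalizer_map _
    case false =>
      rintro _ ⟨c, hc, rfl⟩
      refine mem_centralizer_iff.mpr ?_
      rintro _ ⟨⟨z, hz, rfl⟩, hzc⟩
      exact congrArg Subtype.val (mem_centralizer_iff.mp hc z ⟨hz, mem_centralizer_iff.mpr
        fun w hw => Subtype.ext (mem_centralizer_iff.mp hzc _ ⟨w, hw, rfl⟩)⟩)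
  quot i G _ _ N _ hcop U hU := by
    cases i
    case true =>
      set π := QuotientGroup.mk' N with hπ
      have hinj : ∀ x ∈ U, π x = 1 → x = 1 := fun x hx h => mem_bot.mp
        (isPGroup_inf_coprime hU hcop ▸ (⟨hx, (QuotientGroup.eq_one_iff x).mp h⟩ : x ∈ U ⊓ N))
      show normalizer ((J (G ⧸ N) (U.map π) : Subgroup (G ⧸ N)) : Set (G ⧸ N)) ≤
        (normalizer ((J G U : Subgroup G) : Set G)).map π
      rw [K.map_hom π U hinj]
      intro y hy
      obtain ⟨g, rfl⟩ := QuotientGroup.mk'_surjective N y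
      have hg' : g ∈ normalizer ((J G U ⊔ N : Subgroup G) : Set G) := by
        have e : ((J G U).map π).comap π = J G U ⊔ N := by
          rw [comap_map_eq, QuotientGroup.ker_mk']
        rw [← e]
        exact le_normalizer_comap π hy
      obtain ⟨m, hm, hmg⟩ := exists_mul_mem_normalizer (hU.to_le (K.le U)) hcop hg'
      exact ⟨m * g, hmg, by
        rw [map_mul, show π m = 1 from (QuotientGroup.eq_one_iff m).mpr hm, one_mul]⟩
    case false =>
      set π := QuotientGroup.mk' N with hπ
      intro y hy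
      obtain ⟨g, rfl⟩ := QuotientGroup.mk'_surjective N y
      obtain ⟨m, hm, hmg⟩ := exists_mul_mem_centralizer (P := U ⊓ centralizer (U : Set G))
        (g := g) (hU.to_le inf_le_left) hcop (fun z hz => by
          have h := mem_centralizer_iff.mp hy _ (map_inf_centralizer_self π U (mem_map_of_mem π hz))
          refine (QuotientGroup.eq_one_iff _).mp ?_
          show π (g * z * g⁻¹ * z⁻¹) = 1
          rw [map_mul, map_mul, map_mul, map_inv, map_inv, ← h, mul_inv_cancel_right,
            mul_inv_cancel])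
      exact ⟨m * g, hmg, by
        rw [map_mul, show π m = 1 from (QuotientGroup.eq_one_iff m).mpr hm, one_mul]⟩

/-- An element of order prime to `p` centralizing the elements of order `p` of an abelian p-group
that it normalizes centralizes the group. -/
theorem commute_of_commute_omega {G : Type*} [Group G] {Y : Subgroup G} (hY : IsPGroup p Y)
    (hYc : ∀ x ∈ Y, ∀ y ∈ Y, x * y = y * x) {g : G} (hg : (orderOf g).Coprime p)
    (hgY : ∀ y ∈ Y, g * y * g⁻¹ ∈ Y) (h : ∀ y ∈ Y, y ^ p = 1 → g * y = y * g) :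
    ∀ y ∈ Y, g * y = y * g := by
  suffices ∀ k : ℕ, ∀ y ∈ Y, y ^ p ^ k = 1 → g * y = y * g by
    intro y hy
    obtain ⟨k, hk⟩ := hY ⟨y, hy⟩
    exact this k y hy (by simpa using congrArg Subtype.val hk)
  intro k
  induction k with
  | zero =>
    intro y _ hy
    rw [pow_zero, pow_one] at hy
    rw [hy, mul_one, one_mul]
  | succ k ih =>
    intro y hy hyk
    set c := g * y * g⁻¹ * y⁻¹ with hc
    have hcY : c ∈ Y := mul_mem (hgY y hy) (inv_mem hy)
    have hcp : c ^ p = 1 := by
      rw [hc, (show Commute (g * y * g⁻¹) y⁻¹ from hYc _ (hgY y hy) _ (inv_mem hy)).mul_pow,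
        conj_pow, inv_pow, ih (y ^ p) (pow_mem hy p) (by rw [← pow_mul, ← pow_succ']; exact hyk),
        mul_inv_cancel_right, mul_inv_cancel]
    have hgc : Commute g c := h c hcY hcp
    have hj : ∀ j : ℕ, g ^ j * y = c ^ j * y * g ^ j := by
      intro j
      induction j with
      | zero => simp
      | succ j ih =>
        calc g ^ (j + 1) * y = g ^ j * (g * y * g⁻¹ * y⁻¹) * (y * g) := by rw [pow_succ]; group
          _ = c * (g ^ j * y) * g := by
            rw [← hc, (hgc.pow_left j).eq]; simp only [mul_assoc]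
          _ = c ^ (j + 1) * y * g ^ (j + 1) := by
            rw [ih, pow_succ', pow_succ]; simp only [mul_assoc]
    have h1 := hj (orderOf g)
    rw [pow_orderOf_eq_one, one_mul, mul_one, eq_comm, mul_eq_right] at h1
    have h2 : c = 1 := orderOf_eq_one_iff.mp (Nat.eq_one_of_dvd_coprimes hg
      (orderOf_dvd_of_pow_eq_one h1) (orderOf_dvd_of_pow_eq_one hcp))
    rw [hc, mul_inv_eq_one, mul_inv_eq_iff_eq_mul] at h2
    exact h2

/-- Thompson's theorem, given that no member of largest order outside the p-core of the critical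
configuration normalizes an elementary abelian normal subgroup with centralizer in the p-core. -/
theorem JKind.hasNormalPComplement_of_step (K : JKind p Q J)
    (Good : ∀ (G : Type u) [Group G], Prop)
    (hsub : ∀ (G : Type u) [Group G] [Finite G] (M : Subgroup G), Good G → Good M)
    (hquo : ∀ (G : Type u) [Group G] [Finite G] (N : Subgroup G) [N.Normal], Good G → Good (G ⧸ N))
    (step : ∀ (G : Type u) [Group G] [Finite G] (P : Sylow p G), Good G →
      (∀ M : Subgroup G, (P : Subgroup G) ≤ M → M = P ∨ M = ⊤) →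
      ∀ (L V A : Subgroup G), L.Normal → V.Normal → (∀ x : G, ∃ k, x ^ p ^ k ∈ L) →
        (∀ x ∈ L, ∀ y ∈ L, x * y * x⁻¹ * y⁻¹ ∈ Cfsg.pCore p G) →
        (∀ x ∈ L, ∃ m : ℕ, m.Coprime p ∧ x ^ m ∈ Cfsg.pCore p G) →
        Cfsg.IsElementaryAbelian p V → V ≤ Cfsg.pCore p G →
        Cfsg.pCore p G ≤ centralizer (V : Set G) → centralizer (V : Set G) ≤ Cfsg.pCore p G →
        A ∈ fam (Q G) (P : Subgroup G) → ¬ A ≤ Cfsg.pCore p G →
        V ≤ normalizer (A : Set G) → False)
    (G : Type u) [Group G] [Finite G]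
    (P : Sylow p G) (hgood : Good G)
    (hC : Cfsg.HasNormalPComplement p
      (centralizer (((P : Subgroup G) ⊓ centralizer ((P : Subgroup G) : Set G) : Subgroup G) : Set G)))
    (hN : Cfsg.HasNormalPComplement p (normalizer ((J G (P : Subgroup G) : Subgroup G) : Set G))) :
    Cfsg.HasNormalPComplement p G := by
  refine K.localSystem.hasNormalPComplement Good hsub hquo ?_ G P hgood
    (fun i => by cases i; exacts [hC, hN])
  clear hC hN hgood P
  intro G _ _ P hgood hX hCH hmax L hL hab hLn hLcop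
  set H := Cfsg.pCore p G with hH
  by_contra hG
  have hG' : ∀ X : Subgroup G, X = ⊤ → ¬ Cfsg.HasNormalPComplement p X := by
    rintro X rfl h
    exact hG (hnpc_of_surjective (topEquiv : (⊤ : Subgroup G) ≃* G).toMonoidHom
      (MulEquiv.surjective _) h)
  have hHP : H ≤ P := pCore_le_sylow P
  have hQ := K.adm G
  have hJn : ¬ ∀ A ∈ fam (Q G) (P : Subgroup G), A ≤ H := by
    intro hall
    refine hG' _ ?_ (hX true)
    obtain ⟨A1, hA1⟩ := exists_fam hQ (P : Subgroup G)
    have heq : fam (Q G) (P : Subgroup G) = fam (Q G) H := by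
      ext A
      refine ⟨fun hA => ⟨hA.1, hall A hA, fun B hB hBH => hA.2.2 B hB (hBH.trans hHP)⟩,
        fun hA => ⟨hA.1, hA.2.1.trans hHP, fun B hB hBP => ?_⟩⟩
      exact (hA1.2.2 B hB hBP).trans (hA.2.2 A1 hA1.1 (hall A1 hA1))
    show normalizer ((J G (P : Subgroup G) : Subgroup G) : Set G) = ⊤
    rw [K.eq, heq, ← K.eq, eq_top_iff]
    exact le_trans (by rw [normalizer_eq_top (H := H)]) (K.normalizer_le H)
  push Not at hJn
  obtain ⟨A1, hA1, hA1H⟩ := hJn
  set Y := H ⊓ centralizer (H : Set G) with hY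
  have hYc : ∀ x ∈ Y, ∀ y ∈ Y, x * y = y * x := fun x hx y hy =>
    mem_centralizer_iff.mp hy.2 x hx.1
  have hYn : Y.Normal := inferInstance
  have hYp : IsPGroup p Y := (Solvable.isPGroup_pCore p).to_le inf_le_left
  set V := Cfsg.omegaOne p Y with hV
  have hVel : Cfsg.IsElementaryAbelian p V := Thompson.elab_omegaOne hYc
  have hVY : V ≤ Y := Thompson.omegaOne_le Y
  have hVP : V ≤ P := hVY.trans (inf_le_left.trans hHP)
  haveI hVn : V.Normal := by
    rw [← normalizer_eq_top_iff, eq_top_iff]
    intro g _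
    rw [mem_normalizer_iff_cj, hV,
      Thompson.map_omegaOne (MulAut.conj g).toMonoidHom (MulAut.conj g).injective,
      mem_normalizer_iff_cj.mp (show g ∈ normalizer (Y : Set G) by
        rw [normalizer_eq_top (H := Y)]; exact mem_top g)]
  obtain ⟨A, ⟨hA, hAH⟩, hAmax⟩ := Set.exists_max_image
    {A : Subgroup G | A ∈ fam (Q G) (P : Subgroup G) ∧ ¬ A ≤ H} (fun A => Nat.card ↥(A ⊓ V))
    (Set.toFinite _) ⟨A1, hA1, hA1H⟩
  have hAc := hQ.comm A hA.1
  -- `V` normalizes `A`
  have hVA : V ≤ normalizer (A : Set G) := by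
    by_contra hnot
    have hVV : ⁅V, V⁆ ≤ A := by
      refine le_trans (le_of_eq ?_) bot_le
      exact commutator_eq_bot_iff_le_centralizer.mpr (Thompson.elab_le_centralizer hVel)
    obtain ⟨b, R, hb, hbA⟩ := exists_replacement_in (P.2.to_le (sup_le hA.2.1 hVP)) hAc hVV
      (by rw [normalizer_eq_top (H := V)]; exact le_top) hnot
    have hVc : IsMulCommutative V := hVel.1
    have hA'P : repl A b ≤ P := (repl_le_sup A b).trans (sup_le hA.2.1 (by
      rintro _ ⟨a, ha, rfl⟩
      exact mul_mem (mul_mem (inv_mem (hVP hb)) (hA.2.1 ha)) (inv_mem (inv_mem (hVP hb)))))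
    have hA' : repl A b ∈ fam (Q G) (P : Subgroup G) := ⟨K.replMem G A V b hA.1 R hVc, hA'P,
      fun C hC hCP => (R.card_repl (Or.inr hVc)).symm ▸ hA.2.2 C hC hCP⟩
    have hA'H : repl A b ≤ H := by
      by_contra hn
      exact absurd (hAmax _ ⟨hA', hn⟩) (not_le.mpr (Solvable.card_lt_of_lt (R.inf_lt hbA)))
    refine hnot (le_trans ?_ (R.repl_le_normalizer))
    refine (closure_le _).mpr fun x hx => ?_
    have hext := K.extend G _ x hA'.1 hx.2 fun a ha =>
      mem_centralizer_iff.mp hx.1.2 a (hA'H ha)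
    rw [SetLike.mem_coe, Solvable.eq_of_le_of_card_le (le_sup_left : repl A b ≤ repl A b ⊔ zpowers x)
      (hA'.2.2 _ hext (sup_le hA'P (zpowers_le.mpr (hHP hx.1.1))))]
    exact mem_sup_right (mem_zpowers x)
  set C := centralizer (V : Set G) with hCdef
  have hCP : C ⊔ (P : Subgroup G) = ⊤ := by
    refine (hmax _ le_sup_right).resolve_left fun h => ?_
    refine step G P hgood hmax L V A hLn hVn hL hab hLcop hVel (hVY.trans inf_le_left) (fun x hx => ?_)
      (Solvable.le_pCore p inferInstance (P.2.to_le (h ▸ le_sup_left))) hA hAH hVA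
    exact mem_centralizer_iff.mpr fun v hv => (mem_centralizer_iff.mp (hVY hv).2 x hx).symm
  set C' := centralizer (Y : Set G) with hC'
  have hCC : ∀ c ∈ C, ∃ k, c ^ p ^ k ∈ C' := by
    intro c hc
    obtain ⟨k, hk⟩ : ∃ k, (orderOf (c ^ p ^ k)).Coprime p := by
      refine ⟨(orderOf c).factorization p, ?_⟩
      rw [orderOf_pow_of_dvd (pow_ne_zero _ (Fact.out : p.Prime).ne_zero) (Nat.ordProj_dvd _ _)]
      exact (Nat.coprime_ordCompl Fact.out (orderOf_pos c).ne').symm
    refine ⟨k, mem_centralizer_iff.mpr fun y hy => ?_⟩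
    refine (commute_of_commute_omega hYp hYc hk (fun z hz => hYn.conj_mem z hz _) ?_ y hy).symm
    exact fun z hz hzp => (mem_centralizer_iff.mp (pow_mem hc _) z
      (Thompson.mem_omegaOne hz hzp)).symm
  have hC'P : C' ⊔ (P : Subgroup G) = ⊤ := by
    refine (hmax _ le_sup_right).resolve_left fun h => hG ?_
    have hCp : IsPGroup p C := fun c => by
      obtain ⟨k, hk⟩ := hCC c c.2
      obtain ⟨j, hj⟩ := P.2 ⟨_, h ▸ mem_sup_left hk⟩
      exact ⟨k + j, Subtype.ext (by simpa [pow_add, pow_mul] using congrArg Subtype.val hj)⟩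
    have hPtop : (P : Subgroup G) = ⊤ := by
      rw [← hCP]
      exact (sup_eq_right.mpr ((Solvable.le_pCore p inferInstance hCp).trans hHP)).symm
    refine PResidual.hasNormalPComplement_of_normal (N := (⊥ : Subgroup G))
      (k := (Nat.card G).factorization p) ?_ ?_
    · rw [card_bot]
      exact Nat.coprime_one_left p
    · rw [index_bot, ← P.card_eq_multiplicity, hPtop, card_top]
  refine hG' _ (eq_top_iff.mpr (le_trans hC'P.ge (sup_le ?_ ?_))) (hX false)
  · refine centralizer_le ?_
    intro z hz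
    have hzC : z ∈ centralizer (H : Set G) := mem_centralizer_iff.mpr fun h hh =>
      mem_centralizer_iff.mp hz.2 h (hHP hh)
    exact ⟨hCH hzC, hzC⟩
  · exact K.localSystem.self_le false G _

/-- **Thompson's normal p-complement theorem**, for odd `p`. -/
theorem JKind.hasNormalPComplement (hp : p ≠ 2) (K : JKind p Q J) (G : Type u) [Group G] [Finite G]
    (P : Sylow p G)
    (hC : Cfsg.HasNormalPComplement p
      (centralizer (((P : Subgroup G) ⊓ centralizer ((P : Subgroup G) : Set G) : Subgroup G) : Set G)))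
    (hN : Cfsg.HasNormalPComplement p (normalizer ((J G (P : Subgroup G) : Subgroup G) : Set G))) :
    Cfsg.HasNormalPComplement p G := by
  refine K.hasNormalPComplement_of_step (fun _ _ => True) (fun _ _ _ _ _ => trivial)
    (fun _ _ _ _ _ _ => trivial) ?_ G P trivial hC hN
  clear hC hN P
  intro G _ _ P _ _ L V A _ _ hL hab _ hVel hVH _ hCH hA hAH hVA
  obtain ⟨a, ha, haH⟩ := SetLike.not_le_iff_exists.mp hAH
  have hAc := (K.adm G).comm A hA.1
  have hq : ⁅⁅V, zpowers a⁆, zpowers a⁆ = ⊥ := by
    have h1 : ⁅V, zpowers a⁆ ≤ A := by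
      rw [commutator_le]
      intro x hx y hy
      have hy' := zpowers_le.mpr ha hy
      rw [commutatorElement_def]
      exact A.mul_mem ((mem_normalizer_iff.mp (hVA hx) y).mp hy') (A.inv_mem hy')
    refine le_bot_iff.mp ((commutator_mono h1 (zpowers_le.mpr ha)).trans ?_)
    exact (commutator_eq_bot_iff_le_centralizer.mpr
      (le_centralizer_iff_isMulCommutative.mpr hAc)).le
  obtain ⟨D, hD, haD, hDp⟩ := stableNormal_of_free hp (free_of_critical hp L hL hab) V
    ((Solvable.isPGroup_pCore p).to_le hVH) a hq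
  refine haH (Solvable.le_pCore p hD (fun d => ?_) haD)
  obtain ⟨k, hk⟩ := hDp d d.2
  obtain ⟨j, hj⟩ := Solvable.isPGroup_pCore p ⟨_, hCH hk⟩
  exact ⟨k + j, Subtype.ext (by simpa [pow_add, pow_mul] using congrArg Subtype.val hj)⟩

/-- `J(U)` as the join of the abelian subgroups of largest order. -/
theorem thompsonSubgroupAOf_eq_fam {G : Type u} [Group G] (U : Subgroup G) :
    Cfsg.thompsonSubgroupAOf U = sSup (fam (fun A : Subgroup G => IsMulCommutative A) U) := by
  have himg : ∀ A, A ∈ fam (fun A : Subgroup G => IsMulCommutative A) U ↔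
      ∃ A₀ ∈ Cfsg.maxAbelianSubgroups U, A₀.map U.subtype = A := by
    intro A
    constructor
    · rintro ⟨hA, hAU, hmax⟩
      refine ⟨A.subgroupOf U, ⟨?_, fun B hB => ?_⟩, map_subgroupOf_eq_of_le hAU⟩
      · exact ⟨⟨fun x y => Subtype.ext (Subtype.ext (by
          simpa using congrArg Subtype.val (hA.is_comm.comm ⟨_, x.2⟩ ⟨_, y.2⟩)))⟩⟩
      · rw [Nat.card_congr (subgroupOfEquivOfLe hAU).toEquiv,
          Nat.card_congr (B.equivMapOfInjective _ U.subtype_injective).toEquiv]
        haveI := hB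
        exact hmax _ (Subgroup.map_isMulCommutative B U.subtype) (map_subtype_le B)
    · rintro ⟨A₀, hA₀, rfl⟩
      haveI := hA₀.1
      refine ⟨Subgroup.map_isMulCommutative A₀ U.subtype, map_subtype_le A₀, fun B hB hBU => ?_⟩
      rw [← Nat.card_congr (subgroupOfEquivOfLe hBU).toEquiv,
        ← Nat.card_congr (A₀.equivMapOfInjective _ U.subtype_injective).toEquiv]
      exact hA₀.2 _ ⟨⟨fun x y => Subtype.ext (Subtype.ext (by
        simpa using congrArg Subtype.val (hB.is_comm.comm ⟨_, x.2⟩ ⟨_, y.2⟩)))⟩⟩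
  rw [Cfsg.thompsonSubgroupAOf, Cfsg.thompsonSubgroupA]
  refine le_antisymm (map_le_iff_le_comap.mpr (sSup_le fun A₀ hA₀ => ?_)) (sSup_le fun A hA => ?_)
  · exact map_le_iff_le_comap.mp (le_sSup ((himg _).mpr ⟨A₀, hA₀, rfl⟩))
  · obtain ⟨A₀, hA₀, rfl⟩ := (himg A).mp hA
    exact map_mono (le_sSup hA₀)

theorem isMulCommutative_map_iff {G H : Type u} [Group G] [Group H] (f : G →* H)
    (hf : Function.Injective f) (A : Subgroup G) :
    IsMulCommutative (A.map f) ↔ IsMulCommutative A := by
  refine ⟨fun h => ⟨⟨fun x y => Subtype.ext (hf ?_)⟩⟩, fun h => ?_⟩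
  · simpa using congrArg Subtype.val
      (h.is_comm.comm ⟨_, mem_map_of_mem f x.2⟩ ⟨_, mem_map_of_mem f y.2⟩)
  · haveI := h
    exact Subgroup.map_isMulCommutative A f

theorem fam_map {G H : Type u} [Group G] [Group H] (f : G →* H) (hf : Function.Injective f)
    {QG : Subgroup G → Prop} {QH : Subgroup H → Prop} (hiff : ∀ A, QH (A.map f) ↔ QG A)
    (U : Subgroup G) : fam QH (U.map f) = (fun A => A.map f) '' fam QG U := by
  have hcard : ∀ A : Subgroup G, Nat.card (A.map f) = Nat.card A := fun A =>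
    card_map_of_injective hf
  have hpull : ∀ C : Subgroup H, C ≤ U.map f → (C.comap f).map f = C ∧ C.comap f ≤ U := fun C hC =>
    ⟨map_comap_eq_self (hC.trans (map_le_range f U)),
      (comap_mono hC).trans (comap_map_eq_self_of_injective hf U).le⟩
  ext C
  constructor
  · rintro ⟨hQ, hCU, hmax⟩
    obtain ⟨e, hle⟩ := hpull C hCU
    refine ⟨C.comap f, ⟨(hiff _).mp (by rw [e]; exact hQ), hle, fun B hB hBU => ?_⟩, e⟩
    rw [← hcard (C.comap f), e, ← hcard B]
    exact hmax _ ((hiff B).mpr hB) (map_mono hBU)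
  · rintro ⟨A, ⟨hQ, hAU, hmax⟩, rfl⟩
    refine ⟨(hiff A).mpr hQ, map_mono hAU, fun B hB hBU => ?_⟩
    obtain ⟨e, hle⟩ := hpull B hBU
    rw [hcard, ← e, hcard]
    exact hmax _ ((hiff _).mp (by rw [e]; exact hB)) hle

theorem jkind_abelian :
    JKind.{u} p (fun _ _ A => IsMulCommutative A) (fun _ _ U => Cfsg.thompsonSubgroupAOf U) where
  adm _ _ _ := admissible_abelian
  eq _ _ U := thompsonSubgroupAOf_eq_fam U
  extend G _ _ A x hA _ hcomm := by
    rw [zpowers_eq_closure, sup_eq_closure]
    refine Subgroup.isMulCommutative_closure ?_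
    rintro a (ha | ha) b (hb | hb)
    · exact congrArg Subtype.val (hA.is_comm.comm ⟨a, ha⟩ ⟨b, hb⟩)
    · rw [← zpowers_eq_closure] at hb
      obtain ⟨j, rfl⟩ := hb
      exact ((show Commute a x from hcomm a ha).zpow_right j).eq
    · rw [← zpowers_eq_closure] at ha
      obtain ⟨j, rfl⟩ := ha
      exact ((show Commute b x from hcomm b hb).zpow_right j).eq.symm
    · rw [← zpowers_eq_closure] at ha hb
      obtain ⟨i, rfl⟩ := ha
      obtain ⟨j, rfl⟩ := hb
      exact ((Commute.refl x).zpow_zpow i j).eq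
  replMem _ _ _ A B b _ R hB := R.isMulCommutative_repl (Or.inr hB)
  map _ _ _ _ _ _ f U hf := by
    rw [thompsonSubgroupAOf_eq_fam, thompsonSubgroupAOf_eq_fam,
      fam_map f hf (isMulCommutative_map_iff f hf), sSup_image, sSup_eq_iSup, Subgroup.map_iSup]
    simp only [Subgroup.map_iSup]

theorem jkind_elab (hp : p ≠ 2) :
    JKind.{u} p (fun _ _ A => Cfsg.IsElementaryAbelian p A)
      (fun _ _ U => Cfsg.thompsonSubgroupOf p U) where
  adm _ _ _ := admissible_elab hp
  eq G _ U := by
    rw [Thompson.thompsonSubgroupOf_eq]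
    refine congrArg sSup (Set.ext fun A => ?_)
    exact ⟨fun h => ⟨h.2.1, h.1, fun B hB hBU => h.2.2 B hBU hB⟩,
      fun h => ⟨h.2.1, h.1, fun B hBU hB => h.2.2 B hB hBU⟩⟩
  extend G _ _ A x hA hx hcomm := by
    refine Thompson.elab_sup hA (Thompson.elab_zpowers hx) fun a ha => mem_centralizer_iff.mpr ?_
    rintro w ⟨j, rfl⟩
    exact ((show Commute a x from hcomm a ha).zpow_right j).eq.symm
  replMem _ _ _ A B b hA R hB := ⟨R.isMulCommutative_repl (Or.inr hB), fun x hx =>
    R.pow_eq_one (Or.inr hB) p ((Fact.out : p.Prime).odd_of_ne_two hp) hA.2 hx⟩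
  map _ _ _ _ _ _ f U hf := by
    rw [Thompson.thompsonSubgroupOf_eq, Thompson.thompsonSubgroupOf_eq, maxIn_map_hom f hf,
      sSup_image, sSup_eq_iSup, Subgroup.map_iSup]
    simp only [Subgroup.map_iSup]

end CfsgLib.ZJ
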