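import Cfsg.Agent.ZJ.PStable
import Cfsg.Agent.ZJ.SL2Facts
import Cfsg.Prelude.Def_Local

/-!
Quadratic elements in groups acting faithfully on elementary abelian p-groups.
-/

set_option autoImplicit false

namespace CfsgLib.ZJ

open Subgroup
open scoped commutatorElement

variable {G : Type*} [Group G] [Finite G] {p : ℕ} [Fact p.Prime]

theorem sl2_section_of_quadratic (hp : p ≠ 2) {V H : Subgroup G}
    (hV : Cfsg.IsElementaryAbelian p V) (hHV : H ≤ normalizer (V : Set G))
    (hf : H ⊓ centralizer (V : Set G) = ⊥) {a : G} (haH : a ∈ H)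
    (hq : ⁅⁅V, zpowers a⁆, zpowers a⁆ = ⊥) (hna : a ∉ (Cfsg.pCore p H).map H.subtype) :
    ∃ K0 : Subgroup G, K0 ≤ H ∧ ∃ f : K0 →* SL2 (ZMod p), Function.Surjective f := by
  have hn : ¬ PCoreMod p ((centralizer (V : Set G)).subgroupOf H) ⟨a, haH⟩ := by
    rintro ⟨D, hD, haD, hDp⟩
    refine hna ⟨⟨a, haH⟩, Solvable.le_pCore p hD (fun x => ?_) haD, rfl⟩
    obtain ⟨k, hk⟩ := hDp x x.2
    have h1 : ((x : H) ^ p ^ k : H).1 ∈ H ⊓ centralizer (V : Set G) :=
      ⟨((x : H) ^ p ^ k : H).2, mem_subgroupOf.mp hk⟩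
    rw [hf, mem_bot] at h1
    exact ⟨k, Subtype.ext (Subtype.ext h1)⟩
  obtain ⟨K0, hK, h1, -⟩ := sections_of_quadratic hp hV H hHV ⟨a, haH⟩ hq hn
  exact ⟨K0, hK, h1⟩

omit [Fact p.Prime] in
theorem mem_or_isPGroup {H : Subgroup G} {a b : G} (hab : H = closure {a, b})
    (hnp : ¬ IsPGroup p H) :
    a ∉ (Cfsg.pCore p H).map H.subtype ∨ b ∉ (Cfsg.pCore p H).map H.subtype := by
  by_contra h
  push Not at h
  refine hnp (((Solvable.isPGroup_pCore p).map H.subtype).to_le ?_)
  conv_lhs => rw [hab]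
  rw [closure_le]
  rintro x (rfl | rfl)
  exacts [h.1, h.2]

theorem sylow_two_of_section (hp : p ≠ 2) {H K0 : Subgroup G} (hK : K0 ≤ H)
    (f : K0 →* SL2 (ZMod p)) (hf : Function.Surjective f) (T : Sylow 2 H) :
    ¬ IsMulCommutative T :=
  sylow_two_noncomm hp (K0.subgroupOf H) (f.comp (subgroupOfEquivOfLe hK).toMonoidHom)
    (hf.comp (MulEquiv.surjective _)) T

/-- An element of order p inverting nothing in the kernel forces p = 3. -/
theorem eq_three_of_coprime_normalized (hp : p ≠ 2) {V H Q : Subgroup G}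
    (hV : Cfsg.IsElementaryAbelian p V) (hHV : H ≤ normalizer (V : Set G))
    (hf : H ⊓ centralizer (V : Set G) = ⊥) {a : G} (haH : a ∈ H)
    (hq : ⁅⁅V, zpowers a⁆, zpowers a⁆ = ⊥) (hQH : Q ≤ H) (hQn : H ≤ normalizer (Q : Set G))
    (hQ : (Nat.card Q).Coprime p) (hQa : ⁅Q, zpowers a⁆ ≠ ⊥) :
    p = 3 ∧ ∃ K0 : Subgroup G, K0 ≤ H ∧ ∃ f : K0 →* SL2 (ZMod p), Function.Surjective f := by
  have hap : a ^ p = 1 := by
    have h1 : (conjEnd hV ⟨a, hHV haH⟩) ^ p = 1 := by
      set A := conjEnd hV ⟨a, hHV haH⟩ - 1 with hA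
      have hA2 : A * A = 0 := conjEnd_quadratic hV _ hq
      have key : ∀ j : ℕ, (1 + A) ^ j = 1 + (j : ℕ) • A := by
        intro j
        induction j with
        | zero => simp
        | succ j ih =>
          rw [pow_succ, ih, add_mul, mul_add, mul_add, smul_mul_assoc, smul_mul_assoc, hA2,
            smul_zero, mul_one, mul_one, one_mul, succ_nsmul]
          abel
      have := key p
      rw [← Nat.cast_smul_eq_nsmul (ZMod p), ZMod.natCast_self, zero_smul, add_zero, hA,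
        add_sub_cancel] at this
      exact this
    rw [← map_pow, conjEnd_eq_one_iff] at h1
    have h2 : a ^ p ∈ H ⊓ centralizer (V : Set G) := ⟨pow_mem haH p, h1⟩
    rwa [hf, mem_bot] at h2
  set H1 := Q ⊔ zpowers a with hH1
  have hH1H : H1 ≤ H := sup_le hQH (zpowers_le.mpr haH)
  have haH1 : a ∈ H1 := mem_sup_right (mem_zpowers a)
  have hQn1 : (Q.subgroupOf H1).Normal :=
    (normal_subgroupOf_iff_le_normalizer le_sup_left).2 (hH1H.trans hQn)
  have hna : a ∉ (Cfsg.pCore p H1).map H1.subtype := by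
    intro hmem
    apply hQa
    rw [← le_bot_iff, commutator_le]
    intro q hq' z hz
    have hOn : H1 ≤ normalizer (((Cfsg.pCore p H1).map H1.subtype : Subgroup G) : Set G) :=
      le_trans (by rw [normalizer_eq_top, ← MonoidHom.range_eq_map, range_subtype])
        (le_normalizer_map H1.subtype)
    have hzO : z ∈ (Cfsg.pCore p H1).map H1.subtype := (zpowers_le.mpr hmem) hz
    have h1 : ⁅q, z⁆ ∈ (Cfsg.pCore p H1).map H1.subtype := by
      rw [commutatorElement_def]
      exact mul_mem ((mem_normalizer_iff.mp (hOn (mem_sup_left hq')) z).mp hzO) (inv_mem hzO)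
    have h2 : ⁅q, z⁆ ∈ Q := by
      rw [commutatorElement_def, mul_assoc q z, mul_assoc q]
      exact mul_mem hq' ((mem_normalizer_iff.mp (hQn ((zpowers_le.mpr haH) hz)) q⁻¹).mp (inv_mem hq'))
    obtain ⟨k, hk⟩ := ((Solvable.isPGroup_pCore p).map H1.subtype) ⟨_, h1⟩
    have hk' : ⁅q, z⁆ ^ p ^ k = 1 := by simpa using congrArg Subtype.val hk
    rw [mem_bot]
    exact orderOf_eq_one_iff.mp (Nat.eq_one_of_dvd_coprimes (hQ.pow_right k)
      (Q.orderOf_dvd_natCard h2) (orderOf_dvd_of_pow_eq_one hk'))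
  obtain ⟨K0, hK, f, hfs⟩ := sl2_section_of_quadratic hp hV (hH1H.trans hHV)
    (le_bot_iff.mp ((inf_le_inf_right _ hH1H).trans hf.le)) haH1 hq hna
  refine ⟨?_, K0, hK.trans hH1H, f, hfs⟩
  refine eq_three_of_chain hp (H := H1) ![⊥, Q.subgroupOf H1, ⊤] rfl rfl (fun i => ?_) (fun i => ?_)
    (K0.subgroupOf H1) (f.comp (subgroupOfEquivOfLe hK).toMonoidHom)
    (hfs.comp (MulEquiv.surjective _))
  · fin_cases i
    · exact normal_bot
    · exact hQn1
    · exact normal_top
  · fin_cases i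
    · refine ⟨Nat.card Q, fun x hx => ?_, Or.inr hQ⟩
      show x ^ Nat.card Q ∈ (⊥ : Subgroup H1)
      rw [mem_bot]
      have hxQ : (x : G) ∈ Q := mem_subgroupOf.mp hx
      exact Subtype.ext (orderOf_dvd_iff_pow_eq_one.mp (Q.orderOf_dvd_natCard hxQ))
    · refine ⟨p, fun x _ => ?_, Or.inl ⟨1, (pow_one p).symm⟩⟩
      show x ^ p ∈ Q.subgroupOf H1
      have hgen : (⊤ : Subgroup H1) = Q.subgroupOf H1 ⊔ (zpowers a).subgroupOf H1 := by
        rw [← subgroupOf_sup le_sup_left le_sup_right]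
        exact (subgroupOf_self H1).symm
      obtain ⟨q, hq', z, hz, rfl⟩ := mem_sup_of_normal_left.mp (hgen ▸ mem_top x)
      have h1 : QuotientGroup.mk' (Q.subgroupOf H1) ((q * z) ^ p) = 1 := by
        rw [map_pow, map_mul, show QuotientGroup.mk' (Q.subgroupOf H1) q = 1 from
          (QuotientGroup.eq_one_iff q).mpr hq', one_mul, ← map_pow]
        have : z ^ p = 1 := by
          obtain ⟨k, hk⟩ := mem_zpowers_iff.mp (mem_subgroupOf.mp hz)
          refine Subtype.ext ?_
          rw [SubmonoidClass.coe_pow, OneMemClass.coe_one, ← hk, ← zpow_natCast, zpow_comm,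
            zpow_natCast, hap, one_zpow]
        rw [this, map_one]
      exact (QuotientGroup.eq_one_iff _).mp h1

end CfsgLib.ZJ
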