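import Cfsg.Agent.ZJ.ReplacementMain

/-!
Replacement inside a normal subgroup, and the normalizer of a replacement.
-/

set_option autoImplicit false

namespace CfsgLib.ZJ

open Subgroup
open scoped commutatorElement

variable {G : Type*} [Group G] [Finite G] {A B : Subgroup G} {b : G}

theorem ReplData.normalizer_le [hBn : B.Normal] (R : ReplData A B b)
    (hbN : b ∈ normalizer (normalizer (A : Set G) : Set G)) :
    normalizer (A : Set G) ≤ normalizer (repl A b : Set G) := by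
  intro n hn
  have hn' : b * n * b⁻¹ ∈ normalizer (A : Set G) := (mem_normalizer_iff.mp hbN n).mp hn
  have hle : repl A b ≤ (repl A b).comap (MulAut.conj n).toMonoidHom := by
    refine sup_le (fun d hd => inter_le_repl A b ⟨?_, mem_conjA.mpr ?_⟩) ((closure_le _).mpr ?_)
    · simpa using (mem_normalizer_iff.mp hn d).mp hd.1
    · have := (mem_normalizer_iff.mp hn' _).mp (mem_conjA.mp hd.2)
      simpa [mul_assoc] using this
    · rintro _ ⟨a, ha, rfl⟩
      show n * (a * b⁻¹ * a⁻¹ * b) * n⁻¹ ∈ repl A b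
      set n' := b * n * b⁻¹ with hn'def
      have h1 : n * a * n⁻¹ ∈ A := (mem_normalizer_iff.mp hn a).mp ha
      have h2 : n' * a * n'⁻¹ ∈ A := (mem_normalizer_iff.mp hn' a).mp ha
      have e : n * (a * b⁻¹ * a⁻¹ * b) * n⁻¹ = (n * a * n⁻¹ * (n' * a * n'⁻¹)⁻¹) *
          ((n' * a * n'⁻¹) * b⁻¹ * (n' * a * n'⁻¹)⁻¹ * b) := by rw [hn'def]; group
      rw [e]
      refine mul_mem (R.inf_le_repl inf_le_left ⟨A.mul_mem h1 (A.inv_mem h2), ?_⟩) (kappa_mem_repl h2)
      have hm : n⁻¹ * b * n * b⁻¹ ∈ B :=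
        mul_mem (by simpa using hBn.conj_mem b R.hb n⁻¹) (inv_mem R.hb)
      have e2 : n * a * n⁻¹ * (n' * a * n'⁻¹)⁻¹ =
          n * (a * (n⁻¹ * b * n * b⁻¹) * a⁻¹ * (n⁻¹ * b * n * b⁻¹)⁻¹) * n⁻¹ := by
        rw [hn'def]; group
      rw [e2]
      exact hBn.conj_mem _ (mul_mem (hBn.conj_mem _ hm a) (inv_mem hm)) n
  exact mem_normalizer_iff_map_conj_eq.mpr
    (Solvable.eq_of_le_of_card_le (map_le_iff_le_comap.mpr hle)
      (Nat.card_congr ((repl A b).equivMapOfInjective _ (MulAut.conj n).injective).toEquiv).le)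

theorem exponent_facts {p : ℕ} [Fact p.Prime] (hG : IsPGroup p G) (hp : p ≠ 2) (A : Subgroup G) :
    Odd (Monoid.exponent A) ∧ ∀ a ∈ A, a ^ Monoid.exponent A = 1 := by
  refine ⟨?_, fun a ha => by
    simpa using congrArg Subtype.val (Monoid.pow_exponent_eq_one (⟨a, ha⟩ : A))⟩
  obtain ⟨k, hk⟩ := (hG.to_subgroup A).exists_card_eq
  exact (hk ▸ ((Fact.out : p.Prime).odd_of_ne_two hp).pow : Odd (Nat.card A)).of_dvd_nat
    Group.exponent_dvd_nat_card

/-- Among abelian subgroups of largest order of a normal subgroup `D` satisfying an exponent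
condition, one not containing `B` is normalized by `B`. -/
theorem exists_max_normalized {p : ℕ} [Fact p.Prime] (hG : IsPGroup p G) (hp : p ≠ 2)
    (D : Subgroup G) [hD : D.Normal] (B : Subgroup G) [hB : B.Normal] (P : Subgroup G → Prop)
    (hP : ∀ A, P A → IsMulCommutative A ∧ A ≤ D)
    (hrepl : ∀ (A : Subgroup G) (b : G), P A → ReplData A B b → repl A b ≤ D →
      IsMulCommutative (repl A b) → Nat.card (repl A b) = Nat.card A → P (repl A b))
    (hU : ∃ U, P U ∧ ⁅B, B⁆ ≤ U ∧ ¬ B ≤ U) :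
    ∃ A, P A ∧ ⁅B, B⁆ ≤ A ∧ ¬ B ≤ A ∧ B ≤ normalizer (A : Set G) := by
  obtain ⟨A, ⟨hA, hA1, hA2⟩, hmax⟩ := Set.exists_max_image
    {A : Subgroup G | P A ∧ ⁅B, B⁆ ≤ A ∧ ¬ B ≤ A} (fun A => Nat.card ↥(A ⊓ B)) (Set.toFinite _) hU
  refine ⟨A, hA, hA1, hA2, ?_⟩
  by_contra hnot
  obtain ⟨b, R, hb, hbA⟩ := exists_replacement hG (hP A hA).1 hA1
    (by rw [normalizer_eq_top]; exact le_top) hnot
  have hodd : Odd (orderOf b) ∨ IsMulCommutative B := Or.inl (odd_orderOf hG hp b)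
  have hD' : repl A b ≤ D := (repl_le_sup A b).trans (sup_le (hP A hA).2 (by
    rintro _ ⟨a, ha, rfl⟩
    exact hD.conj_mem a ((hP A hA).2 ha) b⁻¹))
  have h1 := hrepl A b hA R hD' (R.isMulCommutative_repl hodd) (R.card_repl hodd)
  have hlt := R.inf_lt hbA
  have h2 : ¬ B ≤ repl A b := fun h => hnot (h.trans R.repl_le_normalizer)
  exact absurd (hmax (repl A b) ⟨h1, R.derived_le_repl, h2⟩)
    (not_le.mpr (Solvable.card_lt_of_lt hlt))

end CfsgLib.ZJ
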