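import Cfsg.Agent.ZJ.ControlMain
import Cfsg.Agent.ZJ.Inherit
import Cfsg.Agent.ZJ.ZKinds

/-!
Control of strong fusion by Z(J(D)) in p-stable groups all of whose p-locals are p-constrained.
-/

set_option autoImplicit false

namespace CfsgLib.ZJ

open Subgroup CfsgLib.Functor
open scoped CfsgLib.Functor

universe u

set_option linter.unusedSectionVars false

variable {p : ℕ} [Fact p.Prime] {Z : ∀ (G : Type u) [Group G], Subgroup G → Subgroup G}

/-- A centre-of-Thompson construction commutes with maps injective on a subgroup containing it. -/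
theorem ZKind.map_of_injOn (K : ZKind p Z) {G H : Type u} [Group G] [Group H] [Finite G] [Finite H]
    (f : G →* H) {T U : Subgroup G} (hU : U ≤ T) (hf : ∀ x ∈ T, f x = 1 → x = 1) :
    Z H (U.map f) = (Z G U).map f := by
  have hinj : Function.Injective (f.comp T.subtype) := by
    rw [injective_iff_map_eq_one]
    exact fun x hx => Subtype.ext (hf x x.2 hx)
  have e : (U.subgroupOf T).map T.subtype = U := map_subgroupOf_eq_of_le hU
  calc Z H (U.map f) = Z H ((U.subgroupOf T).map (f.comp T.subtype)) := by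
        rw [← Subgroup.map_map, e]
    _ = (Z T (U.subgroupOf T)).map (f.comp T.subtype) := K.map T H _ _ hinj
    _ = ((Z T (U.subgroupOf T)).map T.subtype).map f := (Subgroup.map_map _ _ _).symm
    _ = (Z G U).map f := by rw [← K.map T G _ _ T.subtype_injective, e]

/-- Control in a p-constrained p-stable group. -/
theorem fused_of_constrained (K : ZKind p Z) {M : Type u} [Group M] [Finite M]
    (hc : Cfsg.IsPConstrained p M) (hs : Cfsg.IsPStable p M) (S : Sylow p M) (D : Subgroup M)
    (hD : Cfsg.IsStronglyClosed D (S : Subgroup M)) (A : Subgroup M) (g : M) (hA : A ≤ S)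
    (hg : g ⋆ A ≤ S) : Fused (normalizer ((Z M D : Subgroup M) : Set M)) A g := by
  set N := Cfsg.pPrimeCore p M with hN
  have hcop : (Nat.card N).Coprime p := Solvable.coprime_card_pPrimeCore p
  set π := QuotientGroup.mk' N with hπ
  have hinj : ∀ x ∈ (S : Subgroup M), π x = 1 → x = 1 := fun x hx h =>
    mem_bot.mp (isPGroup_inf_coprime S.2 hcop ▸
      (⟨hx, (QuotientGroup.eq_one_iff x).mp h⟩ : x ∈ (S : Subgroup M) ⊓ N))
  -- moving p-subgroups of `S N` into `S`
  have move : ∀ (Y B : Subgroup M), (S : Subgroup M) ≤ Y → IsPGroup p B →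
      B ≤ ((S : Subgroup M) ⊔ N) ⊓ Y → ∃ c ∈ N ⊓ Y, c ⋆ B ≤ S := by
    intro Y B hSY hB hBle
    have hSy : IsSylowIn p (S : Subgroup M) (((S : Subgroup M) ⊔ N) ⊓ Y) :=
      (isSylowIn_top S).of_le (le_inf le_sup_left hSY) le_top
    obtain ⟨h, hh, hhle⟩ := hSy.exists_cj_le hB hBle
    obtain ⟨t, ht, c, hc', rfl⟩ := mem_sup_of_normal_right.mp hh.1
    refine ⟨c, ⟨hc', ?_⟩, ?_⟩
    · have := Y.mul_mem (Y.inv_mem (hSY ht)) hh.2
      rwa [inv_mul_cancel_left] at this
    · rw [cj_le_iff]
      intro b hb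
      have h1 := cj_le_iff.mp hhle b hb
      have h2 := mul_mem (mul_mem (inv_mem ht) h1) ht
      convert h2 using 1
      group
  set Sb := S.mapSurjective (f := π) (QuotientGroup.mk'_surjective N) with hSb
  set Db := D.map π with hDb
  have hDbc : Cfsg.IsStronglyClosed Db (Sb : Subgroup (M ⧸ N)) := by
    refine ⟨map_mono hD.1, ?_⟩
    rintro _ ⟨x, hx, rfl⟩ gb hmem
    obtain ⟨g, rfl⟩ := QuotientGroup.mk'_surjective N gb
    obtain ⟨s, hs', hse⟩ := hmem
    have hgx : g * x * g⁻¹ ∈ (S : Subgroup M) ⊔ N := by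
      have h1 : s⁻¹ * (g * x * g⁻¹) ∈ N := by
        refine (QuotientGroup.eq_one_iff _).mp ?_
        show π (s⁻¹ * (g * x * g⁻¹)) = 1
        rw [map_mul, map_inv, hse, map_mul, map_mul, map_inv]
        exact inv_mul_cancel _
      have := mul_mem (mem_sup_left (T := N) hs') (mem_sup_right (S := (S : Subgroup M)) h1)
      rwa [mul_inv_cancel_left] at this
    obtain ⟨c, hc', hcle⟩ := move ⊤ (g ⋆ zpowers x) le_top
      (isPGroup_cj g (S.2.to_le (zpowers_le.mpr (hD.1 hx)))) (le_inf (by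
        rw [show g ⋆ zpowers x = zpowers (g * x * g⁻¹) from MonoidHom.map_zpowers _ x]
        exact zpowers_le.mpr hgx) le_top)
    have h2 : (c * g) * x * (c * g)⁻¹ ∈ (S : Subgroup M) := by
      have := cj_le_iff.mp hcle _ (conj_mem_cj (g := g) (mem_zpowers x))
      simpa [mul_assoc] using this
    refine ⟨_, hD.2 x hx (c * g) h2, ?_⟩
    rw [map_mul, map_mul, map_mul, map_inv, map_mul, show π c = 1 from
      (QuotientGroup.eq_one_iff c).mpr hc'.1, one_mul]
  have hstb := stableNormal_quotient hs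
  have hcb := centralizer_pCore_quotient_le (p := p) hc
  have hZb : (Z (M ⧸ N) Db).Normal := by
    refine normal_of_coreKer Sb ((K.le _ Db).trans hDbc.1)
      ((le_normalizer.trans (stronglyClosed_normalizer hDbc)).trans (K.normalizer_le Db))
      (K.comm _ Db) hstb ?_
      (K.inter_normal _ Sb Db hDbc hstb _ (Solvable.pCore_normal p) (Solvable.isPGroup_pCore p))
    refine inf_le_right.trans (Solvable.le_pCore p inferInstance fun x => ?_)
    obtain ⟨k, hk⟩ := coreKer_pow x.2
    obtain ⟨j, hj⟩ := (Solvable.isPGroup_pCore p : IsPGroup p (Cfsg.pCore p (M ⧸ N))) ⟨_, hcb hk⟩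
    exact ⟨k + j, Subtype.ext (by simpa [pow_add, pow_mul] using congrArg Subtype.val hj)⟩
  rw [hDb, K.map_of_injOn π hD.1 hinj] at hZb
  set W := Z M D with hW
  have hWS : W ≤ S := (K.le M D).trans hD.1
  have hcm : (W.map π).comap π = W ⊔ N := by rw [comap_map_eq, QuotientGroup.ker_mk']
  have hgN : g ∈ normalizer ((W ⊔ N : Subgroup M) : Set M) := by
    rw [← hcm, normalizer_eq_top (H := (W.map π).comap π)]
    exact mem_top g
  obtain ⟨n, hn, hng⟩ := exists_mul_mem_normalizer (S.2.to_le hWS) hcop hgN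
  set X := normalizer (W : Set M) with hX
  have hSX : (S : Subgroup M) ≤ X :=
    (le_normalizer.trans (stronglyClosed_normalizer hD)).trans (K.normalizer_le D)
  have hB : (n * g) ⋆ A ≤ ((S : Subgroup M) ⊔ N) ⊓ X := by
    rw [cj_le_iff]
    intro a ha
    refine ⟨?_, mul_mem (mul_mem hng (hSX (hA ha))) (X.inv_mem hng)⟩
    have h1 := cj_le_iff.mp hg a ha
    rw [show n * g * a * (n * g)⁻¹ = n * (g * a * g⁻¹) * n⁻¹ by group]
    exact mul_mem (mul_mem (mem_sup_right hn) (mem_sup_left h1)) (Subgroup.inv_mem _ (mem_sup_right hn))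
  obtain ⟨c, hc', hcle⟩ := move X _ hSX (isPGroup_cj _ (S.2.to_le hA)) hB
  rw [cj_cj] at hcle
  refine ⟨c * (n * g), mul_mem hc'.2 hng, fun a ha => ?_⟩
  have h1 := cj_le_iff.mp hcle a ha
  have h2 := cj_le_iff.mp hg a ha
  refine inv_mul_eq_one.mp (hinj _ (mul_mem ((S : Subgroup M).inv_mem h1) h2) ?_)
  have hπc : π c = 1 := (QuotientGroup.eq_one_iff c).mpr hc'.1
  have hπn : π n = 1 := (QuotientGroup.eq_one_iff n).mpr hn
  simp only [map_mul, map_inv, hπc, hπn, one_mul]
  exact inv_mul_cancel _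

/-- Control of strong fusion by `Z(J(D))` when the p-locals are p-constrained. -/
theorem control_of_constrained (hp : p ≠ 2) (K : ZKind p Z) (G : Type u) [Group G] [Finite G]
    (hst : Cfsg.IsNormalizerPStable p G) (S : Sylow p G)
    (hc : ∀ U : Subgroup G, U ≤ (S : Subgroup G) → U ≠ ⊥ →
      Cfsg.IsPConstrained p ↥(normalizer (U : Set G)))
    (D : Subgroup G) (hD : Cfsg.IsStronglyClosed D (S : Subgroup G)) (A : Subgroup G) (g : G)
    (hA : A ≤ S) (hg : g ⋆ A ≤ S) :
    Fused (normalizer ((Z G D : Subgroup G) : Set G)) A g := by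
  by_cases hD1 : D = ⊥
  · refine Fused.of_mem ?_
    have : Z G D = ⊥ := le_bot_iff.mp ((K.le G D).trans hD1.le)
    rw [this, normalizer_eq_top (H := (⊥ : Subgroup G))]
    exact mem_top g
  have hDS : D ⊓ (S : Subgroup G) = D := inf_eq_left.mpr hD.1
  have h := fused_of_local S (fun T => Z G (D ⊓ T))
    (fun N hN => (K.le G _).trans (inf_le_right.trans hN)) (fun V hV hV1 => ?_) (fun N hN => ?_)
    (by rw [hDS]; exact (stronglyClosed_normalizer hD).trans (K.normalizer_le D)) ?_ A g hA hg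
  · rwa [hDS] at h
  · refine K.ne_bot G _ (S.2.to_le (inf_le_left.trans hD.1)) ?_
    intro hbot
    haveI := S.2.isNilpotent
    have hDn : (D.subgroupOf (S : Subgroup G)).Normal :=
      (normal_subgroupOf_iff_le_normalizer hD.1).2 (le_normalizer.trans (stronglyClosed_normalizer hD))
    obtain ⟨z, hz, hz1⟩ := (bot_or_exists_ne_one _).resolve_left
      (PGroupBasic.inf_center_ne_bot (D.subgroupOf (S : Subgroup G)) (fun h => hD1 (by
        have := congrArg (Subgroup.map (S : Subgroup G).subtype) h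
        rwa [map_subgroupOf_eq_of_le hD.1, Subgroup.map_bot] at this)))
    have hcomm : ∀ y ∈ (S : Subgroup G), (z : G) * y * (z : G)⁻¹ = y := fun y hy => by
      have := congrArg Subtype.val (mem_center_iff.mp hz.2 ⟨y, hy⟩)
      simp only [Subgroup.coe_mul] at this
      rw [← this, mul_inv_cancel_right]
    refine hz1 (Subtype.ext (mem_bot.mp (hbot ▸ ⟨mem_subgroupOf.mp hz.1, z.2, ?_⟩)))
    refine mem_normalizer_iff_cj.mpr (eq_of_le_of_card_le' (cj_le_iff.mpr fun x hx => ?_)
      (card_cj (z : G) V).ge)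
    rwa [hcomm x (hV hx)]
  · refine le_trans (fun s hs => ?_) (K.normalizer_le _)
    rw [mem_normalizer_iff]
    intro x
    exact and_congr (mem_normalizer_iff.mp ((le_normalizer.trans (stronglyClosed_normalizer hD)) hs.1) x)
      (mem_normalizer_iff.mp hs.2 x)
  intro V hV hV1 hext A n hn hA hnA
  set M := normalizer (V : Set G) with hM
  set T := (S : Subgroup G) ⊓ M with hTdef
  have hT : IsSylowIn p T M := hext.sylowIn S.2
  obtain ⟨R, hR⟩ := hT.exists_sylow
  have hR' : ∀ x : M, x ∈ (R : Subgroup M) ↔ (x : G) ∈ T := by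
    intro x
    rw [← hR]
    exact ⟨fun h => mem_map_of_mem _ h, fun ⟨y, hy, hyx⟩ => Subtype.ext hyx ▸ hy⟩
  have hcl : Cfsg.IsStronglyClosed ((D ⊓ T).subgroupOf M) (R : Subgroup M) := by
    refine ⟨fun x hx => (hR' x).mpr (mem_subgroupOf.mp hx).2, fun x hx m hm => ?_⟩
    have h1 := (hR' _).mp hm
    exact mem_subgroupOf.mpr ⟨hD.2 _ (mem_subgroupOf.mp hx).1 m h1.1, h1⟩
  have hle : (D ⊓ T) ≤ M := inf_le_right.trans hT.le
  have hO : Cfsg.pCore p M ≠ ⊥ := by
    intro hb
    have h1 : V.subgroupOf M ≤ Cfsg.pCore p M :=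
      Solvable.le_pCore p ((normal_subgroupOf_iff_le_normalizer le_normalizer).2 le_rfl)
        ((S.2.to_le hV).comap_of_injective M.subtype M.subtype_injective)
    rw [hb, le_bot_iff] at h1
    refine hV1 ?_
    have := congrArg (Subgroup.map M.subtype) h1
    rwa [map_subgroupOf_eq_of_le le_normalizer, Subgroup.map_bot] at this
  obtain ⟨x, hx, hxe⟩ := fused_of_constrained K (hc V hV hV1)
    (isPStable_of_normalizer hp (isNormalizerPStable_subgroup M hst) hO) R _ hcl
    (A.subgroupOf M) ⟨n, hn⟩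
    (fun a ha => (hR' a).mpr (hA (mem_subgroupOf.mp ha))) (by
      rintro _ ⟨a, ha, rfl⟩
      refine (hR' _).mpr ?_
      simpa using cj_le_iff.mp hnA _ (mem_subgroupOf.mp ha))
  refine ⟨x, ?_, fun a ha => ?_⟩
  · have h2 := le_normalizer_map M.subtype (mem_map_of_mem M.subtype hx)
    rw [← K.map M G M.subtype _ M.subtype_injective, map_subgroupOf_eq_of_le hle] at h2
    exact h2
  · exact congrArg Subtype.val (hxe ⟨a, (hA ha).2⟩ (mem_subgroupOf.mpr ha))

end CfsgLib.ZJ
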