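import Cfsg.Agent.ZJ.Involve
import Cfsg.Agent.ZJ.SL2Facts
import Cfsg.Agent.Functor.Fusion

/-!
Inverted elements of prime power order.
-/

set_option autoImplicit false
set_option linter.style.haveILetI false

namespace CfsgLib.ZJ

open Subgroup CfsgLib.Functor
open scoped CfsgLib.Functor

/-- Some element inverts a nonidentity `p`-element. -/
def Inverts (p : ℕ) (G : Type*) [Group G] : Prop :=
  ∃ g x : G, x ≠ 1 ∧ (∃ k, x ^ p ^ k = 1) ∧ g * x * g⁻¹ = x⁻¹

variable {G : Type*} [Group G] {p : ℕ}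

theorem Inverts.of_subgroup {M : Subgroup G} (h : Inverts p M) : Inverts p G := by
  obtain ⟨g, x, hx, ⟨k, hk⟩, hgx⟩ := h
  exact ⟨g, x, fun h => hx (Subtype.ext h), ⟨k, by simpa using congrArg Subtype.val hk⟩,
    by simpa using congrArg Subtype.val hgx⟩

theorem inverts_subgroup_iff {M : Subgroup G} : Inverts p M ↔
    ∃ g ∈ M, ∃ x ∈ M, x ≠ 1 ∧ (∃ k, x ^ p ^ k = 1) ∧ g * x * g⁻¹ = x⁻¹ := by
  constructor
  · rintro ⟨g, x, hx, ⟨k, hk⟩, hgx⟩
    exact ⟨g, g.2, x, x.2, fun h => hx (Subtype.ext h),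
      ⟨k, by simpa using congrArg Subtype.val hk⟩, by simpa using congrArg Subtype.val hgx⟩
  · rintro ⟨g, hg, x, hx, hx1, ⟨k, hk⟩, hgx⟩
    exact ⟨⟨g, hg⟩, ⟨x, hx⟩, fun h => hx1 (congrArg Subtype.val h),
      ⟨k, Subtype.ext (by simpa using hk)⟩, Subtype.ext hgx⟩

theorem Inverts.mono {M M' : Subgroup G} (hle : M ≤ M') (h : Inverts p M) : Inverts p M' := by
  obtain ⟨g, hg, x, hx, hr⟩ := inverts_subgroup_iff.mp h
  exact inverts_subgroup_iff.mpr ⟨g, hle hg, x, hle hx, hr⟩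

/-- An element acting as an involution on a `p`-subgroup inverts one of its elements. -/
theorem exists_inverted_of_sq {R : Subgroup G} {j : G} (hj : j ∈ normalizer (R : Set G))
    (hnot : j ∉ centralizer (R : Set G)) (hsq : j ^ 2 ∈ centralizer (R : Set G)) :
    ∃ c ∈ R, c ≠ 1 ∧ j * c * j⁻¹ = c⁻¹ := by
  rw [mem_centralizer_iff] at hnot
  push Not at hnot
  obtain ⟨y, hy, hne⟩ := hnot
  refine ⟨j * y * j⁻¹ * y⁻¹, R.mul_mem ((mem_normalizer_iff.mp hj y).mp hy) (R.inv_mem hy),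
    fun h => hne ?_, ?_⟩
  · rw [mul_inv_eq_one, mul_inv_eq_iff_eq_mul] at h
    exact h.symm
  · have h2 : j ^ 2 * y = y * j ^ 2 := (mem_centralizer_iff.mp hsq y hy).symm
    calc j * (j * y * j⁻¹ * y⁻¹) * j⁻¹ = (j ^ 2 * y) * (j ^ 2)⁻¹ * (j * y⁻¹ * j⁻¹) := by
          rw [pow_two]; group
      _ = (j * y * j⁻¹ * y⁻¹)⁻¹ := by rw [h2]; group

variable [Finite G]

/-- An element of `N(R)` with no odd power centralizing the `p`-subgroup `R` gives an inverted
element. -/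
theorem exists_inverts_of_normalizes {R : Subgroup G} (hR : IsPGroup p R) {g : G}
    (hg : g ∈ normalizer (R : Set G))
    (hodd : ∀ m : ℕ, Odd m → g ^ m ∉ centralizer (R : Set G)) :
    ∃ j ∈ zpowers g, ∃ x ∈ R, x ≠ 1 ∧ (∃ k, x ^ p ^ k = 1) ∧ j * x * j⁻¹ = x⁻¹ := by
  classical
  haveI : Fact (Nat.Prime 2) := ⟨Nat.prime_two⟩
  set o := orderOf g with ho
  set e := o.factorization 2 with he
  set h := g ^ (o / 2 ^ e) with hh
  have h1 : h ∉ centralizer (R : Set G) :=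
    hodd _ ((Nat.coprime_two_left).mp (Nat.coprime_ordCompl Nat.prime_two (orderOf_pos g).ne'))
  have h2 : ∃ i, h ^ 2 ^ i ∈ centralizer (R : Set G) := by
    refine ⟨e, ?_⟩
    rw [hh, ← pow_mul, Nat.div_mul_cancel (Nat.ordProj_dvd o 2), ho, pow_orderOf_eq_one]
    exact one_mem _
  obtain ⟨i, hi, hmin⟩ : ∃ i, h ^ 2 ^ i ∈ centralizer (R : Set G) ∧
      ∀ j < i, h ^ 2 ^ j ∉ centralizer (R : Set G) :=
    ⟨Nat.find h2, Nat.find_spec h2, fun j hj => Nat.find_min h2 hj⟩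
  cases i with
  | zero => exact absurd (by simpa using hi) h1
  | succ i =>
    obtain ⟨c, hc, hc1, hinv⟩ := exists_inverted_of_sq (j := h ^ 2 ^ i)
      (pow_mem (pow_mem hg _) _) (hmin i (Nat.lt_succ_self i)) (by rw [← pow_mul, ← pow_succ]; exact hi)
    obtain ⟨k, hk⟩ := hR ⟨c, hc⟩
    exact ⟨_, pow_mem (pow_mem (mem_zpowers g) _) _, c, hc, hc1,
      ⟨k, by simpa using congrArg Subtype.val hk⟩, hinv⟩

variable [Fact p.Prime]

theorem eq_one_of_eq_inv {x : G} (hp : p ≠ 2) {k : ℕ} (hk : x ^ p ^ k = 1) (hx : x = x⁻¹) :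
    x = 1 := by
  have h2 : x ^ 2 = 1 := by
    rw [pow_two]
    nth_rewrite 1 [hx]
    exact inv_mul_cancel x
  exact orderOf_eq_one_iff.mp (Nat.eq_one_of_dvd_coprimes
    ((Nat.coprime_primes Fact.out Nat.prime_two).mpr hp |>.pow_left k)
    (orderOf_dvd_of_pow_eq_one hk) (orderOf_dvd_of_pow_eq_one h2))

/-- Inverted elements lift through surjective homomorphisms. -/
theorem Inverts.of_surjective (hp : p ≠ 2) {X : Type*} [Group X] [Finite X] (f : G →* X)
    (hf : Function.Surjective f) (h : Inverts p X) : Inverts p G := by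
  obtain ⟨g, x, hx1, ⟨k, hk⟩, hgx⟩ := h
  have hQ : IsPGroup p (zpowers x) := by
    obtain ⟨j, -, hj⟩ := (Nat.dvd_prime_pow Fact.out).mp (orderOf_dvd_of_pow_eq_one hk)
    exact IsPGroup.of_card (n := j) (by rw [Nat.card_zpowers, hj])
  set E := (zpowers x).comap f with hE
  obtain ⟨T⟩ := (inferInstance : Nonempty (Sylow p E))
  set R := (T : Subgroup E).map E.subtype with hR
  have hRS : IsSylowIn p R E := by
    refine ⟨map_subtype_le _, T.2.map _, ?_⟩
    rw [relIndex, subgroupOf, hR, comap_map_eq_self_of_injective E.subtype_injective]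
    exact T.not_dvd_index
  obtain ⟨g0, hg0⟩ := hf g
  have hg0E : g0 ∈ normalizer (E : Set G) := by
    refine mem_normalizer_iff.mpr fun y => ?_
    rw [hE, mem_comap, mem_comap, map_mul, map_mul, map_inv, hg0]
    have hn : g ∈ normalizer ((zpowers x : Subgroup X) : Set X) := by
      rw [mem_normalizer_iff_map_conj_eq, MonoidHom.map_zpowers]
      show zpowers ((MulAut.conj g) x) = _
      rw [MulAut.conj_apply, hgx, zpowers_inv]
    exact mem_normalizer_iff.mp hn (f y)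
  obtain ⟨c, hc, hceq⟩ := hRS.exists_cj_eq (hRS.cj_of_mem hg0E)
  rw [cj_cj, ← mem_normalizer_iff_cj] at hceq
  set n := c * g0 with hn
  obtain ⟨i, hi⟩ : ∃ i : ℤ, x ^ i = f c := mem_zpowers_iff.mp (mem_comap.mp hc)
  have hfn : f n * x * (f n)⁻¹ = x⁻¹ := by
    rw [hn, map_mul, hg0, ← hi]
    calc x ^ i * g * x * (x ^ i * g)⁻¹ = x ^ i * (g * x * g⁻¹) * (x ^ i)⁻¹ := by group
      _ = x⁻¹ := by rw [hgx, (((Commute.refl x).zpow_left i).inv_right).eq, mul_inv_cancel_right]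
  -- `R` maps onto the cyclic group
  have hxR : ∃ r ∈ R, f r = x := by
    set fE := f.subgroupComap (zpowers x) with hfE
    have hfEs : Function.Surjective fE :=
      f.subgroupComap_surjective_of_surjective _ hf
    have htop := ((T.mapSurjective hfEs).3 (hQ.to_subgroup ⊤) le_top).symm
    obtain ⟨r, hr, hrx⟩ : (⟨x, mem_zpowers x⟩ : zpowers x) ∈ (T : Subgroup E).map fE := by
      have h : (⟨x, mem_zpowers x⟩ : zpowers x) ∈ ((T.mapSurjective hfEs : Sylow p _) : Subgroup _) :=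
        htop ▸ mem_top _
      exact h
    exact ⟨r, mem_map_of_mem _ hr, congrArg Subtype.val hrx⟩
  obtain ⟨r, hr, hrx⟩ := hxR
  have hodd : ∀ m : ℕ, Odd m → n ^ m ∉ centralizer (R : Set G) := by
    intro m hm hcen
    refine hx1 ?_
    have h1 : ∀ i : ℕ, Even i → (f n) ^ i * x = x * (f n) ^ i := by
      intro i hi'
      obtain ⟨l, rfl⟩ := hi'
      rw [← two_mul, pow_mul]
      refine ((?_ : Commute (f n ^ 2) x).pow_left l).eq
      rw [Commute, SemiconjBy, pow_two]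
      calc f n * f n * x = f n * (f n * x * (f n)⁻¹) * f n := by group
        _ = f n * x⁻¹ * f n := by rw [hfn]
        _ = (f n * x * (f n)⁻¹)⁻¹ * (f n * f n) := by group
        _ = x * (f n * f n) := by rw [hfn, inv_inv]
    obtain ⟨l, rfl⟩ := hm
    have h2 : (f n) ^ (2 * l + 1) * x = x * (f n) ^ (2 * l + 1) := by
      have := congrArg f (mem_centralizer_iff.mp hcen r hr)
      rw [map_mul, map_mul, map_pow, hrx] at this
      exact this.symm
    have h3 : (f n) ^ (2 * l + 1) * x = x⁻¹ * (f n) ^ (2 * l + 1) := by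
      calc (f n) ^ (2 * l + 1) * x = f n * ((f n) ^ (2 * l) * x) := by rw [pow_succ', mul_assoc]
        _ = (f n * x * (f n)⁻¹) * (f n * (f n) ^ (2 * l)) := by
          rw [h1 _ (even_two_mul l)]; group
        _ = x⁻¹ * (f n) ^ (2 * l + 1) := by rw [hfn, pow_succ']
    exact eq_one_of_eq_inv hp hk (mul_right_cancel (h2.symm.trans h3))
  obtain ⟨j, -, y, -, hy1, hy2, hy3⟩ := exists_inverts_of_normalizes hRS.2.1 hceq hodd
  exact ⟨j, y, hy1, hy2, hy3⟩

/-- Inverted elements lift from involved groups. -/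
theorem Inverts.of_involves (hp : p ≠ 2) {X : Type*} [Group X] [Finite X]
    (hi : Cfsg.Involves X G) (h : Inverts p X) : Inverts p G := by
  obtain ⟨K, f, hf⟩ := exists_surjective_of_involves hi
  exact (h.of_surjective hp f hf).of_subgroup

theorem inverts_qd : Inverts p ↥(Cfsg.qd p) := by
  refine ⟨⟨affMat 0 0 (-1), affMat_mem_qd _ _ _⟩, ⟨affMat 1 0 1, affMat_mem_qd _ _ _⟩, ?_, ⟨1, ?_⟩, ?_⟩
  · intro h
    have h' := (affMat_inj (c := (1 : ZMod p)) (d := 0) (A := 1) (c' := 0) (d' := 0) (A' := 1)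
      (by rw [affMat_one]; exact congrArg Subtype.val h)).1
    exact one_ne_zero h'
  · refine Subtype.ext ?_
    show (affMat (1 : ZMod p) 0 1) ^ p ^ 1 = 1
    have h : ∀ i : ℕ, (affMat (1 : ZMod p) 0 1) ^ i = affMat (i : ZMod p) 0 1 := by
      intro i
      induction i with
      | zero => simp [affMat_one]
      | succ i ih => rw [pow_succ, ih, affMat_mul]; simp
    rw [pow_one, h, ZMod.natCast_self, affMat_one]
  · refine Subtype.ext ?_
    show affMat (0 : ZMod p) 0 (-1) * affMat 1 0 1 * (affMat 0 0 (-1))⁻¹ = (affMat 1 0 1)⁻¹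
    rw [mul_inv_eq_iff_eq_mul, eq_inv_mul_iff_mul_eq, affMat_mul, affMat_mul]
    simp

theorem free_of_not_inverts (hp : p ≠ 2) (h : ¬ Inverts p G) :
    ¬ Cfsg.Involves ↥(Cfsg.qd p) G :=
  fun hi => h (inverts_qd.of_involves hp hi)

/-- An inverted element lies in the normalizer of a nontrivial `p`-subgroup. -/
theorem Inverts.exists_local (h : Inverts p G) :
    ∃ Q : Subgroup G, IsPGroup p Q ∧ Q ≠ ⊥ ∧ Inverts p (normalizer (Q : Set G)) := by
  obtain ⟨g, x, hx1, ⟨k, hk⟩, hgx⟩ := h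
  obtain ⟨j, -, hj⟩ := (Nat.dvd_prime_pow Fact.out).mp (orderOf_dvd_of_pow_eq_one hk)
  refine ⟨zpowers x, IsPGroup.of_card (n := j) (by rw [Nat.card_zpowers, hj]),
    fun h => hx1 (zpowers_eq_bot.mp h), inverts_subgroup_iff.mpr ⟨g, ?_, x, ?_, hx1, ⟨k, hk⟩, hgx⟩⟩
  · rw [mem_normalizer_iff_map_conj_eq, MonoidHom.map_zpowers]
    show zpowers ((MulAut.conj g) x) = _
    rw [MulAut.conj_apply, hgx, zpowers_inv]
  · exact le_normalizer (mem_zpowers x)

end CfsgLib.ZJ
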