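import Cfsg.Agent.Functor.Fusion
import Cfsg.Prelude.Def_EvenType

/-!
Control of strong fusion: the local-to-global step.
-/

set_option autoImplicit false

namespace CfsgLib.ZJ

open Subgroup CfsgLib.Functor
open scoped CfsgLib.Functor

variable {G : Type*} [Group G]

/-- Some element of `X` acts on `A` as `g` does. -/
def Fused (X A : Subgroup G) (g : G) : Prop :=
  ∃ x ∈ X, ∀ a ∈ A, x * a * x⁻¹ = g * a * g⁻¹

theorem Fused.mono {X A B : Subgroup G} {g : G} (h : Fused X B g) (hAB : A ≤ B) : Fused X A g :=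
  let ⟨x, hx, he⟩ := h
  ⟨x, hx, fun a ha => he a (hAB ha)⟩

theorem Fused.of_mem {X A : Subgroup G} {g : G} (hg : g ∈ X) : Fused X A g := ⟨g, hg, fun _ _ => rfl⟩

theorem Fused.congr {X A : Subgroup G} {g g' : G} (h : Fused X A g)
    (he : ∀ a ∈ A, g * a * g⁻¹ = g' * a * g'⁻¹) : Fused X A g' :=
  let ⟨x, hx, hxe⟩ := h
  ⟨x, hx, fun a ha => (hxe a ha).trans (he a ha)⟩

theorem Fused.comp {X A : Subgroup G} {g h : G} (h1 : Fused X A g) (h2 : Fused X (g ⋆ A) h) :
    Fused X A (h * g) := by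
  obtain ⟨x, hx, hxe⟩ := h1
  obtain ⟨y, hy, hye⟩ := h2
  refine ⟨y * x, mul_mem hy hx, fun a ha => ?_⟩
  calc y * x * a * (y * x)⁻¹ = y * (x * a * x⁻¹) * y⁻¹ := by group
    _ = y * (g * a * g⁻¹) * y⁻¹ := by rw [hxe a ha]
    _ = h * (g * a * g⁻¹) * h⁻¹ := hye _ (conj_mem_cj ha)
    _ = h * g * a * (h * g)⁻¹ := by group

theorem Fused.inv {X A : Subgroup G} {g : G} (h : Fused X A g) : Fused X (g ⋆ A) g⁻¹ := by
  obtain ⟨x, hx, hxe⟩ := h
  refine ⟨x⁻¹, inv_mem hx, ?_⟩
  rintro _ ⟨a, ha, rfl⟩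
  simp only [MulEquiv.coe_toMonoidHom, MulAut.conj_apply]
  conv_lhs => rw [← hxe a ha]
  group

variable [Finite G] {p : ℕ} [Fact p.Prime]

/-- Control in the locals gives control in the group. -/
theorem fused_of_local (S : Sylow p G) (W : Subgroup G → Subgroup G)
    (hle : ∀ N : Subgroup G, N ≤ S → W N ≤ S)
    (hne : ∀ V : Subgroup G, V ≤ S → V ≠ ⊥ →
      W ((S : Subgroup G) ⊓ normalizer (V : Set G)) ≠ ⊥)
    (hnorm : ∀ N : Subgroup G, N ≤ S →
      (S : Subgroup G) ⊓ normalizer (N : Set G) ≤ normalizer ((W N : Subgroup G) : Set G))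
    (htop : normalizer ((S : Subgroup G) : Set G) ≤ normalizer ((W S : Subgroup G) : Set G))
    (hloc : ∀ V : Subgroup G, V ≤ S → V ≠ ⊥ → IsExtremal p (S : Subgroup G) V →
      ∀ (A : Subgroup G) (n : G), n ∈ normalizer (V : Set G) →
        A ≤ (S : Subgroup G) ⊓ normalizer (V : Set G) →
        n ⋆ A ≤ (S : Subgroup G) ⊓ normalizer (V : Set G) →
          Fused (normalizer ((W ((S : Subgroup G) ⊓ normalizer (V : Set G)) : Subgroup G) : Set G)) A n)
    (A : Subgroup G) (g : G) (hA : A ≤ S) (hg : g ⋆ A ≤ S) :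
    Fused (normalizer ((W S : Subgroup G) : Set G)) A g := by
  set X := normalizer ((W S : Subgroup G) : Set G) with hX
  set P : Subgroup G → Prop := fun V => ∀ (A : Subgroup G) (n : G), n ∈ normalizer (V : Set G) →
    A ≤ (S : Subgroup G) ⊓ normalizer (V : Set G) →
      n ⋆ A ≤ (S : Subgroup G) ⊓ normalizer (V : Set G) → Fused X A n with hP
  refine (fusion_induction S (Fused X) P (fun _ => True) ?_ (fun A B g hAB _ _ h => h.mono hAB)
    (fun A g h _ _ _ h1 h2 => h1.comp h2) (fun A g _ _ h => h.inv) ?_ ?_ ?_ ?_).1 A g hA hg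
  · intro A hA
    obtain ⟨h, h1, h2, h3⟩ := exists_extremal S hA
    exact ⟨h, h1, h2, h3, trivial⟩
  · exact fun g => ⟨1, one_mem _, fun a ha => by simp [mem_bot.mp ha]⟩
  · exact fun g hg => Fused.of_mem (htop hg)
  · intro U hU _ _ _ hPU n hn
    exact hPU U n hn (le_inf hU le_normalizer)
      (by rw [mem_normalizer_iff_cj.1 hn]; exact le_inf hU le_normalizer)
  · intro V hV hV1 hQ ihP A n hn hA hnA
    obtain ⟨h, hhV, hhN, hext⟩ := exists_extremal S hV
    set N := (S : Subgroup G) ⊓ normalizer (V : Set G) with hNdef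
    set N' := (S : Subgroup G) ⊓ normalizer ((h ⋆ V : Subgroup G) : Set G) with hN'def
    have hNN' : h ⋆ N ≤ N' := le_inf hhN (by rw [← cj_normalizer]; exact cj_mono h inf_le_right)
    have hh : Fused X N h := hQ N h inf_le_left hhN le_rfl
    have hn' : h * n * h⁻¹ ∈ normalizer ((h ⋆ V : Subgroup G) : Set G) := by
      rw [← cj_normalizer]; exact conj_mem_cj hn
    have hA' : h ⋆ A ≤ N' := (cj_mono h hA).trans hNN'
    have hnA' : (h * n * h⁻¹) ⋆ (h ⋆ A) ≤ N' := by
      rw [cj_cj, inv_mul_cancel_right, ← cj_cj]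
      exact (cj_mono h hnA).trans hNN'
    have hV1' : h ⋆ V ≠ ⊥ := fun he => hV1 (cj_eq_bot_iff.1 he)
    obtain ⟨x, hx, hxe⟩ := hloc _ hhV hV1' hext _ _ hn' hA' hnA'
    rw [← hN'def] at hx
    have hmid0 : Fused X (h ⋆ A) x := by
      by_cases hS : N' = (S : Subgroup G)
      · rw [hS] at hx
        exact Fused.of_mem hx
      have hgt : N' < (S : Subgroup G) ⊓ normalizer (N' : Set G) :=
        lt_inf_normalizer S.2 (lt_of_le_of_ne inf_le_left hS)
      have hsub : (S : Subgroup G) ⊓ normalizer (N' : Set G) ≤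
          (S : Subgroup G) ⊓ normalizer ((W N' : Subgroup G) : Set G) :=
        le_inf inf_le_left (hnorm N' inf_le_left)
      refine ihP (W N') (hle N' inf_le_left) (hne _ hhV hV1') ?_ (h ⋆ A) x hx
        (hA'.trans (hgt.le.trans hsub)) ?_
      · have h1 : Nat.card ↥N ≤ Nat.card ↥N' := (card_cj h N).symm.trans_le (card_le_of_le hNN')
        have h2 : Nat.card ↥N' < Nat.card ↥((S : Subgroup G) ⊓ normalizer (N' : Set G)) :=
          lt_of_not_ge fun hc => hgt.ne (eq_of_le_of_card_le' hgt.le hc)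
        have h3 := card_le_of_le hsub
        omega
      · refine le_trans ?_ (hnA'.trans (hgt.le.trans hsub))
        rw [cj_le_iff]
        exact fun a ha => (hxe a ha).symm ▸ conj_mem_cj ha
    have hmid : Fused X (h ⋆ A) (h * n * h⁻¹) := hmid0.congr hxe
    have h1 : Fused X A (h * n) := by simpa using (hh.mono hA).comp hmid
    have h2 : Fused X ((h * n) ⋆ A) h⁻¹ := by
      have := (hh.mono hnA).inv
      rwa [cj_cj] at this
    simpa using h1.comp h2

end CfsgLib.ZJ
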