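import Cfsg.Agent.ZJ.ControlCore

/-!
The induction step for control of strong fusion in a group with nontrivial p-core.
-/

set_option autoImplicit false

namespace CfsgLib.ZJ

open Subgroup CfsgLib.Functor
open scoped CfsgLib.Functor

variable {G : Type*} [Group G] [Finite G] {p : ℕ} [Fact p.Prime]

/-- Strong fusion in a group with a nontrivial p-core reduces to proper subgroups and a quotient. -/
theorem fused_of_pCore (S : Sylow p G) (W : Subgroup G)
    (hSW : normalizer ((S : Subgroup G) : Set G) ≤ normalizer (W : Set G))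
    (hnormal : (S : Subgroup G) ⊓ coreKer p G ≤ Cfsg.pCore p G → W.Normal)
    (hsub : ∀ M : Subgroup G, M ≠ ⊤ → (S : Subgroup G) ≤ M → ∀ (A : Subgroup G) (g : G), g ∈ M →
      A ≤ S → g ⋆ A ≤ S → Fused (normalizer (W : Set G)) A g)
    (hquot : (∀ x : G, ∃ j, x ^ p ^ j ∈ centralizer (Cfsg.pCore p G : Set G)) →
      (S : Subgroup G).map (QuotientGroup.mk' (Cfsg.pCore p G)) ≠ ⊥ →
      ∃ Zb : Subgroup (G ⧸ Cfsg.pCore p G), Zb ≠ ⊥ ∧
        Zb ≤ (S : Subgroup G).map (QuotientGroup.mk' (Cfsg.pCore p G)) ∧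
        (S : Subgroup G).map (QuotientGroup.mk' (Cfsg.pCore p G)) ≤
          normalizer (Zb : Set (G ⧸ Cfsg.pCore p G)) ∧
        ∀ (A : Subgroup (G ⧸ Cfsg.pCore p G)) (g : G ⧸ Cfsg.pCore p G),
          A ≤ (S : Subgroup G).map (QuotientGroup.mk' (Cfsg.pCore p G)) →
          g ⋆ A ≤ (S : Subgroup G).map (QuotientGroup.mk' (Cfsg.pCore p G)) →
            Fused (normalizer (Zb : Set (G ⧸ Cfsg.pCore p G))) A g)
    (A : Subgroup G) (g : G) (hA : A ≤ S) (hg : g ⋆ A ≤ S) :
    Fused (normalizer (W : Set G)) A g := by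
  set P0 := Cfsg.pCore p G with hP0def
  set C := centralizer (P0 : Set G) with hC
  set T := (S : Subgroup G) ⊓ coreKer p G with hT
  set X := normalizer (W : Set G) with hX
  have hP0S : P0 ≤ S := pCore_le_sylow S
  have hSX : (S : Subgroup G) ≤ X := le_normalizer.trans hSW
  by_cases hTn : normalizer (T : Set G) = ⊤
  · have hTP : T ≤ P0 := Solvable.le_pCore p (normalizer_eq_top_iff.mp hTn) (S.2.to_le inf_le_left)
    have hWn : W.Normal := hnormal hTP
    refine Fused.of_mem ?_
    rw [hX, normalizer_eq_top (H := W)]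
    exact mem_top g
  have hST : (S : Subgroup G) ≤ normalizer (T : Set G) := by
    intro s hs
    rw [mem_normalizer_iff]
    intro x
    exact and_congr ⟨fun h => (S : Subgroup G).mul_mem ((S : Subgroup G).mul_mem hs h)
        ((S : Subgroup G).inv_mem hs), fun h => by
      have := (S : Subgroup G).mul_mem ((S : Subgroup G).mul_mem ((S : Subgroup G).inv_mem hs) h) hs
      rwa [show s⁻¹ * (s * x * s⁻¹) * s = x by group] at this⟩ ⟨fun h => coreKer_normal.conj_mem x h s, fun h => by
      have := coreKer_normal.conj_mem _ h s⁻¹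
      simpa [mul_assoc] using this⟩
  by_cases hCS : C ⊔ (S : Subgroup G) = ⊤
  swap
  · -- both factors lie in proper subgroups
    obtain ⟨c, hc, e, he, rfl⟩ := exists_centralizer_mul_normalizer S g
    set M := normalizer (T : Set G) ⊓ (C ⊔ (S : Subgroup G)) with hM
    have hSM : IsSylowIn p (S : Subgroup G) M :=
      (isSylowIn_top S).of_le (le_inf hST le_sup_right) le_top
    have hb : e ⋆ A ≤ M := by
      rw [cj_le_iff]
      intro a ha
      refine ⟨Subgroup.mul_mem _ (Subgroup.mul_mem _ he (hST (hA ha))) (Subgroup.inv_mem _ he), ?_⟩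
      have h1 : c * (e * a * e⁻¹) * c⁻¹ ∈ (S : Subgroup G) := by
        have := cj_le_iff.mp hg a ha
        simpa [mul_assoc] using this
      rw [show e * a * e⁻¹ = c⁻¹ * (c * (e * a * e⁻¹) * c⁻¹) * c by group]
      exact mul_mem (mul_mem (mem_sup_left (C.inv_mem hc)) (mem_sup_right h1)) (mem_sup_left hc)
    obtain ⟨k, hk, hkle⟩ := hSM.exists_cj_le (isPGroup_cj e (S.2.to_le hA)) hb
    rw [cj_cj] at hkle
    have h1 : Fused X A (k * e) := hsub _ hTn hST A _ (mul_mem hk.1 he) hA hkle
    have hck : c * k⁻¹ ∈ C ⊔ (S : Subgroup G) := mul_mem (mem_sup_left hc) (inv_mem hk.2)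
    have h2 : Fused X ((k * e) ⋆ A) (c * k⁻¹) := hsub _ hCS le_sup_right _ _ hck hkle (by
      rw [cj_cj, show c * k⁻¹ * (k * e) = c * e by group]
      exact hg)
    have := h1.comp h2
    rwa [show c * k⁻¹ * (k * e) = c * e by group] at this
  -- `G = C S`
  have hpow : ∀ x : G, ∃ j, x ^ p ^ j ∈ C := by
    intro x
    have hx : QuotientGroup.mk' C x ∈ (S : Subgroup G).map (QuotientGroup.mk' C) := by
      have h := mem_map_of_mem (QuotientGroup.mk' C) (hCS ▸ mem_top x : x ∈ C ⊔ (S : Subgroup G))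
      rwa [Subgroup.map_sup, QuotientGroup.map_mk'_self, bot_sup_eq] at h
    obtain ⟨j, hj⟩ := S.2.map (QuotientGroup.mk' C) ⟨_, hx⟩
    refine ⟨j, (QuotientGroup.eq_one_iff _).mp ?_⟩
    simpa using congrArg Subtype.val hj
  have hSne : P0 ≠ (S : Subgroup G) := by
    intro h
    apply hTn
    have : T = P0 := le_antisymm (inf_le_left.trans h.ge) (le_inf (h.le) fun x hx =>
      mem_coreKer.mpr ⟨P0, Solvable.pCore_normal p, hx, fun y _ => hpow y⟩)
    rw [this, hP0def, normalizer_eq_top (H := Cfsg.pCore p G)]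
  -- the quotient by the p-core
  set π := QuotientGroup.mk' P0 with hπ
  obtain ⟨Zb, hZ1, hZS, hSZ, hfus⟩ := hquot hpow (by
    intro h
    refine hSne (le_antisymm hP0S ?_)
    rw [Subgroup.map_eq_bot_iff, QuotientGroup.ker_mk'] at h
    exact h)
  set M := (normalizer (Zb : Set (G ⧸ P0))).comap π with hM
  have hMne : M ≠ ⊤ := by
    intro htop
    have hZn : Zb.Normal := normalizer_eq_top_iff.mp (by
      rw [eq_top_iff]
      intro y _
      obtain ⟨y, rfl⟩ := QuotientGroup.mk'_surjective P0 y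
      exact (htop ▸ mem_top y : y ∈ M))
    have hle : Zb.comap π ≤ P0 := Solvable.le_pCore p (Normal.comap hZn _) (S.2.to_le (by
      intro x hx
      obtain ⟨s, hs, hsx⟩ := hZS hx
      have h0 : s⁻¹ * x ∈ P0 := by
        refine (QuotientGroup.eq_one_iff _).mp ?_
        show π (s⁻¹ * x) = 1
        rw [map_mul, map_inv, hsx, inv_mul_cancel]
      have := mul_mem hs (hP0S h0)
      rwa [mul_inv_cancel_left] at this))
    apply hZ1
    rw [← map_comap_eq_self_of_surjective (QuotientGroup.mk'_surjective P0) Zb, Subgroup.map_eq_bot_iff,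
      QuotientGroup.ker_mk']
    exact hle
  have hSM : (S : Subgroup G) ≤ M := fun s hs => hSZ ⟨s, hs, rfl⟩
  -- conjugations onto extremal subgroups containing the p-core
  have main : ∀ (A : Subgroup G) (g : G), A ≤ S → P0 ≤ A → g ⋆ A ≤ S →
      IsExtremal p (S : Subgroup G) (g ⋆ A) → Fused X A g := by
    intro A g hA hPA hg hext
    obtain ⟨mb, hmb, hmbe⟩ := hfus (A.map π) (π g) (map_mono hA) (by
      rintro _ ⟨_, ⟨a, ha, rfl⟩, rfl⟩
      refine ⟨g * a * g⁻¹, cj_le_iff.mp hg a ha, ?_⟩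
      simp)
    obtain ⟨m, rfl⟩ := QuotientGroup.mk'_surjective P0 mb
    have hmod : ∀ a ∈ A, (g * a * g⁻¹)⁻¹ * (m * a * m⁻¹) ∈ P0 := by
      intro a ha
      refine (QuotientGroup.eq_one_iff _).mp ?_
      show π ((g * a * g⁻¹)⁻¹ * (m * a * m⁻¹)) = 1
      have := hmbe _ (mem_map_of_mem π ha)
      rw [← map_inv, ← map_mul, ← map_mul, ← map_inv, ← map_mul, ← map_mul] at this
      rw [map_mul, this, map_inv, inv_mul_cancel]
    have hP0g : P0 ≤ g ⋆ A := by
      intro x hx
      exact mem_cj.mpr (hPA (by simpa using (Solvable.pCore_normal p).conj_mem x hx g⁻¹))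
    have hmA : m ⋆ A = g ⋆ A := by
      refine eq_of_le_of_card_le' (cj_le_iff.mpr fun a ha => ?_) (by rw [card_cj, card_cj])
      have := mul_mem (conj_mem_cj (g := g) ha) (hP0g (hmod a ha))
      simpa [mul_assoc] using this
    have h1 : Fused X A m := hsub M hMne hSM A m hmb hA (hmA ▸ hg)
    set B := g ⋆ A with hB
    set f := g * m⁻¹ with hf
    have hfN : f ∈ normalizer (B : Set G) := by
      rw [mem_normalizer_iff_cj, hf]
      conv_lhs => rw [← hmA]
      rw [cj_cj, inv_mul_cancel_right]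
    have hfK : ∀ u ∈ B, f * u * f⁻¹ * u⁻¹ ∈ P0 := by
      intro u hu
      rw [← hmA] at hu
      obtain ⟨a, ha, rfl⟩ := hu
      simp only [MulEquiv.coe_toMonoidHom, MulAut.conj_apply, hf]
      rw [show g * m⁻¹ * (m * a * m⁻¹) * (g * m⁻¹)⁻¹ * (m * a * m⁻¹)⁻¹ =
        (g * a * g⁻¹) * (((g * a * g⁻¹)⁻¹ * (m * a * m⁻¹))⁻¹) * (g * a * g⁻¹)⁻¹ by group]
      exact (Solvable.pCore_normal p).conj_mem _ (inv_mem (hmod a ha)) _
    -- the kernel of the action of `N(B)` on `B / P0`
    let K : Subgroup G :=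
      { carrier := {x | x ∈ normalizer (B : Set G) ∧ ∀ u ∈ B, x * u * x⁻¹ * u⁻¹ ∈ P0}
        one_mem' := ⟨one_mem _, fun u _ => by simp⟩
        mul_mem' := by
          rintro x y ⟨hx, hx'⟩ ⟨hy, hy'⟩
          refine ⟨mul_mem hx hy, fun u hu => ?_⟩
          rw [show x * y * u * (x * y)⁻¹ * u⁻¹ =
            (x * (y * u * y⁻¹) * x⁻¹ * (y * u * y⁻¹)⁻¹) * (y * u * y⁻¹ * u⁻¹) by group]
          exact mul_mem (hx' _ ((mem_normalizer_iff.mp hy u).mp hu)) (hy' u hu)
        inv_mem' := by
          rintro x ⟨hx, hx'⟩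
          refine ⟨inv_mem hx, fun u hu => ?_⟩
          have := inv_mem (hx' _ ((mem_normalizer_iff.mp (inv_mem hx) u).mp hu))
          simpa [mul_assoc] using this }
    have hKN : normalizer (B : Set G) ≤ normalizer (K : Set G) := by
      have key : ∀ n ∈ normalizer (B : Set G), ∀ x ∈ K, n * x * n⁻¹ ∈ K := by
        rintro n hn x ⟨hx, hx'⟩
        refine ⟨mul_mem (mul_mem hn hx) (inv_mem hn), fun u hu => ?_⟩
        rw [show n * x * n⁻¹ * u * (n * x * n⁻¹)⁻¹ * u⁻¹ =
          n * (x * (n⁻¹ * u * n) * x⁻¹ * (n⁻¹ * u * n)⁻¹) * n⁻¹ by group]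
        exact (Solvable.pCore_normal p).conj_mem _
          (hx' _ (by simpa using (mem_normalizer_iff.mp (inv_mem hn) u).mp hu)) n
      intro n hn
      rw [mem_normalizer_iff]
      intro x
      refine ⟨key n hn x, fun hx => ?_⟩
      have := key _ (inv_mem hn) _ hx
      simpa [mul_assoc] using this
    have hKle : K ≤ normalizer (B : Set G) := fun x hx => hx.1
    have hTK := (hext.sylowIn S.2).inf_normal hKle hKN
    set R := (((S : Subgroup G) ⊓ normalizer (B : Set G)) ⊓ K) with hR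
    have hBn : normalizer (B : Set G) ≤ normalizer (centralizer (B : Set G) : Set G) := by
      intro n hn
      rw [mem_normalizer_iff]
      intro x
      simp only [mem_centralizer_iff, SetLike.mem_coe]
      constructor
      · intro hx u hu
        have h0 := hx _ (by simpa using (mem_normalizer_iff.mp (inv_mem hn) u).mp hu)
        calc u * (n * x * n⁻¹) = n * ((n⁻¹ * u * n) * x) * n⁻¹ := by group
          _ = n * (x * (n⁻¹ * u * n)) * n⁻¹ := by rw [h0]
          _ = _ := by group
      · intro hx u hu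
        have h0 := hx _ ((mem_normalizer_iff.mp hn u).mp hu)
        calc u * x = n⁻¹ * ((n * u * n⁻¹) * (n * x * n⁻¹)) * n := by group
          _ = n⁻¹ * ((n * x * n⁻¹) * (n * u * n⁻¹)) * n := by rw [h0]
          _ = _ := by group
    have hmodK : ∀ x ∈ K, ∃ k, x ^ p ^ k ∈ K ⊓ centralizer (B : Set G) := by
      intro x hx
      obtain ⟨j, hj⟩ := hpow x
      have hxj : x ^ p ^ j ∈ K := pow_mem hx _
      obtain ⟨i, hi⟩ := pow_mem_centralizer_of_step (Solvable.isPGroup_pCore p) hj hxj.2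
      exact ⟨j + i, pow_mem hx _, by rw [pow_add, pow_mul]; exact hi⟩
    -- every element of `K` is an element of `R` times one centralizing `B`
    have hKdec : ∀ x ∈ K, ∃ r ∈ R, ∃ z ∈ centralizer (B : Set G), r * z = x := by
      intro x hx
      have hN : R ≤ normalizer (centralizer (B : Set G) : Set G) :=
        (inf_le_left.trans inf_le_right).trans hBn
      set N := (centralizer (B : Set G)).subgroupOf (normalizer (B : Set G)) with hNdef
      haveI : N.Normal := normal_subgroupOf_of_le_normalizer (by exact hBn)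
      have hK' := le_of_sylowIn_of_mod (p := p) (C := N) (K := K.subgroupOf (normalizer (B : Set G)))
        (T := R.subgroupOf (normalizer (B : Set G)))
        (M := R.subgroupOf (normalizer (B : Set G)) ⊔ N) ?_ ?_ le_sup_left
        (inf_le_right.trans le_sup_right)
      · obtain ⟨r, hr, z, hz, hrz⟩ := mem_sup_of_normal_right.mp
          (hK' (show (⟨x, hKle hx⟩ : normalizer (B : Set G)) ∈ _ from mem_subgroupOf.mpr hx))
        exact ⟨r, hr, z, hz, congrArg Subtype.val hrz⟩
      · refine ⟨comap_mono hTK.1, hTK.2.1.of_equiv (subgroupOfEquivOfLe (hTK.1.trans hKle)).symm, ?_⟩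
        rw [relIndex_subgroupOf hKle]
        exact hTK.2.2
      · intro y hy
        obtain ⟨i, hi⟩ := hmodK _ (mem_subgroupOf.mp hy)
        exact ⟨i, mem_subgroupOf.mpr (by simpa using hi.2)⟩
    obtain ⟨r, hr, z, hz, hrz⟩ := hKdec f ⟨hfN, hfK⟩
    have h2 : Fused X (m ⋆ A) f := by
      refine ⟨r, hSX hr.1.1, fun u hu => ?_⟩
      rw [hmA] at hu
      rw [← hrz]
      calc r * u * r⁻¹ = r * (u * (z * z⁻¹)) * r⁻¹ := by group
        _ = r * (z * u * z⁻¹) * r⁻¹ := by rw [← mul_assoc u, mem_centralizer_iff.mp hz u hu]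
        _ = _ := by group
    have := h1.comp h2
    rwa [hf, inv_mul_cancel_right] at this
  -- the general case
  have hA' : A ⊔ P0 ≤ S := sup_le hA hP0S
  have hg' : g ⋆ (A ⊔ P0) ≤ S := by
    rw [Subgroup.map_sup]
    refine sup_le hg ?_
    rintro _ ⟨x, hx, rfl⟩
    exact hP0S ((Solvable.pCore_normal p).conj_mem x hx g)
  obtain ⟨h, hh, -, hext⟩ := exists_extremal S hg'
  have hP : P0 ≤ g ⋆ (A ⊔ P0) := fun x hx => mem_cj.mpr
    (mem_sup_right (by simpa using (Solvable.pCore_normal p).conj_mem x hx g⁻¹))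
  have h2 := main _ h hg' hP hh hext
  rw [cj_cj] at hh hext
  have h1 := main _ (h * g) hA' le_sup_right hh hext
  have h3 := h2.inv
  rw [cj_cj] at h3
  have := h1.comp h3
  rw [inv_mul_cancel_left] at this
  exact this.mono le_sup_left

end CfsgLib.ZJ
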