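import Cfsg.Agent.ZJ.SL2Count
import Mathlib.Algebra.CharP.Basic
import Mathlib.Algebra.BigOperators.Group.Finset.Basic

/-!
The counting argument for Dickson's lemma.
-/

set_option autoImplicit false

namespace CfsgLib.ZJ

open scoped Classical

namespace SL2Count

variable {K : Type*} [Field K] {L : Subgroup (SL2 K)} [Finite L]

/-- Weighted count of a family of centralizers. -/
noncomputable def wsum (R : Finset (Subgroup L)) : ℕ := ∑ A ∈ R, (Nat.card A - 2)

omit [Finite L] in
theorem card_not_nonScalar (h2 : (2 : K) ≠ 0) (hz : (-1 : SL2 K) ∈ L) :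
    Nat.card {g : L // ¬ NonScalar L g} = 2 := by
  have hne : (1 : SL2 K) ≠ -1 := by
    intro h
    have := congrArg (fun a : SL2 K => a 0 0) h
    simp at this
    exact h2 (by linear_combination this)
  rw [Nat.card_eq_two_iff]
  refine ⟨⟨1, (scalar_iff L).mpr (Or.inl rfl)⟩, ⟨⟨-1, hz⟩, (scalar_iff L).mpr (Or.inr rfl)⟩, ?_, ?_⟩
  · intro h
    exact hne (congrArg (fun a => ((a.1 : L) : SL2 K)) h)
  · ext g
    simp only [Set.mem_insert_iff, Set.mem_singleton_iff, Set.mem_univ, iff_true]
    rcases (scalar_iff L).mp g.2 with h | h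
    · exact Or.inl (Subtype.ext (Subtype.ext h))
    · exact Or.inr (Subtype.ext (Subtype.ext h))

omit [Finite L] in
theorem scalar_mem_cz {g z : L} (hzs : ¬ NonScalar L z) : z ∈ cz L g := by
  rw [mem_cz]
  apply Subtype.ext
  rcases (scalar_iff L).mp hzs with h | h <;> simp [h]

theorem card_filter_fam (h2 : (2 : K) ≠ 0) (hz : (-1 : SL2 K) ∈ L) {A : Subgroup L}
    (hA : A ∈ fam L) [Fintype L] :
    ((Finset.univ.filter fun g : L => NonScalar L g).filter fun g => cz L g = A).card + 2
      = Nat.card A := by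
  obtain ⟨g0, hg0, rfl⟩ := (mem_fam L).mp hA
  have h1 : ((Finset.univ.filter fun g : L => NonScalar L g).filter fun g => cz L g = cz L g0)
      = (Finset.univ.filter fun g : L => g ∈ cz L g0).filter fun g => NonScalar L g := by
    ext h
    simp only [Finset.mem_filter, Finset.mem_univ, true_and]
    exact ⟨fun hh => ⟨hh.2 ▸ self_mem_cz L h, hh.1⟩, fun hh => ⟨hh.2, cz_eq_of_mem L hg0 hh.2 hh.1⟩⟩
  have h2' : ((Finset.univ.filter fun g : L => g ∈ cz L g0).filter fun g => ¬ NonScalar L g).card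
      = 2 := by
    refine Eq.trans ?_ (card_not_nonScalar h2 hz)
    rw [Nat.card_eq_fintype_card, Fintype.card_subtype]
    congr 1
    ext h
    simp only [Finset.mem_filter, Finset.mem_univ, true_and]
    exact ⟨fun hh => hh.2, fun hh => ⟨scalar_mem_cz hh, hh⟩⟩
  have h3 := Finset.card_filter_add_card_filter_not
    (s := Finset.univ.filter fun g : L => g ∈ cz L g0) (fun g => NonScalar L g)
  have h4 : (Finset.univ.filter fun g : L => g ∈ cz L g0).card = Nat.card (cz L g0) := by
    rw [Nat.card_eq_fintype_card, Fintype.card_subtype]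
  rw [h1]
  omega

theorem wsum_fam (h2 : (2 : K) ≠ 0) (hz : (-1 : SL2 K) ∈ L) :
    wsum (fam L) + 2 = Nat.card L := by
  let _ := Fintype.ofFinite L
  have h1 : (Finset.univ.filter fun g : L => NonScalar L g).card = wsum (fam L) := by
    rw [Finset.card_eq_sum_card_image (cz L)]
    have hf : fam L = (Finset.univ.filter fun g : L => NonScalar L g).image (cz L) := by
      unfold fam
      congr!
    rw [wsum, hf]
    refine Finset.sum_congr rfl fun A hA => ?_
    rw [← card_filter_fam h2 hz (by rw [hf]; exact hA)]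
    omega
  have h3 : (Finset.univ.filter fun g : L => ¬ NonScalar L g).card = 2 := by
    refine Eq.trans ?_ (card_not_nonScalar h2 hz)
    rw [Nat.card_eq_fintype_card, Fintype.card_subtype]
  have h4 := Finset.card_filter_add_card_filter_not
    (s := (Finset.univ : Finset L)) (fun g => NonScalar L g)
  rw [Finset.card_univ, ← Nat.card_eq_fintype_card] at h4
  omega

theorem card_fam_mem (h2 : (2 : K) ≠ 0) (hz : (-1 : SL2 K) ∈ L) {A : Subgroup L}
    (hA : A ∈ fam L) : ∃ u, 2 ≤ u ∧ Nat.card A = 2 * u := by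
  let _ := Fintype.ofFinite L
  have h := card_filter_fam h2 hz hA
  obtain ⟨g0, hg0, rfl⟩ := (mem_fam L).mp hA
  have hpos : 1 ≤ ((Finset.univ.filter fun g : L => NonScalar L g).filter
      fun g => cz L g = cz L g0).card :=
    Finset.card_pos.mpr ⟨g0, by simp [hg0]⟩
  have hdvd : 2 ∣ Nat.card (cz L g0) := by
    let z : L := ⟨-1, hz⟩
    have hzm : z ∈ cz L g0 := scalar_mem_cz ((scalar_iff L).mpr (Or.inr rfl))
    have ho : orderOf (⟨z, hzm⟩ : cz L g0) = 2 := by
      apply orderOf_eq_prime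
      · apply Subtype.ext
        apply Subtype.ext
        simp [z, sq]
      · intro hh
        have := congrArg (fun a : cz L g0 => ((a : L) : SL2 K) 0 0) hh
        simp [z] at this
        exact h2 (by linear_combination (-1 : K) * this)
    have h5 := orderOf_dvd_natCard (⟨z, hzm⟩ : cz L g0)
    rwa [ho] at h5
  obtain ⟨u, hu⟩ := hdvd
  exact ⟨u, by omega, hu⟩

/-- `R` is stable under conjugation. -/
def Closed (R : Finset (Subgroup L)) : Prop := ∀ A ∈ R, orb L A ⊆ R

theorem closed_sdiff {R : Finset (Subgroup L)} (hR : Closed R) {A : Subgroup L} :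
    Closed (R \ orb L A) := by
  intro C hC D hD
  rw [Finset.mem_sdiff] at hC ⊢
  refine ⟨hR C hC.1 hD, fun hDA => hC.2 ?_⟩
  rw [← orb_eq_of_mem L hDA, orb_eq_of_mem L hD]
  exact self_mem_orb L C

theorem wsum_orb (A : Subgroup L) : wsum (orb L A) = (orb L A).card * (Nat.card A - 2) := by
  rw [wsum, Finset.sum_const_nat]
  intro C hC
  obtain ⟨x, rfl⟩ := (mem_orb L).mp hC
  rw [card_cj]

theorem wsum_split {R : Finset (Subgroup L)} (hR : Closed R) {A : Subgroup L} (hA : A ∈ R) :
    wsum R = (orb L A).card * (Nat.card A - 2) + wsum (R \ orb L A) := by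
  rw [← wsum_orb, wsum, wsum, wsum, add_comm, Finset.sum_sdiff (hR A hA)]

/-- A member of the family outside the orbit of the unipotent centralizer has small index in its
normalizer. -/
def SmallNorm (A : Subgroup L) : Prop :=
  ∃ s, (s = 1 ∨ s = 2) ∧ Nat.card (Subgroup.normalizer (A : Set L)) = s * Nat.card A

theorem orbit_data {A : Subgroup L} (hs : SmallNorm A) :
    ∃ s O, (s = 1 ∨ s = 2) ∧ O = (orb L A).card ∧ O * (s * Nat.card A) = Nat.card L := by
  obtain ⟨s, hs1, hs2⟩ := hs
  exact ⟨s, _, hs1, rfl, by rw [← hs2]; exact card_orb L A⟩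

theorem wsum_lower (h2 : (2 : K) ≠ 0) (hz : (-1 : SL2 K) ∈ L) {R : Finset (Subgroup L)}
    (hR : Closed R) (hRf : R ⊆ fam L) (hs : ∀ A ∈ R, SmallNorm A) :
    R = ∅ ∨ Nat.card L ≤ 4 * wsum R := by
  rcases R.eq_empty_or_nonempty with h | ⟨A, hA⟩
  · exact Or.inl h
  right
  obtain ⟨s, O, hs1, hO, hn⟩ := orbit_data (hs A hA)
  obtain ⟨u, hu, hu'⟩ := card_fam_mem h2 hz (hRf hA)
  rw [wsum_split hR hA, ← hO, hu']
  rw [hu'] at hn
  have h1 : O * u ≤ O * (2 * u - 2) := Nat.mul_le_mul_left _ (by omega)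
  rcases hs1 with rfl | rfl <;> nlinarith

end SL2Count

end CfsgLib.ZJ
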