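import Cfsg.Agent.ZJ.Dickson
import Mathlib.GroupTheory.GroupAction.Quotient

/-!
Dickson's lemma, main theorem.
-/

set_option autoImplicit false

namespace CfsgLib.ZJ

open scoped Classical

namespace SL2Count

variable {K : Type*} [Field K] {L : Subgroup (SL2 K)}

theorem normalizer_uz {x : L} (hx : (x : SL2 K) = upper 1) :
    Subgroup.normalizer (uz L : Set L) = borel L := by
  have x10 : ent L x 1 0 = 0 := by simp [ent, hx]
  have x00 : ent L x 0 0 = 1 := by simp [ent, hx]
  have x11 : ent L x 1 1 = 1 := by simp [ent, hx]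
  have x01 : ent L x 0 1 = 1 := by simp [ent, hx]
  apply le_antisymm
  · intro n hn
    have hxu : x ∈ uz L := ⟨x10, x00.trans x11.symm⟩
    have := ((Subgroup.mem_normalizer_iff).mp hn x).mp hxu
    have h := this.1
    rw [ent_mul, ent_mul, ent_mul, x10, x00, x01, x11, (ent_inv L n).1, (ent_inv L n).2.2.1] at h
    have hd := ent_det L n
    have : ent L n 1 0 * ent L n 1 0 = 0 := by linear_combination -h
    exact mul_self_eq_zero.mp this
  · intro n hn
    rw [mem_borel] at hn
    have key : ∀ a : L, ∀ n : L, ent L n 1 0 = 0 → a ∈ uz L → n * a * n⁻¹ ∈ uz L := by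
      intro a n hn ha
      obtain ⟨a10, a00⟩ := ha
      have hd := ent_det L n
      rw [hn] at hd
      constructor
      · simp only [ent_mul, hn, a10, (ent_inv L n).1, (ent_inv L n).2.2.1]
        ring
      · simp only [ent_mul, hn, a10, a00, (ent_inv L n).1, (ent_inv L n).2.1, (ent_inv L n).2.2.1,
          (ent_inv L n).2.2.2]
        ring
    rw [Subgroup.mem_normalizer_iff]
    intro a
    refine ⟨key a n hn, fun h => ?_⟩
    have h2 := key _ n⁻¹ (by rw [(ent_inv L n).2.2.1, hn, neg_zero]) h
    simpa [mul_assoc] using h2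

variable [Finite L]

theorem card_uz (h2 : (2 : K) ≠ 0) (hz : (-1 : SL2 K) ∈ L) :
    Nat.card (uz L) = 2 * Nat.card (unip L) := by
  let z : L := ⟨-1, hz⟩
  have zent : ent L z 0 0 = -1 ∧ ent L z 1 0 = 0 ∧ ent L z 0 1 = 0 ∧ ent L z 1 1 = -1 := by
    simp [ent, z]
  have zmem : z ∈ uz L := ⟨zent.2.1, zent.1.trans zent.2.2.2.symm⟩
  let f : Bool × unip L → uz L := fun be =>
    ⟨(if be.1 then z else 1) * be.2, (uz L).mul_mem (by split_ifs; exacts [zmem, one_mem _])
      (unip_le_uz L be.2.2)⟩
  have key : ∀ (b : Bool) (e : unip L),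
      ent L ((if b then z else 1) * (e : L)) 0 0 = if b then -1 else 1 := by
    intro b e
    cases b <;> simp only [Bool.false_eq_true, ↓reduceIte, one_mul, ent_mul, zent.1, zent.2.1,
      zent.2.2.1, e.2.1, e.2.2] <;> ring
  have hf : Function.Bijective f := by
    constructor
    · rintro ⟨b, e⟩ ⟨b', e'⟩ h
      have h' : (if b then z else 1) * (e : L) = (if b' then z else 1) * (e' : L) :=
        congrArg Subtype.val h
      have hb := congrArg (fun a : L => ent L a 0 0) h'
      simp only [key] at hb
      have hbb : b = b' := by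
        cases b <;> cases b' <;> simp at hb ⊢
        · exact h2 (by linear_combination hb)
        · exact h2 (by linear_combination (-1 : K) * hb)
      subst hbb
      exact Prod.ext rfl (Subtype.ext (mul_left_cancel h'))
    · rintro ⟨a, ha⟩
      have hd := ent_det L a
      rw [ha.1, ← ha.2] at hd
      have : (ent L a 0 0 - 1) * (ent L a 0 0 + 1) = 0 := by linear_combination hd
      rcases mul_eq_zero.mp this with h | h
      · exact ⟨(false, ⟨a, ha.1, sub_eq_zero.mp h⟩), Subtype.ext (one_mul a)⟩
      · refine ⟨(true, ⟨z * a, ?_, ?_⟩), Subtype.ext ?_⟩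
        · rw [ent_mul, zent.2.1, ha.1]; ring
        · rw [ent_mul, zent.1, zent.2.2.1, eq_neg_of_add_eq_zero_left h]; ring
        · apply Subtype.ext
          simp [f, z]
  rw [← Nat.card_congr (Equiv.ofBijective f hf), Nat.card_prod]
  simp

theorem smallNorm_of_trace (h2 : (2 : K) ≠ 0) {g : L} (hg : NonScalar L g)
    (ht : ent L g 0 0 + ent L g 1 1 ≠ 2) (ht' : ent L g 0 0 + ent L g 1 1 ≠ -2) :
    SmallNorm (cz L g) := by
  set N := Subgroup.normalizer (cz L g : Set L) with hN
  have hle : cz L g ≤ N := Subgroup.le_normalizer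
  have himg : ∀ n : L, n ∈ N → n * g * n⁻¹ = g ∨ n * g * n⁻¹ = g⁻¹ := by
    intro n hn
    set h := n * g * n⁻¹ with hh
    have hm : h ∈ cz L g := ((Subgroup.mem_normalizer_iff).mp hn g).mp (self_mem_cz L g)
    have htr : ent L h 0 0 + ent L h 1 1 = ent L g 0 0 + ent L g 1 1 := by
      have hd := ent_det L n
      simp only [hh, ent_mul, (ent_inv L n).1, (ent_inv L n).2.1, (ent_inv L n).2.2.1,
        (ent_inv L n).2.2.2]
      linear_combination (ent L g 0 0 + ent L g 1 1) * hd
    have hdh := ent_det L h
    have hdg := ent_det L g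
    have hc := (mem_cz L).mp hm
    have e : ∀ i j, ent L h i 0 * ent L g 0 j + ent L h i 1 * ent L g 1 j
        = ent L g i 0 * ent L h 0 j + ent L g i 1 * ent L h 1 j := by
      intro i j
      rw [← ent_mul, ← ent_mul, hc]
    have e00 := e 0 0
    have e01 := e 0 1
    have e10 := e 1 0
    set a := ent L g 0 0
    set b := ent L g 0 1
    set c := ent L g 1 0
    set d := ent L g 1 1
    set A := ent L h 0 0
    set B := ent L h 0 1
    set C := ent L h 1 0
    set D := ent L h 1 1
    have hD : (a - d) * (a - d) + 4 * b * c ≠ 0 := by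
      intro h0
      have : (a + d - 2) * (a + d + 2) = 0 := by linear_combination h0 + 4 * hdg
      rcases mul_eq_zero.mp this with h' | h'
      · exact ht (by linear_combination h')
      · exact ht' (by linear_combination h')
    have hsame : (A - D) * (A - D) + 4 * B * C = (a - d) * (a - d) + 4 * b * c := by
      linear_combination (A + D + a + d) * htr - 4 * hdh + 4 * hdg
    -- proportionality
    have p1 : B * c = b * C := by linear_combination e00
    have p2 : B * (a - d) = b * (A - D) := by linear_combination -e01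
    have p3 : C * (a - d) = c * (A - D) := by linear_combination e10
    have hpm : (A = a ∧ B = b ∧ C = c ∧ D = d) ∨ (A = d ∧ B = -b ∧ C = -c ∧ D = a) := by
      have q1 : ((A - D) - (a - d)) * ((A - D) + (a - d)) * ((a - d) * (a - d) + 4 * b * c) = 0 := by
        linear_combination (a - d) ^ 2 * hsame - 4 * B * (a - d) * p3 - 4 * c * (A - D) * p2
      have q2 : (B - b) * (B + b) * ((a - d) * (a - d) + 4 * b * c) = 0 := by
        linear_combination (B * (a - d) + b * (A - D)) * p2 + b ^ 2 * hsame + 4 * B * b * p1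
      have q3 : (C - c) * (C + c) * ((a - d) * (a - d) + 4 * b * c) = 0 := by
        linear_combination (C * (a - d) + c * (A - D)) * p3 + c ^ 2 * hsame - 4 * C * c * p1
      have r1 := (mul_eq_zero.mp q1).resolve_right hD
      have r2 := (mul_eq_zero.mp q2).resolve_right hD
      have r3 := (mul_eq_zero.mp q3).resolve_right hD
      rcases mul_eq_zero.mp r1 with s1 | s1
      · have hA : A = a := mul_left_cancel₀ h2 (by linear_combination s1 + htr)
        have hD' : D = d := by linear_combination htr - hA
        by_cases had : a - d = 0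
        · rcases mul_eq_zero.mp r2 with s2 | s2
          · have hbne : b ≠ 0 := by
              intro hb
              apply hD
              rw [hb, had]; ring
            have hB : B = b := sub_eq_zero.mp s2
            exact Or.inl ⟨hA, hB, mul_left_cancel₀ hbne (by rw [← p1, hB]), hD'⟩
          · have hbne : b ≠ 0 := by
              intro hb
              apply hD
              rw [hb, had]; ring
            have hB : B = -b := eq_neg_of_add_eq_zero_left s2
            refine Or.inr ⟨?_, hB, mul_left_cancel₀ hbne (by rw [← p1, hB]; ring), ?_⟩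
            · linear_combination hA + had
            · linear_combination hD' - had
        · exact Or.inl ⟨hA, mul_right_cancel₀ had (by linear_combination p2 + b * s1),
            mul_right_cancel₀ had (by linear_combination p3 + c * s1), hD'⟩
      · have hA : A = d := mul_left_cancel₀ h2 (by linear_combination s1 + htr)
        have hD' : D = a := by linear_combination htr - hA
        by_cases had : a - d = 0
        · rcases mul_eq_zero.mp r2 with s2 | s2
          · have hbne : b ≠ 0 := by
              intro hb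
              apply hD
              rw [hb, had]; ring
            have hB : B = b := sub_eq_zero.mp s2
            refine Or.inl ⟨?_, hB, mul_left_cancel₀ hbne (by rw [← p1, hB]), ?_⟩
            · linear_combination hA - had
            · linear_combination hD' + had
          · have hbne : b ≠ 0 := by
              intro hb
              apply hD
              rw [hb, had]; ring
            have hB : B = -b := eq_neg_of_add_eq_zero_left s2
            exact Or.inr ⟨hA, hB, mul_left_cancel₀ hbne (by rw [← p1, hB]; ring), hD'⟩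
        · exact Or.inr ⟨hA, mul_right_cancel₀ had (by linear_combination p2 + b * s1),
            mul_right_cancel₀ had (by linear_combination p3 + c * s1), hD'⟩
    rcases hpm with ⟨x1, x2, x3, x4⟩ | ⟨x1, x2, x3, x4⟩
    · exact Or.inl (ent_ext L x1 x2 x3 x4)
    · refine Or.inr (ent_ext L ?_ ?_ ?_ ?_)
      · rw [(ent_inv L g).1]; exact x1
      · rw [(ent_inv L g).2.1]; exact x2
      · rw [(ent_inv L g).2.2.1]; exact x3
      · rw [(ent_inv L g).2.2.2]; exact x4
  have hidx : (cz L g).relIndex N ≤ 2 := by
    rw [Subgroup.relIndex, Subgroup.index]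
    let φ : (N ⧸ (cz L g).subgroupOf N) → ({g, g⁻¹} : Finset L) := fun q =>
      Quotient.liftOn' q (fun n => (⟨(n : L) * g * (n : L)⁻¹, by
        rcases himg n n.2 with h | h <;> simp [h]⟩ : ({g, g⁻¹} : Finset L)))
        (fun a b hab => by
          have := QuotientGroup.leftRel_apply.mp hab
          rw [Subgroup.mem_subgroupOf, mem_cz] at this
          apply Subtype.ext
          show (a : L) * g * (a : L)⁻¹ = (b : L) * g * (b : L)⁻¹
          simp only [Subgroup.coe_mul, Subgroup.coe_inv] at this
          calc (a : L) * g * (a : L)⁻¹ = (a : L) * (((a : L)⁻¹ * b) * g * ((a : L)⁻¹ * b)⁻¹) * (a : L)⁻¹ := by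
                rw [this]; group
            _ = _ := by group)
    have hφ : Function.Injective φ := by
      intro q r
      refine Quotient.inductionOn₂' q r fun a b hab => Quotient.sound' ?_
      rw [QuotientGroup.leftRel_apply, Subgroup.mem_subgroupOf, mem_cz]
      have h : (a : L) * g * (a : L)⁻¹ = (b : L) * g * (b : L)⁻¹ := congrArg Subtype.val hab
      simp only [Subgroup.coe_mul, Subgroup.coe_inv]
      calc (a : L)⁻¹ * b * g = (a : L)⁻¹ * ((b : L) * g * (b : L)⁻¹) * b := by group
        _ = (a : L)⁻¹ * ((a : L) * g * (a : L)⁻¹) * b := by rw [h]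
        _ = g * ((a : L)⁻¹ * b) := by group
    refine le_trans (Nat.card_le_card_of_injective φ hφ) ?_
    rw [Nat.card_eq_fintype_card, Fintype.card_coe]
    exact Finset.card_le_two
  have hpos : (cz L g).relIndex N ≠ 0 := Subgroup.index_ne_zero_of_finite
  refine ⟨(cz L g).relIndex N, by omega, ?_⟩
  rw [← Subgroup.relIndex_bot_left (cz L g), ← Subgroup.relIndex_bot_left, mul_comm]
  exact (Subgroup.relIndex_mul_relIndex _ _ _ bot_le hle).symm

omit [Finite L] in
theorem nontrivial_coset {h : L} : (QuotientGroup.mk h : L ⧸ borel L) ≠ QuotientGroup.mk 1 ↔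
    ent L h 1 0 ≠ 0 := by
  rw [Ne, QuotientGroup.eq, mul_one, Subgroup.inv_mem_iff, mem_borel]

omit [Finite L] in
theorem unip_free {e : L} (he : e ∈ unip L) (h : L) (hh : ent L h 1 0 ≠ 0) :
    ent L (e * h) 1 0 ≠ 0 ∧ (ent L (h⁻¹ * e * h) 1 0 = 0 → e = 1) := by
  have h11 := unip_11 L he
  constructor
  · rw [ent_mul, he.1, h11]
    simpa using hh
  · intro h0
    simp only [ent_mul, he.1, he.2, h11, (ent_inv L h).2.2.1, (ent_inv L h).2.2.2] at h0
    have : ent L e 0 1 * (ent L h 1 0 * ent L h 1 0) = 0 := by linear_combination -h0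
    have e01 : ent L e 0 1 = 0 := by
      rcases mul_eq_zero.mp this with h' | h'
      · exact h'
      · exact absurd (mul_self_eq_zero.mp h') hh
    obtain ⟨o1, o2, o3, o4⟩ := ent_one L
    exact ent_ext L (he.2.trans o1.symm) (e01.trans o2.symm) (he.1.trans o3.symm) (h11.trans o4.symm)

/-- The index of the Borel subgroup is `1 + k |E|`; if it is `1 + |E|` then the unipotent radical is
transitive on the non-trivial cosets. -/
theorem index_borel : ∃ k, (borel L).index = 1 + k * Nat.card (unip L) ∧
    (k = 1 → ∀ h h' : L, ent L h 1 0 ≠ 0 → ent L h' 1 0 ≠ 0 →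
      ∃ e ∈ unip L, ent L (h'⁻¹ * (e * h)) 1 0 = 0) := by
  let _ := Fintype.ofFinite L
  let X := {c : L ⧸ borel L // c ≠ QuotientGroup.mk 1}
  have hsmul : ∀ (e : unip L) (c : L ⧸ borel L), c ≠ QuotientGroup.mk 1 →
      (e : L) • c ≠ QuotientGroup.mk 1 := by
    intro e c
    refine Quotient.inductionOn' c fun h hh => ?_
    exact nontrivial_coset.mpr (unip_free e.2 h (nontrivial_coset.mp hh)).1
  letI act : MulAction (unip L) X :=
    { smul := fun e c => ⟨(e : L) • c.1, hsmul e c.1 c.2⟩
      one_smul := fun c => Subtype.ext (one_smul L c.1)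
      mul_smul := fun a b c => Subtype.ext (mul_smul (a : L) (b : L) c.1) }
  have hfree : ∀ c : X, MulAction.stabilizer (unip L) c = ⊥ := by
    rintro ⟨c, hc⟩
    induction c using Quotient.inductionOn' with
    | h h =>
      refine (Subgroup.eq_bot_iff_forall _).mpr fun e he => ?_
      have h1 : (QuotientGroup.mk ((e : L) * h) : L ⧸ borel L) = QuotientGroup.mk h :=
        congrArg Subtype.val (MulAction.mem_stabilizer_iff.mp he)
      rw [eq_comm, QuotientGroup.eq, ← mul_assoc, mem_borel] at h1
      exact Subtype.ext ((unip_free e.2 h (nontrivial_coset.mp hc)).2 h1)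
  refine ⟨Nat.card (MulAction.orbitRel.Quotient (unip L) X), ?_, ?_⟩
  · have hX : Nat.card X = Nat.card (MulAction.orbitRel.Quotient (unip L) X) * Nat.card (unip L) := by
      rw [Nat.card_congr (MulAction.selfEquivOrbitsQuotientProd hfree), Nat.card_prod]
    rw [← hX, Subgroup.index]
    rw [← Nat.card_congr (Equiv.optionSubtypeNe (QuotientGroup.mk 1 : L ⧸ borel L)),
      Finite.card_option]
    ring
  · intro hk h h' hh hh'
    have hsub : Subsingleton (MulAction.orbitRel.Quotient (unip L) X) :=
      (Nat.card_eq_one_iff_unique.mp hk).1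
    have hq := Quotient.exact' (@Subsingleton.elim _ hsub
      (Quotient.mk'' (⟨QuotientGroup.mk h', nontrivial_coset.mpr hh'⟩ : X))
      (Quotient.mk'' (⟨QuotientGroup.mk h, nontrivial_coset.mpr hh⟩ : X)))
    obtain ⟨e, he⟩ := MulAction.orbitRel_apply.mp hq
    refine ⟨e, e.2, ?_⟩
    have h1 : (QuotientGroup.mk ((e : L) * h) : L ⧸ borel L) = QuotientGroup.mk h' :=
      congrArg Subtype.val he
    rw [eq_comm, QuotientGroup.eq, mem_borel] at h1
    exact h1

theorem card_torus_le (h2 : (2 : K) ≠ 0) (hz : (-1 : SL2 K) ∈ L) {x : L}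
    (hx : (x : SL2 K) = upper 1) {g0 : L} (hg10 : ent L g0 1 0 = 0)
    (hg00 : ent L g0 0 0 ≠ ent L g0 1 1) :
    Nat.card (borel L) = Nat.card (unip L) * Nat.card (cz L g0) ∧
      Nat.card (cz L g0) ≤ 2 * (Nat.card (unip L) - 1) := by
  let _ := Fintype.ofFinite L
  set E := unip L with hE
  set A := cz L g0 with hA
  have hgns : NonScalar L g0 := fun h => hg00 h.2.2
  have hd0 := ent_det L g0
  have hg11 : ent L g0 1 1 ≠ 0 := by
    intro h; rw [h, hg10] at hd0; simp at hd0
  have hAB : A ≤ borel L := by
    intro h hh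
    have hc := (mem_cz L).mp hh
    have e : ent L h 1 0 * ent L g0 0 0 + ent L h 1 1 * ent L g0 1 0
        = ent L g0 1 0 * ent L h 0 0 + ent L g0 1 1 * ent L h 1 0 := by
      rw [← ent_mul, ← ent_mul, hc]
    rw [hg10] at e
    have : ent L h 1 0 * (ent L g0 0 0 - ent L g0 1 1) = 0 := by linear_combination e
    exact (mul_eq_zero.mp this).resolve_right (sub_ne_zero.mpr hg00)
  have hdis : ∀ e : L, e ∈ E → e ∈ A → e = 1 := by
    intro e he hea
    by_contra h1
    have hg0 : g0 ∈ cz L e := (mem_cz L).mpr ((mem_cz L).mp hea).symm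
    rw [cz_of_unip L he h1] at hg0
    exact hg00 hg0.2
  -- the conjugates of g0 by E
  have hcent : ∀ b : L, b ∈ borel L → ∃ e ∈ E, e⁻¹ * b ∈ A := by
    let ψ : E → E := fun e => ⟨(e : L) * g0 * (e : L)⁻¹ * g0⁻¹, by
      have := unip_11 L e.2
      constructor
      · simp only [ent_mul, e.2.1, hg10, (ent_inv L (e : L)).2.2.1, (ent_inv L g0).2.2.1]
        ring
      · rw [hg10] at hd0
        simp only [ent_mul, e.2.1, e.2.2, this, hg10, (ent_inv L (e : L)).1,
          (ent_inv L (e : L)).2.2.1, (ent_inv L g0).1, (ent_inv L g0).2.2.1]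
        linear_combination hd0⟩
    have hψ : Function.Injective ψ := by
      intro a b hab
      have h : (a : L) * g0 * (a : L)⁻¹ = (b : L) * g0 * (b : L)⁻¹ :=
        mul_right_cancel (congrArg Subtype.val hab)
      have hm : (b : L)⁻¹ * a ∈ A := by
        rw [hA, mem_cz]
        calc (b : L)⁻¹ * a * g0 = (b : L)⁻¹ * ((a : L) * g0 * (a : L)⁻¹) * a := by group
          _ = (b : L)⁻¹ * ((b : L) * g0 * (b : L)⁻¹) * a := by rw [h]
          _ = g0 * ((b : L)⁻¹ * a) := by group
      have := hdis _ (E.mul_mem (E.inv_mem b.2) a.2) hm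
      exact Subtype.ext (inv_mul_eq_one.mp this).symm
    have hψs := Finite.surjective_of_injective hψ
    intro b hb
    rw [mem_borel] at hb
    have hdb := ent_det L b
    rw [hb] at hdb
    rw [hg10] at hd0
    have hm : b * g0 * b⁻¹ * g0⁻¹ ∈ E := by
      constructor
      · simp only [ent_mul, hb, hg10, (ent_inv L b).1, (ent_inv L b).2.2.1, (ent_inv L g0).1,
          (ent_inv L g0).2.2.1]
        ring
      · simp only [ent_mul, hb, hg10, (ent_inv L b).1, (ent_inv L b).2.1, (ent_inv L b).2.2.1,
          (ent_inv L b).2.2.2, (ent_inv L g0).1, (ent_inv L g0).2.1, (ent_inv L g0).2.2.1]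
        linear_combination (ent L g0 0 0 * ent L g0 1 1) * hdb + hd0
    obtain ⟨e, he⟩ := hψs ⟨_, hm⟩
    refine ⟨e, e.2, ?_⟩
    have h : (e : L) * g0 * (e : L)⁻¹ = b * g0 * b⁻¹ := mul_right_cancel (congrArg Subtype.val he)
    rw [hA, mem_cz]
    calc (e : L)⁻¹ * b * g0 = (e : L)⁻¹ * (b * g0 * b⁻¹) * b := by group
      _ = (e : L)⁻¹ * ((e : L) * g0 * (e : L)⁻¹) * b := by rw [h]
      _ = g0 * ((e : L)⁻¹ * b) := by group
  constructor
  · let f : E × A → borel L := fun ea => ⟨(ea.1 : L) * ea.2,
      (borel L).mul_mem (uz_le_borel L (unip_le_uz L ea.1.2)) (hAB ea.2.2)⟩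
    have hf : Function.Bijective f := by
      constructor
      · rintro ⟨e, a⟩ ⟨e', a'⟩ h
        have h' : (e : L) * a = (e' : L) * a' := congrArg Subtype.val h
        have h1 : (e' : L)⁻¹ * e = (a' : L) * (a : L)⁻¹ :=
          calc (e' : L)⁻¹ * e = (e' : L)⁻¹ * ((e : L) * a) * (a : L)⁻¹ := by group
            _ = (e' : L)⁻¹ * ((e' : L) * a') * (a : L)⁻¹ := by rw [h']
            _ = (a' : L) * (a : L)⁻¹ := by group
        have h2 := hdis _ (E.mul_mem (E.inv_mem e'.2) e.2) (h1 ▸ A.mul_mem a'.2 (A.inv_mem a.2))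
        have he : e' = e := Subtype.ext (inv_mul_eq_one.mp h2)
        subst he
        exact Prod.ext rfl (Subtype.ext (mul_left_cancel h'))
      · rintro ⟨b, hb⟩
        obtain ⟨e, he, hea⟩ := hcent b hb
        exact ⟨(⟨e, he⟩, ⟨_, hea⟩), Subtype.ext (mul_inv_cancel_left e b)⟩
    rw [← Nat.card_congr (Equiv.ofBijective f hf), Nat.card_prod]
  · -- A acts on the nontrivial elements of E with scalar stabilizers
    have x10 : ent L x 1 0 = 0 := by simp [ent, hx]
    have x00 : ent L x 0 0 = 1 := by simp [ent, hx]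
    have x11 : ent L x 1 1 = 1 := by simp [ent, hx]
    have x01 : ent L x 0 1 = 1 := by simp [ent, hx]
    have hxE : x ∈ E := ⟨x10, x00⟩
    have hx1 : x ≠ 1 := fun h => by
      rw [h, (ent_one L).2.1] at x01
      exact zero_ne_one x01
    let φ : A → {e : E // e ≠ 1} := fun a => ⟨⟨(a : L) * x * (a : L)⁻¹, by
        have ha := mem_borel L |>.mp (hAB a.2)
        have hd := ent_det L (a : L)
        rw [ha] at hd
        constructor
        · simp only [ent_mul, ha, x10, (ent_inv L (a : L)).1, (ent_inv L (a : L)).2.2.1]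
          ring
        · simp only [ent_mul, ha, x10, x00, x01, x11, (ent_inv L (a : L)).1,
            (ent_inv L (a : L)).2.2.1]
          linear_combination hd⟩, by
        intro h
        have h2 : (a : L) * x * (a : L)⁻¹ = 1 := congrArg Subtype.val h
        exact hx1 (conj_eq_one_iff.mp h2)⟩
    have hfib : ∀ a a' : A, φ a = φ a' → ¬ NonScalar L ((a' : L)⁻¹ * a) := by
      intro a a' h hns
      have h1 : (a : L) * x * (a : L)⁻¹ = (a' : L) * x * (a' : L)⁻¹ :=
        congrArg (fun e => ((e.1 : E) : L)) h
      have hm : (a' : L)⁻¹ * a ∈ cz L x := by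
        rw [mem_cz]
        calc (a' : L)⁻¹ * a * x = (a' : L)⁻¹ * ((a : L) * x * (a : L)⁻¹) * a := by group
          _ = (a' : L)⁻¹ * ((a' : L) * x * (a' : L)⁻¹) * a := by rw [h1]
          _ = x * ((a' : L)⁻¹ * a) := by group
      have h2 := cz_eq_of_mem L hgns hns (A.mul_mem (A.inv_mem a'.2) a.2)
      have h3 := cz_eq_of_mem L (nonScalar_of_unip L hxE hx1) hns hm
      rw [h2, cz_of_unip L hxE hx1] at h3
      have : g0 ∈ uz L := h3 ▸ self_mem_cz L g0
      exact hg00 this.2
    have hle : ∀ e ∈ (Finset.univ : Finset {e : E // e ≠ 1}),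
        ((Finset.univ : Finset A).filter fun a => φ a = e).card ≤ 2 := by
      intro e _
      rcases (((Finset.univ : Finset A).filter fun a => φ a = e)).eq_empty_or_nonempty with h | ⟨a0, h0⟩
      · simp [h]
      · have hs := card_not_nonScalar (L := L) h2 hz
        rw [Nat.card_eq_fintype_card] at hs
        refine le_trans ?_ hs.le
        rw [← Finset.card_univ]
        refine Finset.card_le_card_of_injOn (fun a => if h : φ a = e then
          (⟨(a0 : L)⁻¹ * a, hfib a a0 (h.trans (Finset.mem_filter.mp h0).2.symm)⟩ :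
            {g : L // ¬ NonScalar L g}) else ⟨1, (scalar_iff L).mpr (Or.inl rfl)⟩)
          (fun a _ => Finset.mem_coe.mpr (Finset.mem_univ _)) ?_
        intro a ha b hb hab
        have ha' := (Finset.mem_filter.mp (Finset.mem_coe.mp ha)).2
        have hb' := (Finset.mem_filter.mp (Finset.mem_coe.mp hb)).2
        simp only [ha', hb', dif_pos] at hab
        exact Subtype.ext (mul_left_cancel (congrArg Subtype.val hab))
    have := Finset.card_le_mul_card_image_of_maps_to
      (s := (Finset.univ : Finset A)) (t := (Finset.univ : Finset {e : E // e ≠ 1}))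
      (f := φ) (fun a _ => Finset.mem_univ _) 2 hle
    rw [Finset.card_univ, Finset.card_univ] at this
    simpa [Nat.card_eq_fintype_card, Fintype.card_subtype_compl] using this

end SL2Count

end CfsgLib.ZJ
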