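import Cfsg.Agent.ZJ.DicksonMain

/-!
Dickson's lemma: a finite subgroup of SL₂ in odd characteristic containing `upper 1` and an element
moving its line contains `upper t * lower 1 * (upper t)⁻¹` for some `t`.
-/

set_option autoImplicit false

namespace CfsgLib.ZJ

open scoped Classical

namespace SL2Count

variable {K : Type*} [Field K] {L : Subgroup (SL2 K)} [Finite L]

omit [Finite L] in
theorem pow_unipotent {h : L} (ht : ent L h 0 0 + ent L h 1 1 = 2) (n : ℕ) :
    ent L (h ^ n) 0 0 = n * ent L h 0 0 - (n : K) + 1 ∧ ent L (h ^ n) 0 1 = n * ent L h 0 1 ∧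
    ent L (h ^ n) 1 0 = n * ent L h 1 0 ∧ ent L (h ^ n) 1 1 = n * ent L h 1 1 - (n : K) + 1 := by
  have hd := ent_det L h
  induction n with
  | zero =>
    obtain ⟨o1, o2, o3, o4⟩ := ent_one L
    simp [o1, o2, o3, o4]
  | succ n ih =>
    obtain ⟨i1, i2, i3, i4⟩ := ih
    simp only [pow_succ, ent_mul, i1, i2, i3, i4, Nat.cast_succ]
    refine ⟨?_, ?_, ?_, ?_⟩
    · linear_combination (n : K) * ent L h 0 0 * ht - (n : K) * hd
    · linear_combination (n : K) * ent L h 0 1 * ht
    · linear_combination (n : K) * ent L h 1 0 * ht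
    · linear_combination (n : K) * ent L h 1 1 * ht - (n : K) * hd

omit [Finite L] in
theorem pow_char {p : ℕ} [CharP K p] {h : L} (ht : ent L h 0 0 + ent L h 1 1 = 2) : h ^ p = 1 := by
  obtain ⟨e1, e2, e3, e4⟩ := pow_unipotent ht p
  obtain ⟨o1, o2, o3, o4⟩ := ent_one L
  apply ent_ext <;> simp [e1, e2, e3, e4, o1, o2, o3, o4, CharP.cast_eq_zero]

theorem mem_orb_uz_of_trace {p : ℕ} [Fact p.Prime] [CharP K p] (hpq : p ∣ Nat.card (unip L))
    (hz : (-1 : SL2 K) ∈ L) {g : L} (hg : NonScalar L g)
    (ht : ent L g 0 0 + ent L g 1 1 = 2 ∨ ent L g 0 0 + ent L g 1 1 = -2) :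
    cz L g ∈ orb L (uz L) := by
  -- replace g by a unipotent element of the same centralizer
  obtain ⟨h, hns, hth, hczh⟩ : ∃ h : L, NonScalar L h ∧ ent L h 0 0 + ent L h 1 1 = 2 ∧
      cz L h = cz L g := by
    rcases ht with ht | ht
    · exact ⟨g, hg, ht, rfl⟩
    · let z : L := ⟨-1, hz⟩
      have hm : z * g ∈ cz L g :=
        (cz L g).mul_mem (scalar_mem_cz ((scalar_iff L).mpr (Or.inr rfl))) (self_mem_cz L g)
      have hns : NonScalar L (z * g) := by
        intro h
        apply hg
        simpa [ent_mul, ent, z] using h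
      refine ⟨z * g, hns, ?_, cz_eq_of_mem L hg hns hm⟩
      simp only [ent_mul]
      simp only [ent, z, Matrix.SpecialLinearGroup.coe_neg, Matrix.SpecialLinearGroup.coe_one,
        Matrix.neg_apply, Matrix.one_apply_eq, ne_eq, zero_ne_one, not_false_eq_true,
        Matrix.one_apply_ne, one_ne_zero] at ht ⊢
      linear_combination (-1 : K) * ht
  have hp := (Fact.out : p.Prime)
  have hP : IsPGroup p (Subgroup.zpowers h) := by
    intro y
    obtain ⟨y, n, rfl⟩ := y
    refine ⟨1, Subtype.ext ?_⟩
    show (h ^ n) ^ p ^ 1 = 1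
    rw [pow_one, ← zpow_natCast, zpow_comm, zpow_natCast, pow_char hth, one_zpow]
  obtain ⟨k, hk, -⟩ := index_borel (L := L)
  have hnd : ¬ p ∣ Nat.card (L ⧸ borel L) := by
    intro hd
    change p ∣ (borel L).index at hd
    rw [hk] at hd
    have := (Nat.dvd_add_left (dvd_mul_of_dvd_right hpq k)).mp hd
    exact hp.one_lt.ne' (Nat.dvd_one.mp this)
  obtain ⟨c, hc⟩ := hP.nonempty_fixed_point_of_prime_not_dvd_card (L ⧸ borel L) hnd
  induction c using Quotient.inductionOn' with
  | h y =>
    have h1 : (QuotientGroup.mk (h * y) : L ⧸ borel L) = QuotientGroup.mk y :=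
      hc ⟨h, Subgroup.mem_zpowers h⟩
    rw [eq_comm, QuotientGroup.eq, ← mul_assoc, mem_borel] at h1
    set e := y⁻¹ * h * y with he
    have hte : ent L e 0 0 + ent L e 1 1 = 2 := by
      have hd := ent_det L y
      simp only [he, ent_mul, (ent_inv L y).1, (ent_inv L y).2.1, (ent_inv L y).2.2.1,
        (ent_inv L y).2.2.2]
      linear_combination hth + (ent L h 0 0 + ent L h 1 1) * hd
    have hde := ent_det L e
    rw [h1] at hde
    have heu : e ∈ unip L := by
      refine ⟨h1, ?_⟩
      have : (ent L e 0 0 - 1) * (ent L e 0 0 - 1) = 0 := by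
        linear_combination ent L e 0 0 * hte - hde
      exact sub_eq_zero.mp (mul_self_eq_zero.mp this)
    have hne : e ≠ 1 := by
      intro h0
      have hh : h = 1 := by
        calc h = y * e * y⁻¹ := by rw [he]; group
          _ = 1 := by rw [h0]; group
      rw [hh] at hns
      obtain ⟨o1, o2, o3, o4⟩ := ent_one L
      exact hns ⟨o2, o3, o1.trans o4.symm⟩
    rw [mem_orb]
    refine ⟨y, ?_⟩
    rw [← cz_of_unip L heu hne, cz_cj, ← hczh, he]
    congr 1
    group

theorem smallNorm_of_notMem {p : ℕ} [Fact p.Prime] [CharP K p] (hpq : p ∣ Nat.card (unip L))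
    (h2 : (2 : K) ≠ 0) (hz : (-1 : SL2 K) ∈ L) {A : Subgroup L} (hA : A ∈ fam L)
    (hn : A ∉ orb L (uz L)) : SmallNorm A := by
  obtain ⟨g, hg, rfl⟩ := (mem_fam L).mp hA
  refine smallNorm_of_trace h2 hg (fun h => hn ?_) (fun h => hn ?_)
  · exact mem_orb_uz_of_trace hpq hz hg (Or.inl h)
  · exact mem_orb_uz_of_trace hpq hz hg (Or.inr h)

theorem final_identity {g : L} {a : K} (hg : ent L g 1 0 ≠ 0) {e : L}
    (he : e ∈ unip L) (hea : ent L e 0 1 = a) (hrel : a * (ent L g 1 0 * ent L g 1 0) = -1) :
    upper (ent L g 0 0 / ent L g 1 0) * lower 1 * (upper (ent L g 0 0 / ent L g 1 0))⁻¹ ∈ L := by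
  have h11 := unip_11 L he
  have hd := ent_det L g
  have key : (((g * e * g⁻¹ : L)) : SL2 K) =
      upper (ent L g 0 0 / ent L g 1 0) * lower 1 * (upper (ent L g 0 0 / ent L g 1 0))⁻¹ := by
    rw [upper_inv]
    apply sl2_ext <;>
      simp only [sl2_mul, upper_00, upper_01, upper_10, upper_11, lower_00, lower_01, lower_10,
        lower_11] <;> change ent L (g * e * g⁻¹) _ _ = _ <;>
      simp only [ent_mul, he.1, he.2, h11, hea, (ent_inv L g).1, (ent_inv L g).2.1,
        (ent_inv L g).2.2.1, (ent_inv L g).2.2.2] <;> field_simp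
    · linear_combination ent L g 1 0 * hd - ent L g 0 0 * hrel
    · linear_combination (ent L g 0 0 * ent L g 0 0) * hrel
    · linear_combination -hrel
    · linear_combination ent L g 1 0 * hd + ent L g 0 0 * hrel
  rw [← key]
  exact SetLike.coe_mem _

/-- A finite subgroup in which the unipotent radical has order three and the trace takes few
values. -/
theorem q3_case (h3 : (3 : K) = 0) {x g : L} (hx : (x : SL2 K) = upper 1)
    (hg : ent L g 1 0 ≠ 0)
    (hA : ∀ A ∈ fam L, Nat.card A = 4 ∨ Nat.card A = 6 ∨ Nat.card A = 10) :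
    ∃ h : L, ent L h 1 0 ≠ 0 ∧ ent L h 1 0 ^ 4 = 1 := by
  have htr : ∀ h : L, ent L h 1 0 ≠ 0 → (ent L h 0 0 + ent L h 1 1 = 0 ∨
      ent L h 0 0 + ent L h 1 1 = 1 ∨ ent L h 0 0 + ent L h 1 1 = -1 ∨
      (ent L h 0 0 + ent L h 1 1) ^ 4 = -1) := by
    intro h hh
    have hns : NonScalar L h := fun hs => hh hs.2.1
    set T := ent L h 0 0 + ent L h 1 1 with hT
    have hd := ent_det L h
    have hpow : h ^ Nat.card (cz L h) = 1 := by
      have := pow_card_eq_one' (x := (⟨h, self_mem_cz L h⟩ : cz L h))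
      exact congrArg Subtype.val this
    have hsc : ∀ n : ℕ, h ^ (2 * n) = 1 → ent L (h ^ n) 1 0 = 0 := by
      intro n hn
      by_contra hne
      set y := h ^ n with hy
      have hy2 : y * y = 1 := by rw [hy, ← pow_add, ← two_mul, hn]
      have hinv : y⁻¹ = y := inv_eq_of_mul_eq_one_right hy2
      have e := (ent_inv L y).2.2.1
      rw [hinv] at e
      have : (2 : K) * ent L y 1 0 = 0 := by linear_combination e
      rcases mul_eq_zero.mp this with h' | h'
      · have : (1 : K) = 0 := by linear_combination h3 - h'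
        exact one_ne_zero this
      · exact hne h'
    have p2 : ent L (h ^ 2) 1 0 = T * ent L h 1 0 := by
      rw [pow_two, ent_mul, hT]; ring
    have p3 : ent L (h ^ 3) 1 0 = (T * T - 1) * ent L h 1 0 := by
      rw [pow_succ, pow_two]
      simp only [ent_mul, hT]
      linear_combination -ent L h 1 0 * hd
    have p5 : ent L (h ^ 5) 1 0 = (T ^ 4 - 3 * T ^ 2 + 1) * ent L h 1 0 := by
      rw [show 5 = 1 + 1 + 1 + 1 + 1 from rfl]
      simp only [pow_succ, pow_zero, one_mul, ent_mul, hT]
      linear_combination (ent L h 1 0 * (1 - 3 * (ent L h 0 0 + ent L h 1 1) ^ 2 +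
        (ent L h 0 0 * ent L h 1 1 - ent L h 0 1 * ent L h 1 0))) * hd
    rcases hA _ ((mem_fam L).mpr ⟨h, hns, rfl⟩) with e | e | e <;> rw [e] at hpow
    · left
      have := hsc 2 hpow
      rw [p2] at this
      exact (mul_eq_zero.mp this).resolve_right hh
    · have := hsc 3 hpow
      rw [p3] at this
      have h1 : (T - 1) * (T + 1) = 0 := by
        linear_combination (mul_eq_zero.mp this).resolve_right hh
      rcases mul_eq_zero.mp h1 with h' | h'
      · exact Or.inr (Or.inl (sub_eq_zero.mp h'))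
      · exact Or.inr (Or.inr (Or.inl (eq_neg_of_add_eq_zero_left h')))
    · right; right; right
      have := hsc 5 hpow
      rw [p5] at this
      linear_combination (mul_eq_zero.mp this).resolve_right hh + T ^ 2 * h3
  -- traces along the translates of `g`
  have x10 : ent L x 1 0 = 0 := by simp [ent, hx]
  have x00 : ent L x 0 0 = 1 := by simp [ent, hx]
  have x11 : ent L x 1 1 = 1 := by simp [ent, hx]
  have x01 : ent L x 0 1 = 1 := by simp [ent, hx]
  have hshift : ∀ h : L, ent L (x * h) 1 0 = ent L h 1 0 ∧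
      ent L (x * h) 0 0 + ent L (x * h) 1 1
        = ent L h 0 0 + ent L h 1 1 + ent L h 1 0 := by
    intro h
    simp only [ent_mul, x10, x00, x11, x01]
    constructor <;> ring
  set γ := ent L g 1 0 with hγ
  set s := ent L g 0 0 + ent L g 1 1 with hs
  by_cases hγ4 : γ ^ 4 = 1
  · exact ⟨g, hg, hγ4⟩
  have hγ1 : γ ≠ 1 := fun h => hγ4 (by rw [h]; ring)
  have hγ1' : γ ≠ -1 := fun h => hγ4 (by rw [h]; ring)
  have t0 := htr g hg
  have t1 := htr (x * g) (by rw [(hshift g).1]; exact hg)
  have t2 := htr (x * (x * g)) (by rw [(hshift _).1, (hshift g).1]; exact hg)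
  rw [(hshift g).2] at t1
  rw [(hshift _).2, (hshift g).2, (hshift g).1] at t2
  -- some translate has trace zero
  have hzero : ∃ h : L, ent L h 1 0 = γ ∧ ent L h 0 0 + ent L h 1 1 = 0 := by
    by_contra hcon
    push Not at hcon
    have z0 := hcon g rfl
    have z1 := hcon (x * g) (hshift g).1
    have z2 := hcon (x * (x * g)) (by rw [(hshift _).1, (hshift g).1])
    rw [(hshift g).2] at z1
    rw [(hshift _).2, (hshift g).2, (hshift g).1] at z2
    -- classify three points a, a + γ, a + 2γ
    have key : ∀ a : K, (a = 1 ∨ a = -1) → (a + γ) ^ 4 = -1 → (a + γ + γ) ^ 4 = -1 → False := by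
      intro a ha e1 e2
      have ha2 : a * a = 1 := by rcases ha with rfl | rfl <;> ring
      apply hγ4
      have h5 : a * γ * (γ * γ + 1) = 0 := by
        linear_combination -(e1 - e2) + (-9 * a * γ ^ 3 - 6 * a ^ 2 * γ ^ 2 - 5 * γ ^ 4 - a * γ) * h3
          + (-4 * a * γ) * ha2
      have hane : a ≠ 0 := fun h => by rw [h] at ha2; simp at ha2
      have : γ * γ + 1 = 0 :=
        (mul_eq_zero.mp h5).resolve_left (mul_ne_zero hane hg)
      linear_combination (γ * γ - 1) * this
    have two : ∀ a b : K, (a = 1 ∨ a = -1) → (b = 1 ∨ b = -1) → b = a + γ → False := by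
      intro a b ha hb hab
      rcases ha with rfl | rfl <;> rcases hb with rfl | rfl
      · exact hg (by linear_combination -hab)
      · exact hγ1 (by linear_combination -hab - h3)
      · exact hγ1' (by linear_combination -hab + h3)
      · exact hg (by linear_combination -hab)
    have n3 : s + γ + γ + γ = s := by linear_combination γ * h3
    rcases t0 with t0 | t0 | t0 | t0 <;> rcases t1 with t1 | t1 | t1 | t1 <;>
      rcases t2 with t2 | t2 | t2 | t2 <;> first
      | exact z0 t0
      | exact z1 t1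
      | exact z2 t2
      | exact two _ _ (Or.inl t0) (Or.inl t1) rfl
      | exact two _ _ (Or.inl t0) (Or.inr t1) rfl
      | exact two _ _ (Or.inr t0) (Or.inl t1) rfl
      | exact two _ _ (Or.inr t0) (Or.inr t1) rfl
      | exact two _ _ (Or.inl t1) (Or.inl t2) rfl
      | exact two _ _ (Or.inl t1) (Or.inr t2) rfl
      | exact two _ _ (Or.inr t1) (Or.inl t2) rfl
      | exact two _ _ (Or.inr t1) (Or.inr t2) rfl
      | exact two _ _ (Or.inl t2) (Or.inl t0) n3.symm
      | exact two _ _ (Or.inl t2) (Or.inr t0) n3.symm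
      | exact two _ _ (Or.inr t2) (Or.inl t0) n3.symm
      | exact two _ _ (Or.inr t2) (Or.inr t0) n3.symm
      | exact key s (Or.inl t0) t1 t2
      | exact key s (Or.inr t0) t1 t2
      | exact key (s + γ) (Or.inl t1) t2 (by rw [n3]; exact t0)
      | exact key (s + γ) (Or.inr t1) t2 (by rw [n3]; exact t0)
      | exact key (s + γ + γ) (Or.inl t2) (by rw [n3]; exact t0)
          (by rw [n3]; exact t1)
      | exact key (s + γ + γ) (Or.inr t2) (by rw [n3]; exact t0)
          (by rw [n3]; exact t1)
      | (apply hg; apply pow_eq_zero_iff (n := 4) (by norm_num) |>.mp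
         linear_combination (-1 : K) * (t0 + t1 + t2) +
           (s ^ 4 + 4 * s ^ 3 * γ + 10 * s ^ 2 * γ ^ 2 + 12 * s * γ ^ 3 + 6 * γ ^ 4 + 1) * h3)
  obtain ⟨h, hh, hth⟩ := hzero
  -- the trace of `x * h` is `γ`, so `γ ^ 4 = -1`
  have t := htr (x * h) (by rw [(hshift h).1, hh]; exact hg)
  rw [(hshift h).2, hth, zero_add, hh] at t
  rcases t with t | t | t | t
  · exact absurd t hg
  · exact absurd t hγ1
  · exact absurd t hγ1'
  · have hxh : ent L (h * x * h) 1 0 = γ * γ := by
      simp only [ent_mul, x10, x00, x01, x11]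
      linear_combination ent L h 1 0 * hth + (ent L h 1 0 + γ) * hh
    refine ⟨h * x * h, by rw [hxh]; exact mul_ne_zero hg hg, ?_⟩
    rw [hxh]
    linear_combination (γ ^ 4 - 1) * t

set_option maxHeartbeats 2400000 in
/-- Dickson's lemma. -/
theorem exists_conj_lower {p : ℕ} [Fact p.Prime] [CharP K p] (hp : p ≠ 2)
    (hz : (-1 : SL2 K) ∈ L) (hu : upper (1 : K) ∈ L) (g : L) (hg : ent L g 1 0 ≠ 0) :
    ∃ t : K, upper t * lower 1 * (upper t)⁻¹ ∈ L := by
  have hp' := (Fact.out : p.Prime)
  have h2 : (2 : K) ≠ 0 := by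
    intro h
    have h' : ((2 : ℕ) : K) = 0 := by exact_mod_cast h
    have := (CharP.cast_eq_zero_iff K p 2).mp h'
    exact hp ((Nat.prime_dvd_prime_iff_eq hp' Nat.prime_two).mp this)
  let x : L := ⟨upper 1, hu⟩
  have hx : (x : SL2 K) = upper 1 := rfl
  have x01 : ent L x 0 1 = 1 := by simp [ent, hx]
  have hxE : x ∈ unip L := ⟨by simp [ent, hx], by simp [ent, hx]⟩
  have hx1 : x ≠ 1 := fun h => by
    rw [h, (ent_one L).2.1] at x01
    exact zero_ne_one x01
  set q := Nat.card (unip L) with hq
  have hpq : p ∣ q := by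
    have ho : orderOf (⟨x, hxE⟩ : unip L) = p := by
      apply orderOf_eq_prime
      · apply Subtype.ext
        show x ^ p = 1
        exact pow_char (p := p) (by simp [ent, hx]; norm_num)
      · exact fun h => hx1 (congrArg Subtype.val h)
    have h5 := orderOf_dvd_natCard (⟨x, hxE⟩ : unip L)
    rwa [ho] at h5
  have hq3 : 3 ≤ q :=
    le_trans (by have := hp'.two_le; omega) (Nat.le_of_dvd Nat.card_pos hpq)
  obtain ⟨k, hk, htrans⟩ := index_borel (L := L)
  rw [← hq] at hk
  set m := (borel L).index with hm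
  set n := Nat.card L with hn
  have hnB : m * Nat.card (borel L) = n := Subgroup.index_mul_card _
  have hk1 : 1 ≤ k := by
    by_contra hk0
    have hk0' : k = 0 := by omega
    rw [hk0'] at hk
    have : borel L = ⊤ := Subgroup.index_eq_one.mp (by omega)
    exact hg (by rw [← mem_borel, this]; exact Subgroup.mem_top g)
  -- the orbit of `uz`
  have hUfam : uz L ∈ fam L :=
    (mem_fam L).mpr ⟨x, nonScalar_of_unip L hxE hx1, cz_of_unip L hxE hx1⟩
  have hUcard : (orb L (uz L)).card = m := by
    have h := card_orb L (uz L)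
    rw [normalizer_uz hx, ← hn, ← hnB] at h
    exact Nat.eq_of_mul_eq_mul_right Nat.card_pos h
  have hclosed : Closed (fam L) := fun A hA => orb_subset_fam L hA
  set R1 := fam L \ orb L (uz L) with hR1
  have hR1c : Closed R1 := closed_sdiff hclosed
  have hsmall : ∀ A ∈ R1, SmallNorm A := fun A hA =>
    smallNorm_of_notMem hpq h2 hz (Finset.mem_sdiff.mp hA).1 (Finset.mem_sdiff.mp hA).2
  have heq : m * (2 * q - 2) + wsum R1 + 2 = n := by
    have h1 := wsum_fam h2 hz
    rw [wsum_split hclosed hUfam, hUcard, card_uz h2 hz, ← hq, ← hn, ← hR1] at h1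
    exact h1
  -- decompose a closed family
  have hdec : ∀ R : Finset (Subgroup L), R ⊆ R1 → Closed R →
      (R = ∅ ∧ wsum R = 0) ∨ ∃ A O s u, A ∈ R ∧ (s = 1 ∨ s = 2) ∧ 2 ≤ u ∧ Nat.card A = 2 * u ∧
        O * (s * (2 * u)) = n ∧ wsum R = O * (2 * u - 2) + wsum (R \ orb L A) ∧
        (R \ orb L A = ∅ ∧ wsum (R \ orb L A) = 0 ∨ n ≤ 4 * wsum (R \ orb L A)) := by
    intro R hR hRc
    rcases R.eq_empty_or_nonempty with h | ⟨A, hA⟩
    · exact Or.inl ⟨h, by simp [wsum, h]⟩
    · right
      obtain ⟨s, O, hs, hO, hOn⟩ := orbit_data (hsmall A (hR hA))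
      have hRf : R ⊆ fam L := hR.trans Finset.sdiff_subset
      obtain ⟨u, hu, hu'⟩ := card_fam_mem h2 hz (hRf hA)
      refine ⟨A, O, s, u, hA, hs, hu, hu', by rw [← hu']; exact hOn, ?_, ?_⟩
      · rw [wsum_split hRc hA, hO, hu']
      · rcases wsum_lower h2 hz (closed_sdiff hRc (A := A)) (Finset.sdiff_subset.trans hRf)
            (fun C hC => hsmall C (hR (Finset.mem_sdiff.mp hC).1)) with h | h
        · exact Or.inl ⟨h, by simp [wsum, h]⟩
        · exact Or.inr h
  -- the transitive case
  have hfinal : k = 1 → ∃ t : K, upper t * lower 1 * (upper t)⁻¹ ∈ L := by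
    intro hk1'
    have hgi : ent L g⁻¹ 1 0 ≠ 0 := by rw [(ent_inv L g).2.2.1]; exact neg_ne_zero.mpr hg
    have hc : ent L (g⁻¹ * x * g) 1 0 ≠ 0 := fun h0 => hx1 ((unip_free hxE g hg).2 h0)
    obtain ⟨e, he, h⟩ := htrans hk1' g⁻¹ (g⁻¹ * x * g) hgi hc
    refine ⟨_, final_identity hg he rfl ?_⟩
    have h11 := unip_11 L he
    have hd := ent_det L g
    have hxent : ent L x 1 0 = 0 ∧ ent L x 0 0 = 1 ∧ ent L x 1 1 = 1 := by simp [ent, hx]
    have hrew : (g⁻¹ * x * g)⁻¹ = g⁻¹ * x⁻¹ * g := by group
    rw [hrew] at h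
    simp only [ent_mul, he.1, he.2, h11, hxent.1, hxent.2.1, hxent.2.2, x01, (ent_inv L g).1,
      (ent_inv L g).2.1, (ent_inv L g).2.2.1, (ent_inv L g).2.2.2, (ent_inv L x).1,
      (ent_inv L x).2.1, (ent_inv L x).2.2.1, (ent_inv L x).2.2.2] at h
    have hγ : ent L g 1 0 * (ent L e 0 1 * (ent L g 1 0 * ent L g 1 0) + 1) = 0 := by
      linear_combination (-1 : K) * h +
        (-(ent L g 1 0) - ent L e 0 1 * ent L g 1 0 * (ent L g 1 0 * ent L g 1 0) * 0) * hd
    have := (mul_eq_zero.mp hγ).resolve_left hg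
    linear_combination this
  by_cases hBU : borel L = uz L
  · -- no torus
    have hBc : Nat.card (borel L) = 2 * q := by rw [hBU, card_uz h2 hz]
    rw [hBc] at hnB
    have e1 : wsum R1 + 2 = 2 * m := by
      zify [show 2 ≤ 2 * q by omega] at heq hnB ⊢
      linarith [heq, hnB, mul_comm (m : ℤ) (2 * q)]
    rcases hdec R1 (Finset.Subset.refl _) hR1c with ⟨-, h0⟩ |
      ⟨A, O, s, u, hA, hs, hu, hu', hO, hW, hrest⟩
    · rw [h0] at e1
      rw [hk] at e1
      have := Nat.mul_le_mul hk1 hq3
      omega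
    · have hlow : n ≤ 4 * (O * (2 * u - 2)) := by
        have h1 : O * u ≤ O * (2 * u - 2) := Nat.mul_le_mul_left _ (by omega)
        rcases hs with rfl | rfl
        · have e : O * (1 * (2 * u)) = 2 * (O * u) := by ring
          omega
        · have e : O * (2 * (2 * u)) = 4 * (O * u) := by ring
          omega
      have hm2 : 2 ≤ m := by
        have := Nat.mul_le_mul hk1 hq3
        rw [hk]; omega
      have hq' : q = 3 := by
        by_contra hne
        have : 4 ≤ q := by omega
        have h8 : m * 8 ≤ m * (2 * q) := Nat.mul_le_mul_left _ (by omega)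
        omega
      rcases hrest with ⟨-, h0⟩ | hbig
      · rw [h0, add_zero] at hW
        rw [hW] at e1
        apply hfinal
        rw [hq'] at hk hnB
        zify [show 2 ≤ 2 * u by omega] at e1
        zify at hO hnB hk
        rcases hs with rfl | rfl
        · exfalso
          have hu2 : (2 : ℤ) ≤ u := by exact_mod_cast hu
          have hO2 : (0 : ℤ) ≤ O := by positivity
          push_cast at hO
          linarith [mul_le_mul_of_nonneg_left hu2 hO2]
        · push_cast at hO
          have hu2 : u = 2 := by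
            by_contra hne
            have hu3 : (3 : ℤ) ≤ u := by exact_mod_cast (show 3 ≤ u by omega)
            linarith [mul_le_mul_of_nonneg_left hu3 (show (0 : ℤ) ≤ O by positivity)]
          subst hu2
          push_cast at hO e1
          have : (k : ℤ) = 1 := by linarith
          exact_mod_cast this
      · exfalso
        rw [hq'] at hnB
        omega
  · -- torus
    obtain ⟨g0, hg0B, hg0U⟩ : ∃ g0, g0 ∈ borel L ∧ g0 ∉ uz L := by
      by_contra hcon
      push Not at hcon
      exact hBU (le_antisymm (fun a ha => hcon a ha) (uz_le_borel L))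
    have hg10 : ent L g0 1 0 = 0 := hg0B
    have hg00 : ent L g0 0 0 ≠ ent L g0 1 1 := fun h => hg0U ⟨hg10, h⟩
    obtain ⟨hB, hA1le⟩ := card_torus_le h2 hz hx hg10 hg00
    rw [← hq] at hB hA1le
    have hA1fam : cz L g0 ∈ fam L := (mem_fam L).mpr ⟨g0, fun h => hg00 h.2.2, rfl⟩
    obtain ⟨c, hc, hc'⟩ := card_fam_mem h2 hz hA1fam
    rw [hc'] at hB hA1le
    rw [hB] at hnB
    have hcq : c ≤ q - 1 := by omega
    have hA1R : cz L g0 ∈ R1 := by
      refine Finset.mem_sdiff.mpr ⟨hA1fam, fun hmem => ?_⟩
      obtain ⟨y, hy⟩ := (mem_orb L).mp hmem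
      have := card_cj L y (uz L)
      rw [hy, hc', card_uz h2 hz, ← hq] at this
      omega
    obtain ⟨s, O1, hs, hO1, hO1n⟩ := orbit_data (hsmall _ hA1R)
    have hW1 := wsum_split hR1c hA1R
    rw [← hO1, hc'] at hW1
    set R2 := R1 \ orb L (cz L g0) with hR2
    rw [hW1] at heq
    rw [hc'] at hO1n
    rcases hdec R2 Finset.sdiff_subset (closed_sdiff hR1c) with ⟨-, h0⟩ |
      ⟨A, O, s', u, hA, hs', hu, hu', hO, hW, hrest⟩
    · exfalso
      rw [h0] at heq
      zify [show 2 ≤ 2 * q by omega, show 2 ≤ 2 * c by omega] at heq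
      zify at hnB hO1n hk
      have hq3' : (3 : ℤ) ≤ q := by exact_mod_cast hq3
      have hc2' : (2 : ℤ) ≤ c := by exact_mod_cast hc
      have hk' : (1 : ℤ) ≤ k := by exact_mod_cast hk1
      have hm4 : (4 : ℤ) ≤ m := by
        rw [hk]; linarith [mul_le_mul hk' hq3' (by norm_num) (by positivity)]
      rcases hs with rfl | rfl
      · push_cast at hO1n
        have hO1' : (O1 : ℤ) = m * q := by
          have hc0 : (2 * c : ℤ) ≠ 0 := by positivity
          apply mul_right_cancel₀ hc0
          linear_combination hO1n - hnB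
        rw [hO1'] at heq
        linarith
      · push_cast at hO1n
        have hO1' : 2 * (O1 : ℤ) = m * q := by
          have hc0 : (2 * c : ℤ) ≠ 0 := by positivity
          apply mul_right_cancel₀ hc0
          linear_combination hO1n - hnB
        have e : (m : ℤ) * q * (c - 1) + 2 * m = 2 := by
          linear_combination -heq + hnB + (c - 1 : ℤ) * hO1' * 1
        linarith [mul_nonneg (mul_nonneg (show (0:ℤ) ≤ m by positivity)
          (show (0:ℤ) ≤ q by positivity)) (show (0:ℤ) ≤ c - 1 by linarith)]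
    · have hlow : n ≤ 4 * (O * (2 * u - 2)) := by
        have h1 : O * u ≤ O * (2 * u - 2) := Nat.mul_le_mul_left _ (by omega)
        rcases hs' with rfl | rfl
        · have e : O * (1 * (2 * u)) = 2 * (O * u) := by ring
          omega
        · have e : O * (2 * (2 * u)) = 4 * (O * u) := by ring
          omega
      rw [hW] at heq
      zify [show 2 ≤ 2 * q by omega, show 2 ≤ 2 * c by omega, show 2 ≤ 2 * u by omega] at heq
      zify [show 2 ≤ 2 * u by omega] at hlow
      zify at hnB hO1n hk hO
      have hq3' : (3 : ℤ) ≤ q := by exact_mod_cast hq3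
      have hc2' : (2 : ℤ) ≤ c := by exact_mod_cast hc
      have hu2' : (2 : ℤ) ≤ u := by exact_mod_cast hu
      have hk' : (1 : ℤ) ≤ k := by exact_mod_cast hk1
      have hm4 : (4 : ℤ) ≤ m := by
        rw [hk]; linarith [mul_le_mul hk' hq3' (by norm_num) (by positivity)]
      have hW0 : (0 : ℤ) ≤ (wsum (R2 \ orb L A) : ℤ) := by positivity
      rcases hs with rfl | rfl
      · exfalso
        push_cast at hO1n
        have hO1' : (O1 : ℤ) = m * q := by
          have hc0 : (2 * c : ℤ) ≠ 0 := by positivity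
          apply mul_right_cancel₀ hc0
          linear_combination hO1n - hnB
        rw [hO1'] at heq
        linarith [mul_le_mul_of_nonneg_left (mul_le_mul hq3' hc2' (by norm_num) (by linarith))
          (show (0 : ℤ) ≤ m by positivity)]
      push_cast at hO1n
      have hO1' : 2 * (O1 : ℤ) = m * q := by
        have hc0 : (2 * c : ℤ) ≠ 0 := by positivity
        apply mul_right_cancel₀ hc0
        linear_combination hO1n - hnB
      have hWeq : (O : ℤ) * (2 * u - 2) + (wsum (R2 \ orb L A) : ℤ)
          = m * q * c - m * q + 2 * m - 2 := by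
        linear_combination heq - hnB - (c - 1 : ℤ) * hO1'
      rcases hrest with ⟨hempty, h0⟩ | hbig
      swap
      · exfalso
        zify at hbig
        linarith [mul_le_mul_of_nonneg_left hq3' (show (0 : ℤ) ≤ m by positivity)]
      rw [h0, Nat.cast_zero, add_zero] at hWeq
      rcases hs' with rfl | rfl
      · exfalso
        push_cast at hO
        linarith [mul_le_mul_of_nonneg_left hu2' (show (0 : ℤ) ≤ O by positivity),
          mul_le_mul_of_nonneg_left hq3' (show (0 : ℤ) ≤ m by positivity)]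
      push_cast at hO
      have hOu : 2 * (O : ℤ) * u = m * q * c := by linarith
      have h2O : 2 * (O : ℤ) = m * q - 2 * m + 2 := by linear_combination hOu - hWeq
      set d : ℤ := q * c - u * (q - 2) with hd
      have hmd : (m : ℤ) * d = 2 * u := by
        rw [hd]; linear_combination -hOu + u * h2O
      have h2c : 2 * (c : ℤ) = d * (1 + k * (q - 2)) := by
        apply mul_left_cancel₀ (show (q : ℤ) ≠ 0 by linarith)
        rw [hk] at hmd
        linear_combination (-2 : ℤ) * hd - (q - 2 : ℤ) * hmd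
      have hdpos : 1 ≤ d := by
        by_contra hd0
        have : d ≤ 0 := by omega
        linarith [mul_nonpos_of_nonneg_of_nonpos (show (0 : ℤ) ≤ m by positivity) this]
      by_cases hk2 : k = 1
      · exact hfinal hk2
      have hk2' : (2 : ℤ) ≤ k := by exact_mod_cast (show 2 ≤ k by omega)
      have hcq' : (c : ℤ) ≤ q - 1 := by omega
      have hd1 : d = 1 := by
        by_contra hne
        have hd2 : 2 ≤ d := by omega
        linarith [mul_le_mul hd2 (show 2 * (q : ℤ) - 3 ≤ 1 + k * (q - 2) by
            linarith [mul_le_mul_of_nonneg_right hk2' (show (0 : ℤ) ≤ (q : ℤ) - 2 by linarith)])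
          (by linarith) (by linarith)]
      rw [hd1, one_mul] at h2c
      have hk3 : k ≠ 2 := by
        intro h
        rw [h] at h2c
        push_cast at h2c
        omega
      have hk3' : (3 : ℤ) ≤ k := by exact_mod_cast (show 3 ≤ k by omega)
      have hq' : q = 3 := by
        by_contra hne
        have h4 : (4 : ℤ) ≤ q := by exact_mod_cast (show 4 ≤ q by omega)
        have h5 : 3 * ((q : ℤ) - 2) ≤ k * ((q : ℤ) - 2) :=
          mul_le_mul_of_nonneg_right hk3' (by linarith)
        linarith
      rw [hq'] at hcq'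
      have hc2 : c = 2 := by omega
      rw [hq', hc2] at h2c
      push_cast at h2c
      have hk3'' : k = 3 := by omega
      have hu5 : u = 5 := by
        rw [hd1, mul_one, hk, hk3'', hq'] at hmd
        push_cast at hmd
        omega
      have hp3 : p = 3 := by
        rw [hq'] at hpq
        exact (Nat.prime_dvd_prime_iff_eq hp' Nat.prime_three).mp hpq
      have h3 : (3 : K) = 0 := by
        have := CharP.cast_eq_zero K p
        rw [hp3] at this
        exact_mod_cast this
      have hA : ∀ C ∈ fam L, Nat.card C = 4 ∨ Nat.card C = 6 ∨ Nat.card C = 10 := by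
        intro C hC
        by_cases hCU : C ∈ orb L (uz L)
        · obtain ⟨y, rfl⟩ := (mem_orb L).mp hCU
          rw [card_cj, card_uz h2 hz, ← hq, hq']
          simp
        by_cases hC1 : C ∈ orb L (cz L g0)
        · obtain ⟨y, rfl⟩ := (mem_orb L).mp hC1
          rw [card_cj, hc', hc2]
          simp
        have hC2 : C ∈ orb L A := by
          by_contra hC2
          have : C ∈ R2 \ orb L A :=
            Finset.mem_sdiff.mpr ⟨Finset.mem_sdiff.mpr ⟨Finset.mem_sdiff.mpr ⟨hC, hCU⟩, hC1⟩, hC2⟩
          rw [hempty] at this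
          simp at this
        obtain ⟨y, rfl⟩ := (mem_orb L).mp hC2
        rw [card_cj, hu', hu5]
        simp
      obtain ⟨h, hh, hh4⟩ := q3_case h3 hx hg hA
      set γ := ent L h 1 0 with hγ
      have : (γ * γ - 1) * (γ * γ + 1) = 0 := by linear_combination hh4
      rcases mul_eq_zero.mp this with h' | h'
      · have hxi : x⁻¹ ∈ unip L := (unip L).inv_mem hxE
        refine ⟨_, final_identity hh hxi rfl ?_⟩
        rw [(ent_inv L x).2.1, x01, ← hγ]
        linear_combination (-1 : K) * h'
      · refine ⟨_, final_identity hh hxE rfl ?_⟩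
        rw [x01, ← hγ]
        linear_combination h'

end SL2Count

end CfsgLib.ZJ
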