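import Cfsg.Agent.ZJ.Inverts
import Cfsg.Agent.ZJ.InvolutionSection
import Cfsg.Agent.ZJ.ControlMain

/-!
If no element of `N(Z(J(S)))` inverts a nonidentity p-element, no element of the group does.
-/

set_option autoImplicit false
set_option linter.style.haveILetI false

namespace CfsgLib.ZJ

open Subgroup CfsgLib.Functor
open scoped CfsgLib.Functor commutatorElement

universe u

variable {p : ℕ} [Fact p.Prime]

theorem inverts_map {G H : Type*} [Group G] [Group H] {M : Subgroup G} (f : G →* H)
    (hf : Function.Injective f) (h : Inverts p M) : Inverts p (M.map f) := by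
  obtain ⟨g, hg, x, hx, hx1, ⟨k, hk⟩, hgx⟩ := inverts_subgroup_iff.mp h
  refine inverts_subgroup_iff.mpr ⟨f g, mem_map_of_mem f hg, f x, mem_map_of_mem f hx,
    fun h => hx1 (hf (h.trans (map_one f).symm)), ⟨k, by rw [← map_pow, hk, map_one]⟩, ?_⟩
  rw [← map_inv, ← map_mul, ← map_mul, hgx, map_inv]

/-- Absence of inverted p-elements is detected in `N(Z(J(S)))`, for odd `p`. -/
theorem not_inverts_of_normalizer (hp : p ≠ 2) (G : Type u) [Group G] [Finite G] (S : Sylow p G)
    (hH : ¬ Inverts p (normalizer ((Cfsg.centerThompsonAOf (S : Subgroup G) : Subgroup G) : Set G))) :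
    ¬ Inverts p G := by
  obtain ⟨n, hn⟩ : ∃ n, Nat.card G = n := ⟨_, rfl⟩
  induction n using Nat.strong_induction_on generalizing G with
  | _ n ih =>
    subst hn
    intro hG
    have K := zkind_centerThompsonA.{u} hp
    set W := Cfsg.centerThompsonAOf (S : Subgroup G) with hW
    set X := normalizer (W : Set G) with hX
    -- proper subgroups
    have sub : ∀ (M : Subgroup G), M ≠ ⊤ → ∀ (R : Sylow p M),
        ¬ Inverts p ↥(normalizer ((Cfsg.centerThompsonAOf ((R : Subgroup M).map M.subtype) :
          Subgroup G) : Set G)) → ¬ Inverts p M := by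
      intro M hM R h
      refine ih _ (Solvable.card_lt_of_ne_top hM) M R (fun h' => h ?_) rfl
      refine (inverts_map M.subtype M.subtype_injective h').mono ?_
      rw [K.map M G M.subtype _ M.subtype_injective]
      exact le_normalizer_map _
    have supS : ∀ M : Subgroup G, M ≠ ⊤ → (S : Subgroup G) ≤ M → ¬ Inverts p M := by
      intro M hM hSM
      refine sub M hM (S.subtype hSM) ?_
      rw [Sylow.coe_subtype, map_subgroupOf_eq_of_le hSM]
      exact hH
    have hSX : (S : Subgroup G) ≤ X := le_normalizer.trans (K.normalizer_le _)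
    -- a larger local
    have bigger : ∀ (T : Subgroup G), IsPGroup p T → T ≤ (S : Subgroup G) → T ≠ S →
        p * Nat.card T ∣ Nat.card
          (normalizer ((Cfsg.centerThompsonAOf T : Subgroup G) : Set G)) := by
      intro T hT hTS hne
      have hlt := lt_inf_normalizer S.2 (lt_of_le_of_ne hTS hne)
      have hle : (S : Subgroup G) ⊓ normalizer (T : Set G) ≤
          normalizer ((Cfsg.centerThompsonAOf T : Subgroup G) : Set G) :=
        inf_le_right.trans (K.normalizer_le T)
      refine dvd_trans ?_ (card_dvd_of_le hle)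
      obtain ⟨i, hi⟩ := hT.exists_card_eq
      obtain ⟨j, hj⟩ := (S.2.to_le inf_le_left :
        IsPGroup p ↥((S : Subgroup G) ⊓ normalizer (T : Set G))).exists_card_eq
      have h := Solvable.card_lt_of_lt hlt
      rw [hi, hj] at h
      rw [hi, hj, ← pow_succ']
      exact pow_dvd_pow p ((Nat.pow_lt_pow_iff_right (Fact.out : p.Prime).one_lt).mp h)
    -- a normal p-subgroup
    obtain ⟨Q, ⟨hQ, hQ1, hQi⟩, hQmax⟩ := Set.exists_max_image
      {Q : Subgroup G | IsPGroup p Q ∧ Q ≠ ⊥ ∧ Inverts p (normalizer (Q : Set G))}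
      (fun Q => (Nat.card (normalizer (Q : Set G))).factorization p) (Set.toFinite _)
      hG.exists_local
    have hP0 : Cfsg.pCore p G ≠ ⊥ := by
      set M := normalizer (Q : Set G) with hM
      obtain ⟨R⟩ := (inferInstance : Nonempty (Sylow p M))
      obtain ⟨S1, hS1⟩ := (R.2.map M.subtype).exists_le_sylow
      obtain ⟨h, hh⟩ := MulAction.exists_smul_eq G S1 S
      set M' := h ⋆ M with hM'
      set T := h ⋆ (R : Subgroup M).map M.subtype with hT
      have hTS : T ≤ S := by
        rw [← hh, Sylow.coe_subgroup_smul]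
        exact cj_mono h hS1
      have hTM : IsSylowIn p T M' := by
        refine ⟨cj_mono h (map_subtype_le _), isPGroup_cj h (R.2.map _), ?_⟩
        rw [hT, hM', relIndex_map_map_of_injective _ _ (MulAut.conj h).injective, relIndex, subgroupOf,
          comap_map_eq_self_of_injective M.subtype_injective]
        exact R.not_dvd_index
      have hM'i : Inverts p M' := inverts_map _ (MulAut.conj h).injective hQi
      have hT1 : T ≠ ⊥ := by
        intro h0
        obtain ⟨k, hk⟩ := hQ.exists_card_eq
        refine R.ne_bot_of_dvd_card ((hk ▸ dvd_pow_self p fun h0' => hQ1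
          (eq_bot_of_card_eq _ (by rw [hk, h0', pow_zero])) : p ∣ Nat.card Q).trans
            (card_dvd_of_le le_normalizer)) ?_
        rw [hT, cj_eq_bot_iff, map_eq_bot_iff_of_injective _ M.subtype_injective] at h0
        exact h0
      by_cases hMtop : M = ⊤
      · exact fun hb => hQ1 (le_bot_iff.mp (hb ▸ Solvable.le_pCore p
          (normalizer_eq_top_iff.mp hMtop) hQ))
      exfalso
      have hM'top : M' ≠ ⊤ := by
        intro h0
        apply hMtop
        refine Solvable.eq_of_le_of_card_le le_top ?_
        rw [← h0, hM', card_cj]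
      by_cases hne : T = (S : Subgroup G)
      · exact supS M' hM'top (hne ▸ hTM.le) hM'i
      obtain ⟨R', hR'⟩ := hTM.exists_sylow
      refine sub M' hM'top R' (fun hbig => ?_) hM'i
      rw [hR'] at hbig
      have h1 := bigger T hTM.2.1 hTS hne
      have h2 := hQmax _ ⟨hTM.2.1.to_le (K.le G T), K.ne_bot G T hTM.2.1 hT1, hbig⟩
      have h3 : Nat.card T = p ^ (Nat.card M).factorization p := by
        rw [hT, card_cj, card_map_of_injective M.subtype_injective, R.card_eq_multiplicity]
      rw [h3, ← pow_succ'] at h1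
      have h4 := ((Fact.out : p.Prime).pow_dvd_iff_le_factorization Nat.card_pos.ne').mp h1
      omega
    -- the quotient
    set P0 := Cfsg.pCore p G with hP0def
    set π := QuotientGroup.mk' P0 with hπ
    have hquot : ¬ Inverts p (G ⧸ P0) := by
      set Sb := S.mapSurjective (f := π) (QuotientGroup.mk'_surjective P0) with hSb
      by_cases hb : (Sb : Subgroup (G ⧸ P0)) = ⊥
      · rintro ⟨g, x, hx1, ⟨k, hk⟩, -⟩
        obtain ⟨j, -, hj⟩ := (Nat.dvd_prime_pow Fact.out).mp (orderOf_dvd_of_pow_eq_one hk)
        obtain ⟨R, hR⟩ := (IsPGroup.of_card (n := j) (by rw [Nat.card_zpowers, hj]) :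
          IsPGroup p (zpowers x)).exists_le_sylow
        obtain ⟨c, hc⟩ := MulAction.exists_smul_eq (G ⧸ P0) Sb R
        have h1 : x ∈ ((c • Sb : Sylow p (G ⧸ P0)) : Subgroup (G ⧸ P0)) := hc ▸ hR (mem_zpowers x)
        rw [Sylow.coe_subgroup_smul, hb] at h1
        obtain ⟨y, hy, hyx⟩ := h1
        exact hx1 (by rw [← hyx, mem_bot.mp hy]; exact (MulAut.conj c).map_one)
      refine ih _ (Solvable.card_quotient_lt hP0) _ Sb (fun h => ?_) rfl
      set Zb := Cfsg.centerThompsonAOf (Sb : Subgroup (G ⧸ P0)) with hZb
      set M := (normalizer (Zb : Set (G ⧸ P0))).comap π with hM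
      have hSbc : (Sb : Subgroup (G ⧸ P0)).comap π = S := by
        show ((S : Subgroup G).map π).comap π = _
        rw [comap_map_eq, QuotientGroup.ker_mk']
        exact sup_eq_left.mpr (pCore_le_sylow S)
      have hSM : (S : Subgroup G) ≤ M :=
        hSbc ▸ comap_mono (le_normalizer.trans (K.normalizer_le _))
      refine supS M (fun htop => ?_) hSM (h.of_surjective hp (π.subgroupComap _)
        (π.subgroupComap_surjective_of_surjective _ (QuotientGroup.mk'_surjective P0)))
      have hn : Zb.Normal := normalizer_eq_top_iff.mp (by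
        rw [eq_top_iff]
        intro y _
        obtain ⟨y, rfl⟩ := QuotientGroup.mk'_surjective P0 y
        exact (htop ▸ mem_top y : y ∈ M))
      apply K.ne_bot _ _ Sb.2 hb
      rw [← hZb, ← map_comap_eq_self_of_surjective (QuotientGroup.mk'_surjective P0) Zb,
        Subgroup.map_eq_bot_iff, QuotientGroup.ker_mk']
      exact Solvable.le_pCore p (hn.comap _) (S.2.to_le (hSbc ▸ comap_mono (K.le _ _)))
    -- subgroups containing a member of largest order
    set Q' := fun A : Subgroup G => IsMulCommutative A with hQ'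
    have hWfam : W = famCenter Q' (S : Subgroup G) := (famCenter_abelian_eq _).symm
    have noA : ∀ (n : ℕ) (M : Subgroup G) (T A : Subgroup G), IsSylowIn p T M → M ≠ ⊤ →
        T ≤ (S : Subgroup G) → A ∈ fam Q' (S : Subgroup G) → A ≤ T →
        (∀ N : Subgroup G, N.Normal → IsPGroup p N → W ≤ N → ¬ A ≤ centralizer (N : Set G)) →
        Nat.card G - Nat.card T = n → ¬ Inverts p M := by
      intro n
      induction n using Nat.strong_induction_on with
      | _ n ihn =>
        intro M T A hT hM hTS hA hAT hprop hn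
        by_cases hne : T = (S : Subgroup G)
        · exact supS M hM (hne ▸ hT.le)
        obtain ⟨R, hR⟩ := hT.exists_sylow
        refine sub M hM R ?_
        rw [hR]
        set Z := Cfsg.centerThompsonAOf T with hZ
        set M2 := normalizer (Z : Set G) with hM2
        have hfamA : A ∈ fam Q' T := ⟨hA.1, hAT, fun C hC hCT => hA.2.2 C hC (hCT.trans hTS)⟩
        have hM2top : M2 ≠ ⊤ := by
          intro htop
          have hZf : Z = famCenter Q' T := (famCenter_abelian_eq _).symm
          refine hprop Z (normalizer_eq_top_iff.mp htop) (hT.2.1.to_le (K.le G T)) ?_ ?_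
          · rw [hWfam, hZf]
            exact sInf_le_sInf fun C hC => ⟨hC.1, hC.2.1.trans hTS,
              fun E hE hES => (hA.2.2 E hE hES).trans (hC.2.2 A hA.1 hAT)⟩
          · intro x hx
            refine mem_centralizer_iff.mpr fun z hz => ?_
            exact congrArg Subtype.val (hA.1.is_comm.comm ⟨z, sInf_le hfamA ((hZf ▸ hz : z ∈ famCenter Q' T) : _)⟩ ⟨x, hx⟩)
        set T1 := (S : Subgroup G) ⊓ normalizer (T : Set G) with hT1
        have hT1M2 : T1 ≤ M2 := inf_le_right.trans (K.normalizer_le T)
        obtain ⟨R2, hR2⟩ := ((S.2.to_le inf_le_left : IsPGroup p T1).comap_subtype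
          (K := M2)).exists_le_sylow
        set T2 := (R2 : Subgroup M2).map M2.subtype with hT2
        have hT1T2 : T1 ≤ T2 := fun x hx => ⟨⟨x, hT1M2 hx⟩, hR2 (mem_subgroupOf.mpr hx), rfl⟩
        obtain ⟨S2, hS2⟩ := (R2.2.map M2.subtype).exists_le_sylow
        obtain ⟨h, hh⟩ := MulAction.exists_smul_eq G S2 S
        have hT3S : h ⋆ T2 ≤ S := by
          rw [← hh, Sylow.coe_subgroup_smul]
          exact cj_mono h hS2
        have hT3 : IsSylowIn p (h ⋆ T2) (h ⋆ M2) := by
          refine ⟨cj_mono h (map_subtype_le _), isPGroup_cj h (R2.2.map _), ?_⟩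
          rw [hT2, relIndex_map_map_of_injective _ _ (MulAut.conj h).injective, relIndex, subgroupOf,
            comap_map_eq_self_of_injective M2.subtype_injective]
          exact R2.not_dvd_index
        have hA2 : A ≤ T2 := (hAT.trans (le_inf hTS le_normalizer)).trans hT1T2
        have hA3 : h ⋆ A ∈ fam Q' (S : Subgroup G) := by
          refine ⟨?_, (cj_mono h hA2).trans hT3S, fun C hC hCS => ?_⟩
          · haveI : IsMulCommutative A := hA.1
            exact Subgroup.map_isMulCommutative A (MulAut.conj h).toMonoidHom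
          · rw [card_cj]
            exact hA.2.2 C hC hCS
        intro hinv
        refine ihn (Nat.card G - Nat.card ↥(h ⋆ T2)) ?_ (h ⋆ M2) (h ⋆ T2) (h ⋆ A) hT3 ?_ hT3S hA3
          (cj_mono h hA2) ?_ rfl (inverts_map _ (MulAut.conj h).injective hinv)
        · have h1 := Solvable.card_lt_of_lt (lt_inf_normalizer S.2 (lt_of_le_of_ne hTS hne))
          have h2 := card_le_of_le hT1T2
          have h3 := card_le_card_group T2
          rw [card_cj]
          simp only [← hT1] at h1
          omega
        · intro h0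
          apply hM2top
          refine Solvable.eq_of_le_of_card_le le_top ?_
          rw [← h0, card_cj]
        · intro N hN hNp hWN hle
          refine hprop N hN hNp hWN fun x hx => mem_centralizer_iff.mpr fun z hz => ?_
          have := mem_centralizer_iff.mp (hle (conj_mem_cj (g := h) hx)) (h * z * h⁻¹)
            (hN.conj_mem z hz h)
          have h5 := congrArg (fun y => h⁻¹ * y * h) this
          simpa [mul_assoc] using h5
    -- quadratic elements are in the p-cores
    have claim : ∀ (B : Subgroup G) [B.Normal], IsPGroup p B → ∀ A ∈ fam Q' (S : Subgroup G),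
        ∀ a ∈ (S : Subgroup G), (∀ x ∈ A, x * a = a * x) →
        (∀ N : Subgroup G, N.Normal → IsPGroup p N → W ≤ N → ¬ A ≤ centralizer (N : Set G)) →
        ⁅⁅B, zpowers a⁆, zpowers a⁆ = ⊥ → PCoreMod p (centralizer (B : Set G)) a := by
      intro B _ hB A hA a haS hAa hprop hq
      by_contra hn
      obtain ⟨j, hj1, hj2, hj3⟩ := exists_commuting_involution hp B hB a hq hn
      set C := centralizer (B : Set G) with hC
      set Kc := (Cfsg.pCore p (G ⧸ C)).comap (QuotientGroup.mk' C) with hKc
      set π' := QuotientGroup.mk' Kc with hπ'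
      set M := (centralizer ({π' a} : Set (G ⧸ Kc))).comap π' with hM
      have hmemM : ∀ x, π' (x * a) = π' (a * x) → x ∈ M := fun x hx => by
        rw [hM, mem_comap, mem_centralizer_singleton_iff, ← map_mul, ← map_mul, hx]
      have hAM : A ≤ M := fun x hx => hmemM x (by rw [hAa x hx])
      have hBK : ∀ x ∈ B, x ∈ Kc := fun x hx =>
        (Solvable.le_pCore p (Normal.map inferInstance _ (QuotientGroup.mk'_surjective C))
          (hB.map _) : B.map (QuotientGroup.mk' C) ≤ _) (mem_map_of_mem _ hx)
      have hjM : j ∈ M := hmemM j (by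
        have h : π' ⁅j, a⁆ = 1 :=
          (QuotientGroup.eq_one_iff _).mpr (mem_comap.mpr ((pcoreMod_iff _ _).mp hj3))
        rwa [map_commutatorElement, commutatorElement_eq_one_iff_mul_comm, ← map_mul, ← map_mul] at h)
      have hMtop : M ≠ ⊤ := by
        intro htop
        apply hn
        have hc : zpowers (π' a) ≤ center (G ⧸ Kc) := zpowers_le.mpr (mem_center_iff.mpr fun y => by
          obtain ⟨y, rfl⟩ := QuotientGroup.mk'_surjective Kc y
          exact mem_centralizer_singleton_iff.mp (htop ▸ mem_top y : y ∈ M))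
        haveI hnz : (zpowers (π' a)).Normal := ⟨fun x hx y => by
          rw [mem_center_iff.mp (hc hx) y, mul_inv_cancel_right]; exact hx⟩
        refine ⟨(zpowers (π' a)).comap π', Normal.comap hnz _, mem_zpowers (π' a), fun x hx => ?_⟩
        obtain ⟨i, hi⟩ := mem_zpowers_iff.mp (mem_comap.mp hx)
        obtain ⟨k, hk⟩ := S.2 ⟨a, haS⟩
        have hak : (π' a) ^ p ^ k = 1 := by
          rw [← map_pow]; simpa using congrArg (fun y : S => π' (y : G)) hk
        have hxk : x ^ p ^ k ∈ Kc := (QuotientGroup.eq_one_iff _).mp (by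
          show π' (x ^ p ^ k) = 1
          rw [map_pow, ← hi, ← zpow_natCast, zpow_comm, zpow_natCast, hak, one_zpow])
        obtain ⟨l, hl⟩ := Solvable.isPGroup_pCore p ⟨_, mem_comap.mp hxk⟩
        refine ⟨k + l, (QuotientGroup.eq_one_iff _).mp ?_⟩
        rw [pow_add, pow_mul]
        show QuotientGroup.mk' C ((x ^ p ^ k) ^ p ^ l) = 1
        rw [map_pow]
        exact congrArg Subtype.val hl
      obtain ⟨c, hc, hc1, hinv⟩ := exists_inverted_of_sq
        (by rw [normalizer_eq_top (H := B)]; exact mem_top j) hj1 hj2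
      have hMi : Inverts p M := inverts_subgroup_iff.mpr ⟨j, hjM, c, hmemM c (by
        rw [map_mul, map_mul, show π' c = 1 from (QuotientGroup.eq_one_iff c).mpr (hBK c hc),
          one_mul, mul_one]), hc1, by
          obtain ⟨k, hk⟩ := hB ⟨c, hc⟩
          exact ⟨k, by simpa using congrArg Subtype.val hk⟩, hinv⟩
      -- a Sylow subgroup of `M` containing `A`, moved into `S`
      obtain ⟨R, hR⟩ := ((S.2.to_le hA.2.1).comap_subtype (K := M)).exists_le_sylow
      set T := (R : Subgroup M).map M.subtype with hT
      obtain ⟨S2, hS2⟩ := (R.2.map M.subtype).exists_le_sylow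
      obtain ⟨h, hh⟩ := MulAction.exists_smul_eq G S2 S
      have hT3S : h ⋆ T ≤ S := by
        rw [← hh, Sylow.coe_subgroup_smul]
        exact cj_mono h hS2
      have hT3 : IsSylowIn p (h ⋆ T) (h ⋆ M) := by
        refine ⟨cj_mono h (map_subtype_le _), isPGroup_cj h (R.2.map _), ?_⟩
        rw [hT, relIndex_map_map_of_injective _ _ (MulAut.conj h).injective, relIndex, subgroupOf,
          comap_map_eq_self_of_injective M.subtype_injective]
        exact R.not_dvd_index
      have hA2 : A ≤ T := fun x hx => ⟨⟨x, hAM hx⟩, hR (mem_subgroupOf.mpr hx), rfl⟩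
      refine noA _ (h ⋆ M) (h ⋆ T) (h ⋆ A) hT3 ?_ hT3S ⟨?_, (cj_mono h hA2).trans hT3S,
        fun D hD hDS => ?_⟩ (cj_mono h hA2) ?_ rfl (inverts_map _ (MulAut.conj h).injective hMi)
      · intro h0
        apply hMtop
        refine Solvable.eq_of_le_of_card_le le_top ?_
        rw [← h0, card_cj]
      · haveI : IsMulCommutative A := hA.1
        exact Subgroup.map_isMulCommutative A (MulAut.conj h).toMonoidHom
      · rw [card_cj]
        exact hA.2.2 D hD hDS
      · intro N hN hNp hWN hle
        refine hprop N hN hNp hWN fun x hx => mem_centralizer_iff.mpr fun z hz => ?_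
        have := mem_centralizer_iff.mp (hle (conj_mem_cj (g := h) hx)) (h * z * h⁻¹)
          (hN.conj_mem z hz h)
        have h5 := congrArg (fun y => h⁻¹ * y * h) this
        simpa [mul_assoc] using h5
    -- normality in the critical case
    have hnormal : (S : Subgroup G) ⊓ coreKer p G ≤ P0 → W.Normal := by
      intro hT
      obtain ⟨A0, hA0⟩ := exists_fam admissible_abelian (S : Subgroup G)
      have hWle : W ≤ P0 := by
        by_contra hnle
        apply hnle
        intro z hz
        refine hT ⟨K.le G _ hz, mem_coreKer.mpr (claim P0 (Solvable.isPGroup_pCore p) A0 hA0 z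
          (K.le G _ hz) (fun x hx => congrArg Subtype.val (hA0.1.is_comm.comm ⟨x, hx⟩
            ⟨z, sInf_le hA0 ((hWfam ▸ hz : z ∈ famCenter Q' (S : Subgroup G)) : _)⟩))
          (fun N hN hNp hWN _ => hnle (hWN.trans (Solvable.le_pCore p hN hNp))) ?_)⟩
        have h1 : ⁅P0, zpowers z⁆ ≤ W := by
          rw [commutator_le]
          intro x hx y hy
          rw [commutatorElement_def]
          exact W.mul_mem ((mem_normalizer_iff.mp (hSX (pCore_le_sylow S hx)) y).mp
            (zpowers_le.mpr hz hy)) (W.inv_mem (zpowers_le.mpr hz hy))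
        refine le_bot_iff.mp ((commutator_mono h1 (zpowers_le.mpr hz)).trans (le_of_eq ?_))
        rw [commutator_eq_bot_iff_le_centralizer]
        exact fun x hx => mem_centralizer_iff.mpr fun y hy => K.comm G _ y hy x hx
      have h := inf_famCenter_normal_of hp admissible_abelian S (S : Subgroup G)
        (stronglyClosed_self S) (fun B _ hB hBcl A hA a ha hq => ?_) P0 (Solvable.pCore_normal p)
        (Solvable.isPGroup_pCore p)
      · rw [← hWfam, inf_eq_right.mpr hWle] at h
        exact h
      by_cases hAB : A ≤ centralizer (B : Set G)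
      · exact ⟨centralizer (B : Set G), inferInstance, hAB ha, fun x hx => ⟨0, by simpa using hx⟩⟩
      refine claim B hB A hA a (hA.2.1 ha) (fun x hx => congrArg Subtype.val
        (hA.1.is_comm.comm ⟨x, hx⟩ ⟨a, ha⟩)) (fun N hN _ hWN hle => hAB (hle.trans ?_)) hq
      refine centralizer_le (hBcl.trans ?_)
      haveI := hN
      exact normalClosure_le_normal fun x hx => hWN (hWfam ▸ hx.2)
    -- control of strong fusion
    have hfused : ∀ (A : Subgroup G) (g : G), A ≤ S → g ⋆ A ≤ S → Fused X A g := by
      intro A g hA hg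
      refine fused_of_pCore S W (K.normalizer_le _) hnormal ?_ (fun _ hne => ?_) A g hA hg
      · intro M hM hSM A g hgM hA hg
        obtain ⟨x, hx, hxe⟩ := control_of_free hp K M (free_of_not_inverts hp (supS M hM hSM))
          (S.subtype hSM) _ (stronglyClosed_self _) (A.subgroupOf M) ⟨g, hgM⟩
          (fun a ha => mem_subgroupOf.mpr (hA (mem_subgroupOf.mp ha))) (by
            rintro _ ⟨a, ha, rfl⟩
            refine mem_subgroupOf.mpr ?_
            simpa using cj_le_iff.mp hg _ (mem_subgroupOf.mp ha))
        refine ⟨x, ?_, fun a ha => ?_⟩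
        · have h2 := le_normalizer_map M.subtype (mem_map_of_mem M.subtype hx)
          rw [← K.map M G M.subtype _ M.subtype_injective, Sylow.coe_subtype,
            map_subgroupOf_eq_of_le hSM] at h2
          exact h2
        · exact congrArg Subtype.val (hxe ⟨a, hSM (hA ha)⟩ (mem_subgroupOf.mpr ha))
      · set Sb := S.mapSurjective (f := π) (QuotientGroup.mk'_surjective P0) with hSb
        exact ⟨Cfsg.centerThompsonAOf (Sb : Subgroup (G ⧸ P0)), K.ne_bot _ _ Sb.2 hne, K.le _ _,
          le_normalizer.trans (K.normalizer_le _), fun A g hA hg => control_of_free hp K _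
            (free_of_not_inverts hp hquot) Sb _ (stronglyClosed_self Sb) A g hA hg⟩
    obtain ⟨g, x, hx1, ⟨k, hk⟩, hgx⟩ := hG
    obtain ⟨j, -, hj⟩ := (Nat.dvd_prime_pow Fact.out).mp (orderOf_dvd_of_pow_eq_one hk)
    obtain ⟨R, hR⟩ := (IsPGroup.of_card (n := j) (by rw [Nat.card_zpowers, hj]) :
      IsPGroup p (zpowers x)).exists_le_sylow
    obtain ⟨h, hh⟩ := MulAction.exists_smul_eq G R S
    have hy : h * x * h⁻¹ ∈ (S : Subgroup G) := by
      rw [← hh, Sylow.coe_subgroup_smul]
      exact ⟨x, hR (mem_zpowers x), rfl⟩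
    set y := h * x * h⁻¹ with hydef
    have hgy : (h * g * h⁻¹) * y * (h * g * h⁻¹)⁻¹ = y⁻¹ := by
      calc (h * g * h⁻¹) * y * (h * g * h⁻¹)⁻¹ = h * (g * x * g⁻¹) * h⁻¹ := by rw [hydef]; group
        _ = y⁻¹ := by rw [hgx, hydef]; group
    obtain ⟨m, hm, hme⟩ := hfused (zpowers y) (h * g * h⁻¹) (zpowers_le.mpr hy) (by
      rw [MonoidHom.map_zpowers, zpowers_le]
      show (h * g * h⁻¹) * y * (h * g * h⁻¹)⁻¹ ∈ _
      rw [hgy]; exact inv_mem hy)
    refine hH (inverts_subgroup_iff.mpr ⟨m, hm, y, hSX hy, fun h0 => hx1 ?_, ⟨k, ?_⟩,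
      (hme y (mem_zpowers y)).trans hgy⟩)
    · rw [hydef, mul_inv_eq_one, mul_eq_left] at h0
      exact h0
    · rw [hydef, conj_pow, hk, mul_one, mul_inv_cancel]

end CfsgLib.ZJ
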