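import Cfsg.Agent.ZJ.DicksonThm
import Mathlib.FieldTheory.IsAlgClosed.AlgebraicClosure
import Mathlib.LinearAlgebra.Eigenspace.Triangularizable
import Mathlib.LinearAlgebra.Eigenspace.Minpoly
import Mathlib.LinearAlgebra.Matrix.ToLin
import Mathlib.LinearAlgebra.Matrix.NonsingularInverse
import Mathlib.LinearAlgebra.Matrix.ToLinearEquiv

/-!
Two quadratic elements generating a group that is not a p-group act on a natural two-dimensional
submodule as SL₂(p).
-/

set_option autoImplicit false

namespace CfsgLib.ZJ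

open scoped Classical

section Plane

variable {k W G : Type*} [Field k] [AddCommGroup W] [Module k W] [Group G]
  (σ : G →* Module.End k W) (e1 e2 : W)

/-- `M` is the matrix of the action of `g` on the plane spanned by `e1`, `e2`. -/
def PlaneMat (g : G) (M : SL2 k) : Prop :=
  σ g e1 = M 0 0 • e1 + M 1 0 • e2 ∧ σ g e2 = M 0 1 • e1 + M 1 1 • e2

theorem planeMat_one : PlaneMat σ e1 e2 1 1 := by
  simp [PlaneMat]

theorem planeMat_mul {g h : G} {M N : SL2 k} (hg : PlaneMat σ e1 e2 g M)
    (hh : PlaneMat σ e1 e2 h N) : PlaneMat σ e1 e2 (g * h) (M * N) := by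
  obtain ⟨g1, g2⟩ := hg
  obtain ⟨h1, h2⟩ := hh
  constructor <;> simp only [map_mul, Module.End.mul_apply, h1, h2, map_add, map_smul, g1, g2,
    sl2_mul] <;> module

variable (hind : ∀ a b : k, a • e1 + b • e2 = 0 → a = 0 ∧ b = 0)
include hind

theorem planeMat_unique {g : G} {M N : SL2 k} (hM : PlaneMat σ e1 e2 g M)
    (hN : PlaneMat σ e1 e2 g N) : M = N := by
  have a := hind (M 0 0 - N 0 0) (M 1 0 - N 1 0) (by
    have := hM.1.symm.trans hN.1
    rw [sub_smul, sub_smul]
    linear_combination (norm := module) this)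
  have b := hind (M 0 1 - N 0 1) (M 1 1 - N 1 1) (by
    have := hM.2.symm.trans hN.2
    rw [sub_smul, sub_smul]
    linear_combination (norm := module) this)
  exact sl2_ext (sub_eq_zero.mp a.1) (sub_eq_zero.mp b.1) (sub_eq_zero.mp a.2) (sub_eq_zero.mp b.2)

/-- A group generated by elements stabilizing a plane with determinant one maps to SL₂. -/
theorem exists_plane_hom [Finite G] (S : Set G) (hS : ∀ g ∈ S, ∃ M, PlaneMat σ e1 e2 g M) :
    ∃ φ : Subgroup.closure S →* SL2 k,
      ∀ g : Subgroup.closure S, PlaneMat σ e1 e2 (g : G) (φ g) := by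
  have hall : ∀ g ∈ Subgroup.closure S, ∃ M, PlaneMat σ e1 e2 g M := by
    intro g hg
    induction hg using Subgroup.closure_induction with
    | mem x hx => exact hS x hx
    | one => exact ⟨1, planeMat_one σ e1 e2⟩
    | mul x y _ _ hx hy =>
      obtain ⟨M, hM⟩ := hx
      obtain ⟨N, hN⟩ := hy
      exact ⟨M * N, planeMat_mul σ e1 e2 hM hN⟩
    | inv x _ hx =>
      obtain ⟨M, hM⟩ := hx
      have hp : ∀ n : ℕ, PlaneMat σ e1 e2 (x ^ n) (M ^ n) := by
        intro n
        induction n with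
        | zero => simpa using planeMat_one σ e1 e2
        | succ n ih => rw [pow_succ, pow_succ]; exact planeMat_mul σ e1 e2 ih hM
      have h1 : x⁻¹ = x ^ (orderOf x - 1) := by
        apply inv_eq_of_mul_eq_one_left
        rw [← pow_succ, Nat.sub_add_cancel (orderOf_pos x), pow_orderOf_eq_one]
      exact ⟨_, h1 ▸ hp _⟩
  choose f hf using fun g : Subgroup.closure S => hall g g.2
  exact ⟨MonoidHom.mk' f fun g h =>
    planeMat_unique σ e1 e2 hind (hf (g * h)) (planeMat_mul σ e1 e2 (hf g) (hf h)), hf⟩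

end Plane

/-- `V` as a natural SL₂(p)-plane for `a` and `a'`. -/
structure NaturalPlane {p : ℕ} {V : Type*} [AddCommGroup V] [Module (ZMod p) V]
    (f f' : Module.End (ZMod p) V) (v w : V) : Prop where
  ind : ∀ s t : ZMod p, s • v + t • w = 0 → s = 0 ∧ t = 0
  fv : f v = v
  fw : f w = w + v
  fv' : f' v = v - w
  fw' : f' w = w

/-- If two square-zero endomorphisms have a nilpotent product, the group they generate is
unipotent. -/
theorem unipotent_of_nilpotent {k V G : Type*} [Field k] [AddCommGroup V] [Module k V] [Group G]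
    [Finite G] (ρ : G →* Module.End k V) (a b : G) (ha : (ρ a - 1) * (ρ a - 1) = 0)
    (hb : (ρ b - 1) * (ρ b - 1) = 0) {N : ℕ} (hN : ((ρ a - 1) * (ρ b - 1)) ^ N = 0) {g : G}
    (hg : g ∈ Subgroup.closure {a, b}) : ∃ M : ℕ, (ρ g - 1) ^ M = 0 := by
  set A := ρ a - 1 with hA
  set B := ρ b - 1 with hB
  -- the filtration by images of alternating words
  let F : ℕ → Submodule k V := fun j =>
    if Even j then LinearMap.range ((A * B) ^ (j / 2)) ⊔ LinearMap.range ((B * A) ^ (j / 2))
    else LinearMap.range ((A * B) ^ (j / 2) * A) ⊔ LinearMap.range ((B * A) ^ (j / 2) * B)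
  have Fe : ∀ n, F (2 * n) = LinearMap.range ((A * B) ^ n) ⊔ LinearMap.range ((B * A) ^ n) := by
    intro n
    simp [F]
  have Fo : ∀ n, F (2 * n + 1)
      = LinearMap.range ((A * B) ^ n * A) ⊔ LinearMap.range ((B * A) ^ n * B) := by
    intro n
    have h1 : ¬ Even (2 * n + 1) := by simp [parity_simps]
    have h2 : (2 * n + 1) / 2 = n := by omega
    simp only [F, h1, if_false, h2]
  have rmul : ∀ X Y : Module.End k V, LinearMap.range (X * Y) ≤ LinearMap.range X :=
    fun X Y => LinearMap.range_comp_le_range Y X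
  have par : ∀ j, (∃ n, j = 2 * n) ∨ ∃ n, j = 2 * n + 1 := fun j => by
    rcases Nat.even_or_odd' j with ⟨n, h | h⟩
    · exact Or.inl ⟨n, h⟩
    · exact Or.inr ⟨n, h⟩
  have anti : ∀ j, F (j + 1) ≤ F j := by
    intro j
    rcases par j with ⟨n, rfl⟩ | ⟨n, rfl⟩
    · rw [Fe, Fo]
      exact sup_le_sup (rmul _ _) (rmul _ _)
    · rw [show 2 * n + 1 + 1 = 2 * (n + 1) by ring, Fe, Fo]
      refine sup_le_sup ?_ ?_ <;> rw [pow_succ, ← mul_assoc] <;> exact rmul _ _
  have swap : ∀ (X Y : Module.End k V) n, X * (Y * X) ^ n = (X * Y) ^ n * X := by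
    intro X Y n
    induction n with
    | zero => simp
    | succ m ih => rw [pow_succ, ← mul_assoc, ih, pow_succ]; simp only [mul_assoc]
  have mr : ∀ X Y : Module.End k V, (LinearMap.range Y).map X = LinearMap.range (X * Y) :=
    fun X Y => (LinearMap.range_comp Y X).symm
  have hz : ∀ X Y : Module.End k V, X * X = 0 → ∀ n, X * ((X * Y) ^ (n + 1)) = 0 := by
    intro X Y hX n
    rw [pow_succ', ← mul_assoc, ← mul_assoc, hX, zero_mul, zero_mul]
  have hz' : ∀ X Y : Module.End k V, X * X = 0 → ∀ n, X * ((X * Y) ^ n * X) = 0 := by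
    intro X Y hX n
    cases n with
    | zero => simp [hX]
    | succ m => rw [← mul_assoc, hz X Y hX m, zero_mul]
  have step : ∀ j, (F j).map A ≤ F (j + 1) ∧ (F j).map B ≤ F (j + 1) := by
    intro j
    rcases par j with ⟨n, rfl⟩ | ⟨n, rfl⟩
    · rw [Fe, Fo, Submodule.map_sup, Submodule.map_sup, mr, mr, mr, mr, swap A B, swap B A]
      cases n with
      | zero => simp
      | succ m =>
        rw [hz A B ha m, hz B A hb m]
        simp
    · rw [show 2 * n + 1 + 1 = 2 * (n + 1) by ring, Fe, Fo, Submodule.map_sup, Submodule.map_sup,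
        mr, mr, mr, mr, hz' A B ha n, hz' B A hb n]
      have e1 : A * ((B * A) ^ n * B) = (A * B) ^ (n + 1) := by
        rw [← mul_assoc, swap A B, pow_succ, mul_assoc]
      have e2 : B * ((A * B) ^ n * A) = (B * A) ^ (n + 1) := by
        rw [← mul_assoc, swap B A, pow_succ, mul_assoc]
      rw [e1, e2]
      simp
  have hclos : ∀ h ∈ Subgroup.closure {a, b}, ∀ j, (F j).map (ρ h - 1) ≤ F (j + 1) := by
    intro h hh
    induction hh using Subgroup.closure_induction with
    | mem x hx =>
      rcases hx with rfl | rfl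
      · exact fun j => (step j).1
      · exact fun j => (step j).2
    | one => simp
    | mul x y _ _ hx hy =>
      intro j
      rintro _ ⟨v, hv, rfl⟩
      have h1 := hx j ⟨v, hv, rfl⟩
      have h2 := hy j ⟨v, hv, rfl⟩
      have h3 := anti (j + 1) (hx (j + 1) ⟨_, h2, rfl⟩)
      have : (ρ (x * y) - 1) v = (ρ x - 1) ((ρ y - 1) v) + (ρ x - 1) v + (ρ y - 1) v := by
        simp [map_mul]
        abel
      rw [this]
      exact add_mem (add_mem h3 h1) h2
    | inv x _ hx =>
      intro j
      have hpow : ∀ n : ℕ, ∀ i, (F i).map (ρ (x ^ n) - 1) ≤ F (i + 1) := by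
        intro n
        induction n with
        | zero => simp
        | succ m ihm =>
          intro i
          rintro _ ⟨v, hv, rfl⟩
          have h1 := hx i ⟨v, hv, rfl⟩
          have h2 := ihm i ⟨v, hv, rfl⟩
          have h3 := anti (i + 1) (ihm (i + 1) ⟨_, h1, rfl⟩)
          have : (ρ (x ^ (m + 1)) - 1) v
              = (ρ (x ^ m) - 1) ((ρ x - 1) v) + (ρ (x ^ m) - 1) v + (ρ x - 1) v := by
            simp [pow_succ, map_mul]
            abel
          rw [this]
          exact add_mem (add_mem h3 h2) h1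
      have h1 : x⁻¹ = x ^ (orderOf x - 1) := by
        apply inv_eq_of_mul_eq_one_left
        rw [← pow_succ, Nat.sub_add_cancel (orderOf_pos x), pow_orderOf_eq_one]
      rw [h1]
      exact hpow _ j
  have hit : ∀ j, LinearMap.range ((ρ g - 1) ^ j) ≤ F j := by
    intro j
    induction j with
    | zero =>
      have : F 0 = ⊤ := by rw [show 0 = 2 * 0 from rfl, Fe]; simp [Module.End.one_eq_id]
      rw [this]; exact le_top
    | succ m ih =>
      rw [pow_succ', ← mr]
      exact le_trans (Submodule.map_mono ih) (hclos g hg m)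
  refine ⟨2 * (N + 1), ?_⟩
  have hzero : F (2 * (N + 1)) = ⊥ := by
    rw [Fe, pow_succ, hN, zero_mul]
    have : (B * A) ^ (N + 1) = 0 := by
      rw [pow_succ', mul_assoc, swap A B, hN, zero_mul, mul_zero]
    rw [this]
    simp
  exact LinearMap.range_eq_bot.mp (le_bot_iff.mp (hzero ▸ hit _))

end CfsgLib.ZJ

namespace CfsgLib.ZJ

open scoped Classical

theorem exists_ne_zero_hasEigenvector {k V : Type*} [Field k] [IsAlgClosed k] [AddCommGroup V]
    [Module k V] [FiniteDimensional k V] (f : Module.End k V) (hf : ¬ IsNilpotent f) :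
    ∃ (μ : k) (v : V), μ ≠ 0 ∧ v ≠ 0 ∧ f v = μ • v := by
  by_contra hcon
  push Not at hcon
  apply hf
  have hsup := Module.End.iSup_maxGenEigenspace_eq_top f
  have hz : ∀ μ : k, μ ≠ 0 → f.maxGenEigenspace μ = ⊥ := by
    intro μ hμ
    by_contra hne
    have hU : f.HasUnifEigenvalue μ ⊤ := hne
    have h1 : f.HasEigenvalue μ := hU.lt zero_lt_one
    obtain ⟨v, hv⟩ := h1.exists_hasEigenvector
    exact hcon μ v hμ hv.2 hv.apply_eq_smul
  have h0 : f.maxGenEigenspace 0 = ⊤ := by
    rw [← hsup]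
    apply le_antisymm (le_iSup (fun μ => f.maxGenEigenspace μ) 0)
    refine iSup_le fun μ => ?_
    by_cases hμ : μ = 0
    · rw [hμ]
    · rw [hz μ hμ]; exact bot_le
  rw [Module.End.maxGenEigenspace_eq_genEigenspace_finrank, Module.End.genEigenspace_nat,
    zero_smul, sub_zero] at h0
  exact ⟨_, LinearMap.ker_eq_top.mp h0⟩

/-- Two quadratic elements that do not generate a group acting as a p-group have, up to replacing the
second by a conjugate of the first, a natural SL₂(p)-plane. -/
theorem quadratic_plane {G V : Type*} [Group G] [Finite G] {p : ℕ} [Fact p.Prime] (hp : p ≠ 2)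
    [AddCommGroup V] [Module (ZMod p) V] [Finite V] (ρ : G →* Module.End (ZMod p) V) (a b : G)
    (ha : (ρ a - 1) * (ρ a - 1) = 0) (hb : (ρ b - 1) * (ρ b - 1) = 0)
    (hnp : ∃ g ∈ Subgroup.closure {a, b}, ∀ j : ℕ, ρ (g ^ p ^ j) ≠ 1) :
    ∃ h ∈ Subgroup.closure {a, b}, ∃ v w : V,
      NaturalPlane (ρ a) (ρ (h * a * h⁻¹)) v w := by
  obtain ⟨g, hg, hgp⟩ := hnp
  have hnil : ∀ N, ((ρ a - 1) * (ρ b - 1)) ^ N ≠ 0 := by
    intro N hN
    obtain ⟨M, hM⟩ := unipotent_of_nilpotent ρ a b ha hb hN hg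
    apply hgp M
    have hp' := (Fact.out : p.Prime)
    have hle : M ≤ p ^ M := (Nat.lt_pow_self hp'.one_lt).le
    by_cases hV : Subsingleton V
    · exact LinearMap.ext fun v => Subsingleton.elim _ _
    have : Nontrivial V := not_subsingleton_iff_nontrivial.mp hV
    have : CharP (Module.End (ZMod p) V) p :=
      charP_of_injective_algebraMap
        (FaithfulSMul.algebraMap_injective (ZMod p) (Module.End (ZMod p) V)) p
    rw [map_pow, ← sub_eq_zero]
    have e := sub_pow_char_pow_of_commute (p := p) (n := M) (Commute.one_right (ρ g))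
    rw [one_pow] at e
    rw [← e, ← Nat.sub_add_cancel hle, pow_add, hM, mul_zero]
  -- extend scalars
  let K := AlgebraicClosure (ZMod p)
  let bas := Module.finBasis (ZMod p) V
  let e := LinearMap.toMatrixAlgEquiv bas
  let ext : Module.End (ZMod p) V →+*
      Module.End K (Fin (Module.finrank (ZMod p) V) → K) :=
    (Matrix.toLinAlgEquiv' (R := K)).toRingEquiv.toRingHom.comp
      ((algebraMap (ZMod p) K).mapMatrix.comp e.toRingEquiv.toRingHom)
  have hext : Function.Injective ext := by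
    refine (Matrix.toLinAlgEquiv' (R := K)).injective.comp ?_
    exact (Matrix.map_injective (FaithfulSMul.algebraMap_injective (ZMod p) K)).comp e.injective
  let σ := ext.toMonoidHom.comp ρ
  have hσ : ∀ x, σ x = ext (ρ x) := fun _ => rfl
  have hσsub : ∀ x, σ x - 1 = ext (ρ x - 1) := fun x => by rw [map_sub, map_one, hσ]
  set A := σ a - 1 with hA
  set B := σ b - 1 with hB
  have hAA : A * A = 0 := by rw [hA, hσsub, ← map_mul, ha, map_zero]
  have hBB : B * B = 0 := by rw [hB, hσsub, ← map_mul, hb, map_zero]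
  have hABnil : ¬ IsNilpotent (A * B) := by
    rintro ⟨N, hN⟩
    apply hnil N
    apply hext
    rw [map_zero, map_pow, map_mul, ← hσsub, ← hσsub]
    exact hN
  obtain ⟨μ, v0, hμ, hv0, hABv⟩ := exists_ne_zero_hasEigenvector (A * B) hABnil
  rw [Module.End.mul_apply] at hABv
  have hA0 : A v0 = 0 := by
    have h1 : A (A (B v0)) = 0 := by rw [← Module.End.mul_apply, hAA]; rfl
    rw [hABv, map_smul, smul_eq_zero] at h1
    exact h1.resolve_left hμ
  obtain ⟨e1, he1⟩ : ∃ e, e = μ • v0 := ⟨_, rfl⟩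
  obtain ⟨e2, he2⟩ : ∃ e, e = B v0 := ⟨_, rfl⟩
  have hAe1 : A e1 = 0 := by rw [he1, map_smul, hA0, smul_zero]
  have hAe2 : A e2 = e1 := by rw [he1, he2, hABv]
  have hBe1 : B e1 = μ • e2 := by rw [he1, he2, map_smul]
  have hBe2 : B e2 = 0 := by rw [he2, ← Module.End.mul_apply, hBB]; rfl
  have he1ne : e1 ≠ 0 := he1 ▸ smul_ne_zero hμ hv0
  have hind : ∀ s t : K, s • e1 + t • e2 = 0 → s = 0 ∧ t = 0 := by
    intro s t hst
    have h1 : A (s • e1 + t • e2) = 0 := by rw [hst, map_zero]
    rw [map_add, map_smul, map_smul, hAe1, hAe2, smul_zero, zero_add, smul_eq_zero] at h1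
    have ht := h1.resolve_right he1ne
    rw [ht, zero_smul, add_zero, smul_eq_zero] at hst
    exact ⟨hst.resolve_right he1ne, ht⟩
  have σap : ∀ v, σ a v = v + A v := fun v => by simp [hA]
  have σbp : ∀ v, σ b v = v + B v := fun v => by simp [hB]
  have hpa : PlaneMat σ e1 e2 a (upper 1) := by
    simp [PlaneMat, σap, hAe1, hAe2, add_comm]
  have hpb : PlaneMat σ e1 e2 b (lower μ) := by
    simp [PlaneMat, σbp, hBe1, hBe2]
  obtain ⟨φ, hφ⟩ := exists_plane_hom σ e1 e2 hind {a, b} (by
    rintro x (rfl | rfl)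
    exacts [⟨_, hpa⟩, ⟨_, hpb⟩])
  let aa : Subgroup.closure ({a, b} : Set G) := ⟨a, Subgroup.subset_closure (by simp)⟩
  let bb : Subgroup.closure ({a, b} : Set G) := ⟨b, Subgroup.subset_closure (by simp)⟩
  have hφa : φ aa = upper 1 := planeMat_unique σ e1 e2 hind (hφ aa) hpa
  have hφb : φ bb = lower μ := planeMat_unique σ e1 e2 hind (hφ bb) hpb
  let L : Subgroup (SL2 K) :=
    { carrier := {M | ∃ x, M = φ x ∨ M = -φ x}
      one_mem' := ⟨1, Or.inl (map_one φ).symm⟩
      mul_mem' := by
        rintro M N ⟨x, hx⟩ ⟨y, hy⟩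
        refine ⟨x * y, ?_⟩
        rw [map_mul]
        rcases hx with rfl | rfl <;> rcases hy with rfl | rfl <;> simp
      inv_mem' := by
        rintro M ⟨x, hx⟩
        refine ⟨x⁻¹, ?_⟩
        rw [map_inv]
        rcases hx with rfl | rfl
        · exact Or.inl rfl
        · exact Or.inr (inv_eq_of_mul_eq_one_right (by simp)) }
  have : Finite L := Set.Finite.to_subtype (by
    refine Set.Finite.subset ((Set.finite_range φ).union (Set.finite_range fun x => -φ x)) ?_
    rintro M ⟨x, hx | hx⟩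
    · exact Or.inl ⟨x, hx.symm⟩
    · exact Or.inr ⟨x, hx.symm⟩)
  have hu : upper (1 : K) ∈ L := ⟨aa, Or.inl hφa.symm⟩
  have hl : lower μ ∈ L := ⟨bb, Or.inl hφb.symm⟩
  obtain ⟨t, ht⟩ := SL2Count.exists_conj_lower (p := p) hp
    (show ∃ x, (-1 : SL2 K) = φ x ∨ (-1 : SL2 K) = -φ x from ⟨1, Or.inr (by simp)⟩) hu ⟨lower μ, hl⟩
    (by simpa [SL2Count.ent] using hμ)
  have hw : upper 1 * (upper t * lower 1 * (upper t)⁻¹)⁻¹ * upper 1 ∈ L :=
    L.mul_mem (L.mul_mem hu (L.inv_mem ht)) hu
  obtain ⟨x, hx⟩ := hw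
  have hconj : φ (x * aa * x⁻¹) = upper t * lower (-1) * (upper t)⁻¹ := by
    have key : (upper 1 * (upper t * lower 1 * (upper t)⁻¹)⁻¹ * upper 1) * upper 1 *
        (upper 1 * (upper t * lower 1 * (upper t)⁻¹)⁻¹ * upper 1)⁻¹
          = upper t * lower (-1) * (upper t)⁻¹ := by
      have e : ∀ s : K, (lower s)⁻¹ = lower (-s) := fun s =>
        inv_eq_of_mul_eq_one_right (by rw [lower_mul, add_neg_cancel, lower_zero])
      simp only [mul_inv_rev, inv_inv, upper_inv, e]
      apply sl2_ext <;> simp [sl2_mul] <;> ring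
    rw [← key, map_mul, map_mul, map_inv, hφa]
    rcases hx with hx | hx
    · rw [hx]
    · rw [hx]
      have : (-φ x)⁻¹ = -(φ x)⁻¹ := inv_eq_of_mul_eq_one_right (by simp)
      rw [this]; simp
  refine ⟨x, x.2, ?_⟩
  set a' := (x : G) * a * (x : G)⁻¹ with ha'
  set A' := ρ a' - 1 with hA'
  -- the eigenvalue `-1` is realised over the prime field
  have hp' : PlaneMat σ e1 e2 a' (upper t * lower (-1) * (upper t)⁻¹) := by
    have := hφ (x * aa * x⁻¹)
    rwa [hconj] at this
  have hz : (A * ext A' + 1) e1 = 0 := by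
    have h1 := hp'.1
    simp only [upper_inv, sl2_mul, upper_00, upper_01, upper_10, upper_11, lower_00, lower_01,
      lower_10, lower_11] at h1
    have h2 : ext A' e1 = (-t) • e1 + (-1 : K) • e2 := by
      rw [hA', ← hσsub, LinearMap.sub_apply, h1, Module.End.one_apply]
      module
    rw [LinearMap.add_apply, Module.End.mul_apply, h2, map_add, map_smul, map_smul, hAe1, hAe2,
      Module.End.one_apply]
    module
  obtain ⟨v, hvne, hv⟩ : ∃ v : V, v ≠ 0 ∧ ((ρ a - 1) * A' + 1) v = 0 := by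
    by_contra hcon
    push Not at hcon
    have hinj : Function.Injective ((ρ a - 1) * A' + 1 : Module.End (ZMod p) V) := by
      rw [← LinearMap.ker_eq_bot, Submodule.eq_bot_iff]
      intro v hv
      by_contra hne
      exact hcon v hne hv
    obtain ⟨u, hu⟩ : IsUnit ((ρ a - 1) * A' + 1 : Module.End (ZMod p) V) :=
      (Module.End.isUnit_iff _).mpr ⟨hinj, LinearMap.surjective_of_injective hinj⟩
    have h1 : ext (↑u⁻¹) * (A * ext A' + 1) = 1 := by
      have e : ext ((ρ a - 1) * A' + 1) = A * ext A' + 1 := by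
        rw [map_add, map_mul, map_one, hA, hσsub]
      rw [← e, ← map_mul, ← hu, Units.inv_mul, map_one]
    have := congrArg (fun f : Module.End K _ => f e1) h1
    simp only [Module.End.mul_apply, hz, map_zero, Module.End.one_apply] at this
    exact he1ne this.symm
  have hA'A' : A' * A' = 0 := by
    have hinv : ρ (x : G) * ρ (x : G)⁻¹ = 1 := by rw [← map_mul, mul_inv_cancel, map_one]
    have hinv' : ρ (x : G)⁻¹ * ρ (x : G) = 1 := by rw [← map_mul, inv_mul_cancel, map_one]
    have e : A' = ρ (x : G) * (ρ a - 1) * ρ (x : G)⁻¹ := by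
      rw [hA', ha', map_mul, map_mul, mul_sub, sub_mul, mul_one, hinv]
    calc A' * A' = ρ (x : G) * (ρ a - 1) * (ρ (x : G)⁻¹ * ρ (x : G)) * (ρ a - 1) * ρ (x : G)⁻¹ := by
          rw [e]; simp only [mul_assoc]
      _ = ρ (x : G) * ((ρ a - 1) * (ρ a - 1)) * ρ (x : G)⁻¹ := by
          rw [hinv', mul_one]; simp only [mul_assoc]
      _ = 0 := by rw [ha, mul_zero, zero_mul]
  set A0 := ρ a - 1 with hA0'
  rw [LinearMap.add_apply, Module.End.mul_apply, Module.End.one_apply] at hv
  have hAAv : A0 (A' v) = -v := eq_neg_of_add_eq_zero_left hv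
  have hAv : A0 v = 0 := by
    have : A0 (A0 (A' v)) = 0 := by rw [← Module.End.mul_apply, ha]; rfl
    rw [hAAv, map_neg, neg_eq_zero] at this
    exact this
  set w := -A' v with hw'
  have hAw : A0 w = v := by rw [hw', map_neg, hAAv, neg_neg]
  have hA'w : A' w = 0 := by rw [hw', map_neg, ← Module.End.mul_apply, hA'A']; simp
  refine ⟨v, w, ⟨?_, ?_, ?_, ?_, ?_⟩⟩
  · intro s r hsr
    have h1 : A0 (s • v + r • w) = 0 := by rw [hsr, map_zero]
    rw [map_add, map_smul, map_smul, hAv, hAw, smul_zero, zero_add, smul_eq_zero] at h1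
    have hr := h1.resolve_right hvne
    rw [hr, zero_smul, add_zero, smul_eq_zero] at hsr
    exact ⟨hsr.resolve_right hvne, hr⟩
  · have : ρ a v - v = 0 := by simpa [hA0'] using hAv
    exact sub_eq_zero.mp this
  · have : ρ a w - w = v := by simpa [hA0'] using hAw
    rw [← this]; abel
  · have : A' v = -w := by rw [hw', neg_neg]
    have h : ρ a' v - v = -w := by simpa [hA'] using this
    rw [sub_eq_iff_eq_add] at h
    rw [h]; abel
  · have : ρ a' w - w = 0 := by simpa [hA'] using hA'w
    exact sub_eq_zero.mp this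

end CfsgLib.ZJ
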