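import Cfsg.Agent.ZJ.ControlCore
import Cfsg.Agent.ZJ.SL2Facts

/-!
p-stability passes to the quotient by a normal p-subgroup on which the group acts as a p-group.
-/

set_option autoImplicit false

namespace CfsgLib.ZJ

open Subgroup CfsgLib.Functor
open scoped CfsgLib.Functor commutatorElement

variable {G : Type*} [Group G] [Finite G] {p : ℕ} [Fact p.Prime]

theorem eq_one_of_two_part {x : G} {a b : ℕ} (hp : p ≠ 2) (ha : x ^ p ^ a = 1) (hb : x ^ 2 ^ b = 1) :
    x = 1 :=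
  orderOf_eq_one_iff.mp (Nat.eq_one_of_dvd_coprimes
    (Nat.Coprime.pow a b ((Nat.coprime_primes (Fact.out : p.Prime) Nat.prime_two).mpr hp))
    (orderOf_dvd_of_pow_eq_one ha) (orderOf_dvd_of_pow_eq_one hb))

/-- A 2-element with a p-power in `C` lies in `C`. -/
theorem mem_of_two_part {C : Subgroup G} {x : G} {a b : ℕ} (hp : p ≠ 2) (ha : x ^ p ^ a ∈ C)
    (hb : x ^ 2 ^ b = 1) : x ∈ C := by
  have hco : Nat.Coprime (p ^ a) (orderOf x) :=
    (Nat.Coprime.pow a b ((Nat.coprime_primes (Fact.out : p.Prime) Nat.prime_two).mpr hp)).coprime_dvd_right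
      (orderOf_dvd_of_pow_eq_one hb)
  obtain ⟨m, hm⟩ := exists_pow_eq_self_of_coprime hco
  rw [← hm]
  exact pow_mem ha m

/-- A p-stable group has no natural SL₂(p)-plane on a section above a subgroup on which the acting
subgroup is a p-group. -/
theorem false_of_plane_section (hp : p ≠ 2) (hst : Cfsg.IsNormalizerPStable p G)
    {M : Subgroup G} [M.Normal] (hM : IsPGroup p M) (K1 : Subgroup G)
    (hK1 : ∀ x ∈ K1, ∃ j, x ^ p ^ j ∈ centralizer (M : Set G))
    (φ : K1 →* SL2 (ZMod p)) (hφ : Function.Surjective φ)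
    (ι : Multiplicative (ZMod p × ZMod p) →* G ⧸ M) (hι : Function.Injective ι)
    (hact : ∀ (g : K1) (c d : ZMod p),
      QuotientGroup.mk' M g * ι (Multiplicative.ofAdd (c, d)) * (QuotientGroup.mk' M g)⁻¹ =
      ι (Multiplicative.ofAdd (φ g 0 0 * c + φ g 0 1 * d, φ g 1 0 * c + φ g 1 1 * d))) : False := by
  set π := QuotientGroup.mk' M with hπ
  have h2 := two_ne_zero_zmod (p := p) hp
  -- a 2-element over the central involution, with the normalizer of a Sylow 2-subgroup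
  obtain ⟨u₀, hu₀⟩ := hφ (-1)
  set U : Subgroup K1 := (Subgroup.zpowers (-1 : SL2 (ZMod p))).comap φ with hU
  have hUn : U.Normal := by
    have : (Subgroup.zpowers (-1 : SL2 (ZMod p))).Normal := ⟨fun z hz g => by
      obtain ⟨k, rfl⟩ := hz
      have hc : Commute g ((-1 : SL2 (ZMod p)) ^ k) := (Commute.neg_one_right g).zpow_right k
      rw [hc.eq, mul_inv_cancel_right]
      exact ⟨k, rfl⟩⟩
    exact this.comap φ
  obtain ⟨e, m, hm, hem⟩ := Nat.exists_eq_two_pow_mul_odd (orderOf_pos u₀).ne'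
  set u := u₀ ^ m with hu
  have hφu : φ u = -1 := by rw [hu, map_pow, hu₀, hm.neg_one_pow]
  have hu2 : u ^ 2 ^ e = 1 := by rw [hu, ← pow_mul, mul_comm, ← hem, pow_orderOf_eq_one]
  have huU : u ∈ U := by rw [hU, Subgroup.mem_comap, hφu]; exact Subgroup.mem_zpowers _
  have hPu : IsPGroup 2 (Subgroup.zpowers (⟨u, huU⟩ : U)) := by
    intro y
    obtain ⟨y, k, rfl⟩ := y
    refine ⟨e, Subtype.ext (Subtype.ext ?_)⟩
    show (u ^ k) ^ 2 ^ e = 1
    rw [← zpow_natCast, zpow_comm, zpow_natCast, hu2, one_zpow]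
  obtain ⟨T0, hT0⟩ := hPu.exists_le_sylow
  set T : Subgroup K1 := (T0 : Subgroup U).map U.subtype with hT
  have huT : u ∈ T := ⟨_, hT0 (Subgroup.mem_zpowers _), rfl⟩
  set D0 : Subgroup K1 := Subgroup.normalizer (T : Set K1) with hD0
  have hD0surj : ∀ A, ∃ d ∈ D0, φ d = A := by
    intro A
    obtain ⟨g, rfl⟩ := hφ A
    have hfr : D0 ⊔ U = ⊤ := Sylow.normalizer_sup_eq_top T0
    obtain ⟨d, hd, x, hx, rfl⟩ := Subgroup.mem_sup_of_normal_right.mp (hfr ▸ Subgroup.mem_top g)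
    obtain ⟨k, hk⟩ := hx
    refine ⟨d * u ^ k, D0.mul_mem hd (D0.zpow_mem (Subgroup.le_normalizer huT) k), ?_⟩
    simp only at hk
    rw [map_mul, map_mul, map_zpow, hφu, hk]
  have hT2 : ∀ t ∈ T, ∃ b, (t : G) ^ 2 ^ b = 1 := by
    rintro _ ⟨t, ht, rfl⟩
    obtain ⟨b, hb⟩ := T0.2 ⟨t, ht⟩
    exact ⟨b, congrArg (fun y : ↥(T0 : Subgroup U) => (((y : U) : K1) : G)) hb |> fun h => by
      simpa using h⟩
  have hTM : ∀ t ∈ T, (t : G) ∈ centralizer (M : Set G) := by
    intro t ht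
    obtain ⟨b, hb⟩ := hT2 t ht
    obtain ⟨j, hj⟩ := hK1 t t.2
    exact mem_of_two_part hp hj hb
  -- the preimage of the plane
  set P : Subgroup G := ι.range.comap π with hP
  have hMP : M ≤ P := fun x hx => ⟨1, by rw [map_one]; exact ((QuotientGroup.eq_one_iff x).mpr hx).symm⟩
  have htriv : ∀ t ∈ T, φ t = 1 → (t : G) ∈ centralizer (P : Set G) := by
    intro t ht hφt
    obtain ⟨b, hb⟩ := hT2 t ht
    obtain ⟨k, hk⟩ := pow_mem_centralizer_of_step hM (hTM t ht) (B := P) (fun x hx => by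
      obtain ⟨z, hz⟩ := hx
      obtain ⟨⟨c, d⟩, rfl⟩ := Multiplicative.ofAdd.surjective z
      refine (QuotientGroup.eq_one_iff _).mp ?_
      show π ((t : G) * x * (t : G)⁻¹ * x⁻¹) = 1
      rw [map_mul, map_mul, map_mul, map_inv, map_inv, ← hz, hact, hφt]
      simp)
    exact mem_of_two_part hp hk hb
  let θ : G → G := fun x => (u : G) * x * (u : G)⁻¹
  have hθ2 : ∀ x ∈ P, θ (θ x) = x := by
    intro x hx
    have h1 : ((u * u : K1) : G) ∈ centralizer (P : Set G) :=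
      htriv _ (T.mul_mem huT huT) (by
        rw [map_mul, hφu, neg_mul_neg, one_mul])
    have h3 := mem_centralizer_iff.mp h1 x hx
    show (u : G) * ((u : G) * x * (u : G)⁻¹) * (u : G)⁻¹ = x
    rw [Subgroup.coe_mul] at h3
    calc (u : G) * ((u : G) * x * (u : G)⁻¹) * (u : G)⁻¹
        = ((u : G) * u * x) * (u : G)⁻¹ * (u : G)⁻¹ := by group
      _ = x := by rw [← h3]; group
  have hθπ : ∀ x c d, π x = ι (Multiplicative.ofAdd (c, d)) →
      π (θ x) = ι (Multiplicative.ofAdd (-c, -d)) := by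
    intro x c d h
    show π ((u : G) * x * (u : G)⁻¹) = _
    rw [map_mul, map_mul, map_inv, h, hact, hφu]
    congr 2
    simp
  have hfix : ∀ m ∈ M, θ m = m := fun m hm => by
    show (u : G) * m * (u : G)⁻¹ = m
    rw [← mem_centralizer_iff.mp (hTM u huT) m hm, mul_inv_cancel_right]
  have hodd : ∀ x ∈ P, ∃ k : ℕ, x ^ p ^ k = 1 := by
    intro x hx
    obtain ⟨z, hz⟩ := hx
    have h1 : x ^ p ∈ M := by
      refine (QuotientGroup.eq_one_iff _).mp ?_
      show π (x ^ p) = 1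
      rw [map_pow, ← hz, ← map_pow, ← map_one ι]
      congr 1
      obtain ⟨⟨c, d⟩, rfl⟩ := Multiplicative.ofAdd.surjective z
      rw [← ofAdd_nsmul]
      simp
    obtain ⟨k, hk⟩ := hM ⟨_, h1⟩
    exact ⟨k + 1, by rw [pow_succ', pow_mul]; simpa using congrArg Subtype.val hk⟩
  have hcM : ∀ y ∈ P, θ y = y⁻¹ → ∀ m ∈ M, Commute y m := by
    intro y hy hθy m hm
    have h1 : θ (y * m * y⁻¹) = y * m * y⁻¹ := hfix _ ((inferInstance : M.Normal).conj_mem m hm y)
    have h3 : θ (y * m * y⁻¹) = θ y * θ m * (θ y)⁻¹ := by simp only [θ]; group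
    rw [h3, hθy, hfix m hm, inv_inv] at h1
    have h4 : Commute (y ^ 2) m := by
      show y ^ 2 * m = m * y ^ 2
      calc y ^ 2 * m = y * (y * m * y⁻¹) * y := by rw [pow_two]; group
        _ = y * (y⁻¹ * m * y) * y := by rw [h1]
        _ = m * y ^ 2 := by rw [pow_two]; group
    obtain ⟨k, hk⟩ := hodd y hy
    obtain ⟨r, hr⟩ := ((Fact.out : p.Prime).odd_of_ne_two hp).pow (n := k)
    have h5 := h4.pow_left (r + 1)
    rwa [← pow_mul, show 2 * (r + 1) = p ^ k + 1 by omega, pow_succ, hk, one_mul] at h5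
  have huniq : ∀ y y', y ∈ P → y' ∈ P → θ y = y⁻¹ → θ y' = y'⁻¹ → π y = π y' → y = y' := by
    intro y y' hy hy' h1 h1' he
    have hmM : y⁻¹ * y' ∈ M := (QuotientGroup.eq_one_iff _).mp (by
      show π (y⁻¹ * y') = 1
      rw [map_mul, map_inv, he, inv_mul_cancel])
    set m := y⁻¹ * y' with hm
    have hy'e : y' = y * m := by rw [hm, mul_inv_cancel_left]
    have hc := hcM y hy h1 m hmM
    have h3 : θ (y * m) = θ y * θ m := by simp only [θ]; group
    rw [hy'e, h3, h1, hfix m hmM, mul_inv_rev, ← hc.inv_inv.eq] at h1'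
    have h4 : m ^ 2 = 1 := by
      rw [pow_two]
      calc m * m = m * (y * (y⁻¹ * m)) := by group
        _ = m * (y * (y⁻¹ * m⁻¹)) := by rw [h1']
        _ = 1 := by group
    obtain ⟨k, hk⟩ := hM ⟨m, hmM⟩
    have : m = 1 := eq_one_of_two_part hp (a := k) (b := 1) (by simpa using congrArg Subtype.val hk)
      (by rw [pow_one]; exact h4)
    rw [hy'e, this, mul_one]
  -- the inverted element over a vector
  have hex : ∀ c d : ZMod p, ∃ y ∈ P, θ y = y⁻¹ ∧ π y = ι (Multiplicative.ofAdd (c, d)) := by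
    intro c d
    obtain ⟨x, hx⟩ := QuotientGroup.mk'_surjective M (ι (Multiplicative.ofAdd (-(c / 2), -(d / 2))))
    have hxP : x ∈ P := ⟨_, hx.symm⟩
    have hθP : θ x ∈ P := ⟨_, (hθπ x _ _ hx).symm⟩
    refine ⟨x⁻¹ * θ x, P.mul_mem (P.inv_mem hxP) hθP, ?_, ?_⟩
    · rw [show θ (x⁻¹ * θ x) = (θ x)⁻¹ * θ (θ x) by simp only [θ]; group, hθ2 x hxP]
      group
    · rw [map_mul, map_inv, hθπ x _ _ hx, hx, ← map_inv, ← map_mul]
      congr 1
      show Multiplicative.ofAdd (-(-(c / 2), -(d / 2)) + (-(-(c / 2)), -(-(d / 2)))) = _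
      congr 1
      simp only [Prod.neg_mk, Prod.mk_add_mk, neg_neg]
      exact Prod.ext (by field_simp; ring) (by field_simp; ring)
  choose j hjP hjθ hjπ using hex
  have hD0j : ∀ d ∈ D0, ∀ c c', (d : G) * j c c' * (d : G)⁻¹ =
      j (φ d 0 0 * c + φ d 0 1 * c') (φ d 1 0 * c + φ d 1 1 * c') := by
    intro d hd c c'
    have hπd : π ((d : G) * j c c' * (d : G)⁻¹) =
        ι (Multiplicative.ofAdd (φ d 0 0 * c + φ d 0 1 * c', φ d 1 0 * c + φ d 1 1 * c')) := by
      rw [map_mul, map_mul, map_inv, hjπ, hact]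
    refine huniq _ _ ⟨_, hπd.symm⟩ (hjP _ _) ?_ (hjθ _ _) (hπd.trans (hjπ _ _).symm)
    have hu' : d⁻¹ * u * d ∈ T := by
      have := (Subgroup.mem_normalizer_iff.mp (inv_mem hd) u).mp huT
      simpa using this
    have hw := htriv _ (T.mul_mem (T.inv_mem huT) hu') (by
      rw [map_mul, map_mul, map_mul, map_inv, map_inv, hφu, mul_assoc (φ d)⁻¹, neg_one_mul,
        mul_neg, inv_mul_cancel]
      exact inv_mul_cancel _)
    have hwc := mem_centralizer_iff.mp hw _ (hjP c c')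
    simp only [Subgroup.coe_mul, Subgroup.coe_inv] at hwc
    have hj' : (u : G) * j c c' * (u : G)⁻¹ = (j c c')⁻¹ := hjθ c c'
    show (u : G) * ((d : G) * j c c' * (d : G)⁻¹) * (u : G)⁻¹ = _
    calc (u : G) * ((d : G) * j c c' * (d : G)⁻¹) * (u : G)⁻¹
        = (d : G) * ((u : G) * ((((u : G)⁻¹ * ((d : G)⁻¹ * u * d)) * j c c') *
          ((u : G)⁻¹ * ((d : G)⁻¹ * u * d))⁻¹) * (u : G)⁻¹) * (d : G)⁻¹ := by group
      _ = (d : G) * ((u : G) * j c c' * (u : G)⁻¹) * (d : G)⁻¹ := by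
          rw [← hwc, mul_inv_cancel_right]
      _ = _ := by rw [hj']; group
  -- the subgroup generated by the inverted elements over a basis
  set jv := j 1 0 with hjv
  set jw := j 0 1 with hjw
  set z0 := ⁅jv, jw⁆ with hz0
  have hz0M : z0 ∈ M := by
    refine (QuotientGroup.eq_one_iff _).mp ?_
    show π z0 = 1
    rw [hz0, map_commutatorElement, hjπ, hjπ, ← map_commutatorElement,
      commutatorElement_eq_one_iff_mul_comm.mpr (mul_comm _ _), map_one]
  have hzv : Commute jv z0 := hcM _ (hjP _ _) (hjθ _ _) _ hz0M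
  have hzw : Commute jw z0 := hcM _ (hjP _ _) (hjθ _ _) _ hz0M
  obtain ⟨k0, hk0⟩ : ∃ k : ℕ, z0 ^ (2 * k) = z0⁻¹ := by
    obtain ⟨s, hs⟩ := hodd z0 (hMP hz0M)
    obtain ⟨r, hr⟩ := ((Fact.out : p.Prime).odd_of_ne_two hp).pow (n := s)
    refine ⟨r, eq_inv_of_mul_eq_one_left ?_⟩
    rw [← pow_succ, ← hr, hs]
  have hsum : j 1 1 = jv * jw * z0 ^ k0 := by
    refine huniq _ _ (hjP _ _) (P.mul_mem (P.mul_mem (hjP _ _) (hjP _ _)) (hMP (pow_mem hz0M k0)))
      (hjθ _ _) ?_ ?_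
    · rw [show θ (jv * jw * z0 ^ k0) = θ jv * θ jw * θ (z0 ^ k0) by simp only [θ]; group,
        hjv, hjw, hjθ, hjθ, hfix _ (pow_mem hz0M k0), mul_inv_rev, mul_inv_rev, ← hjv, ← hjw]
      have hc1 : Commute (z0 ^ k0)⁻¹ (jw⁻¹ * jv⁻¹) :=
        ((hzw.pow_right k0).inv_inv.symm).mul_right ((hzv.pow_right k0).inv_inv.symm)
      rw [hc1.eq]
      have e1 : jv⁻¹ * jw⁻¹ = jw⁻¹ * jv⁻¹ * z0 := by
        have hc2 : Commute z0 (jv⁻¹ * jw⁻¹) := (hzv.inv_left.symm).mul_right (hzw.inv_left.symm)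
        calc jv⁻¹ * jw⁻¹ = (jw⁻¹ * jv⁻¹) * (jv * jw * (jv⁻¹ * jw⁻¹)) := by group
          _ = _ := by rw [hz0, commutatorElement_def]; group
      rw [e1, mul_assoc (jw⁻¹ * jv⁻¹) z0]
      congr 1
      refine eq_inv_of_mul_eq_one_left ?_
      rw [mul_assoc, ← pow_add, ← two_mul, hk0, mul_inv_cancel]
    · rw [map_mul, map_mul, hjπ, hjπ, hjπ, map_pow,
        show π z0 = 1 from (QuotientGroup.eq_one_iff _).mpr hz0M, one_pow, mul_one, ← map_mul]
      congr 1
      show Multiplicative.ofAdd _ = Multiplicative.ofAdd (((1 : ZMod p), (0 : ZMod p)) + (0, 1))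
      simp
  set P2 : Subgroup G := closure {jv, jw} with hP2
  have hP2P : P2 ≤ P := (closure_le _).mpr (by rintro x (rfl | rfl) <;> exact hjP _ _)
  have hjvP2 : jv ∈ P2 := subset_closure (Set.mem_insert _ _)
  have hjwP2 : jw ∈ P2 := subset_closure (Set.mem_insert_of_mem _ rfl)
  have hz0P2 : z0 ∈ P2 := by
    rw [hz0, commutatorElement_def]
    exact P2.mul_mem (P2.mul_mem (P2.mul_mem hjvP2 hjwP2) (P2.inv_mem hjvP2)) (P2.inv_mem hjwP2)
  have hθP2 : ∀ x ∈ P2, θ x ∈ P2 := by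
    intro x hx
    induction hx using closure_induction with
    | mem x hx =>
      rcases hx with rfl | rfl
      · rw [hjv, hjθ, ← hjv]; exact P2.inv_mem hjvP2
      · rw [hjw, hjθ, ← hjw]; exact P2.inv_mem hjwP2
    | one => simp [θ, P2.one_mem]
    | mul x y _ _ hx hy =>
      rw [show θ (x * y) = θ x * θ y by simp only [θ]; group]
      exact P2.mul_mem hx hy
    | inv x _ hx =>
      rw [show θ x⁻¹ = (θ x)⁻¹ by simp only [θ]; group]
      exact P2.inv_mem hx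
  have hjP2 : ∀ c d, j c d ∈ P2 := by
    intro c d
    set x := jv ^ (-(c / 2)).val * jw ^ (-(d / 2)).val with hx
    have hxP2 : x ∈ P2 := P2.mul_mem (pow_mem hjvP2 _) (pow_mem hjwP2 _)
    have hxπ : π x = ι (Multiplicative.ofAdd (-(c / 2), -(d / 2))) := by
      rw [hx, map_mul, map_pow, map_pow, hjπ, hjπ, ← map_pow ι, ← map_pow ι, ← map_mul ι]
      congr 1
      rw [← ofAdd_nsmul, ← ofAdd_nsmul, ← ofAdd_add]
      congr 1
      simp
    have hyP2 : x⁻¹ * θ x ∈ P2 := P2.mul_mem (P2.inv_mem hxP2) (hθP2 x hxP2)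
    have hy : j c d = x⁻¹ * θ x := by
      refine huniq _ _ (hjP _ _) (hP2P hyP2) (hjθ _ _) ?_ ?_
      · rw [show θ (x⁻¹ * θ x) = (θ x)⁻¹ * θ (θ x) by simp only [θ]; group, hθ2 x (hP2P hxP2)]
        group
      · rw [map_mul, map_inv, hθπ x _ _ hxπ, hxπ, ← map_inv, ← map_mul, hjπ]
        congr 1
        show _ = Multiplicative.ofAdd (-(-(c / 2), -(d / 2)) + (-(-(c / 2)), -(-(d / 2))))
        congr 1
        simp only [Prod.neg_mk, Prod.mk_add_mk, neg_neg]
        exact Prod.ext (by field_simp; ring) (by field_simp; ring)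
    rw [hy]
    exact hyP2
  have hD0n : ∀ d ∈ D0, (d : G) ∈ normalizer (P2 : Set G) := by
    intro d hd
    refine mem_normalizer_iff_map_conj_eq.mpr (Solvable.eq_of_le_of_card_le ?_ ?_)
    · rw [hP2, MonoidHom.map_closure, closure_le]
      rintro _ ⟨x, rfl | rfl, rfl⟩ <;>
      · show (d : G) * _ * (d : G)⁻¹ ∈ P2
        rw [hjv, hjw] at *
        rw [hD0j d hd]
        exact hjP2 _ _
    · exact (Nat.card_congr (P2.equivMapOfInjective _ (MulAut.conj (d : G)).injective).toEquiv).le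
  obtain ⟨g0, hg0, hφg0⟩ := hD0surj (upper 1)
  have hg0v : (g0 : G) * jv * (g0 : G)⁻¹ = jv := by
    rw [hjv, hD0j g0 hg0, hφg0]
    simp
  have hg0w : (g0 : G) * jw * (g0 : G)⁻¹ = jv * jw * z0 ^ k0 := by
    rw [hjw, hD0j g0 hg0, hφg0, ← hjw, ← hsum]
    simp
  have hg0z : (g0 : G) * z0 * (g0 : G)⁻¹ = z0 := by
    have e : (g0 : G) * z0 * (g0 : G)⁻¹ =
        ⁅(g0 : G) * jv * (g0 : G)⁻¹, (g0 : G) * jw * (g0 : G)⁻¹⁆ := by
      rw [hz0]; simp only [commutatorElement_def]; group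
    rw [e, hg0v, hg0w, commutatorElement_def]
    have hzk := hzv.pow_right k0
    calc jv * (jv * jw * z0 ^ k0) * jv⁻¹ * (jv * jw * z0 ^ k0)⁻¹
        = jv * jv * jw * (z0 ^ k0 * jv⁻¹) * (jv * jw * z0 ^ k0)⁻¹ := by group
      _ = jv * jv * jw * (jv⁻¹ * z0 ^ k0) * (jv * jw * z0 ^ k0)⁻¹ := by rw [hzk.inv_left.symm.eq]
      _ = jv * z0 * jv⁻¹ := by rw [hz0, commutatorElement_def]; group
      _ = z0 := by rw [hzv.eq, mul_inv_cancel_right]
  set L : Subgroup G := closure {jv, z0} with hL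
  have hLv : jv ∈ L := subset_closure (Set.mem_insert _ _)
  have hLz : z0 ∈ L := subset_closure (Set.mem_insert_of_mem _ rfl)
  have hLP2 : P2 ≤ normalizer (L : Set G) := by
    rw [hP2, closure_le]
    rintro x (rfl | rfl)
    · exact le_normalizer hLv
    · refine mem_normalizer_iff_map_conj_eq.mpr (Solvable.eq_of_le_of_card_le ?_ ?_)
      · rw [hL, MonoidHom.map_closure, closure_le]
        rintro _ ⟨y, rfl | rfl, rfl⟩
        · show jw * jv * jw⁻¹ ∈ L
          rw [show jw * jv * jw⁻¹ = z0⁻¹ * jv by rw [hz0, commutatorElement_def]; group]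
          exact L.mul_mem (L.inv_mem hLz) hLv
        · show jw * z0 * jw⁻¹ ∈ L
          rw [hzw.eq, mul_inv_cancel_right]
          exact hLz
      · exact (Nat.card_congr (L.equivMapOfInjective _ (MulAut.conj jw).injective).toEquiv).le
  have hcentL : ∀ y ∈ zpowers (g0 : G), ∀ l ∈ L, y * l * y⁻¹ = l := by
    intro y hy l hl
    have hc : L ≤ centralizer ({(g0 : G)} : Set G) := by
      rw [hL, closure_le]
      rintro x (rfl | rfl) <;>
      · refine mem_centralizer_singleton_iff.mpr (Eq.symm ?_)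
        first
        | exact (mul_inv_eq_iff_eq_mul.mp hg0v)
        | exact (mul_inv_eq_iff_eq_mul.mp hg0z)
    obtain ⟨i, rfl⟩ := hy
    have : Commute (g0 : G) l := (mem_centralizer_singleton_iff.mp (hc hl)).symm
    rw [(this.zpow_left i).eq, mul_inv_cancel_right]
  have hq : ⁅⁅P2, zpowers (g0 : G)⁆, zpowers (g0 : G)⁆ = ⊥ := by
    have h1 : ⁅P2, zpowers (g0 : G)⁆ ≤ L := by
      have hgen : ∀ y ∈ zpowers (g0 : G), ⁅jw, y⁆ ∈ L := by
        have hb : ⁅jw, (g0 : G)⁆ ∈ L := by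
          have e : ⁅jw, (g0 : G)⁆ = jw * ((g0 : G) * jw * (g0 : G)⁻¹)⁻¹ := by
            simp only [commutatorElement_def]; group
          rw [e, hg0w, mul_inv_rev, mul_inv_rev,
            show jw * ((z0 ^ k0)⁻¹ * (jw⁻¹ * jv⁻¹)) = (jw * (z0 ^ k0)⁻¹ * jw⁻¹) * jv⁻¹ by group,
            (hzw.pow_right k0).inv_right.eq, mul_inv_cancel_right]
          exact L.mul_mem (L.inv_mem (pow_mem hLz _)) (L.inv_mem hLv)
        let Y : Subgroup G :=
          { carrier := {y | y ∈ zpowers (g0 : G) ∧ ⁅jw, y⁆ ∈ L}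
            one_mem' := ⟨one_mem _, by simp⟩
            mul_mem' := by
              rintro y y' ⟨hy, hy'⟩ ⟨hz, hz'⟩
              refine ⟨mul_mem hy hz, ?_⟩
              rw [show ⁅jw, y * y'⁆ = ⁅jw, y⁆ * (y * ⁅jw, y'⁆ * y⁻¹) by
                simp only [commutatorElement_def]; group, hcentL y hy _ hz']
              exact L.mul_mem hy' hz'
            inv_mem' := by
              rintro y ⟨hy, hy'⟩
              refine ⟨inv_mem hy, ?_⟩
              rw [show ⁅jw, y⁻¹⁆ = y⁻¹ * ⁅jw, y⁆⁻¹ * y⁻¹⁻¹ by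
                simp only [commutatorElement_def]; group, hcentL _ (inv_mem hy) _ (L.inv_mem hy')]
              exact L.inv_mem hy' }
        exact fun y hy => ((zpowers_le (H := Y)).mpr ⟨mem_zpowers _, hb⟩ hy).2
      rw [commutator_le]
      intro x hx y hy
      induction hx using closure_induction with
      | mem x hx =>
        rcases hx with rfl | rfl
        · rw [commutatorElement_def, mul_assoc jv, mul_assoc jv, hcentL y hy _ (L.inv_mem hLv),
            mul_inv_cancel]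
          exact L.one_mem
        · exact hgen y hy
      | one => simp
      | mul x1 x2 h1 _ ih1 ih2 =>
        rw [show ⁅x1 * x2, y⁆ = (x1 * ⁅x2, y⁆ * x1⁻¹) * ⁅x1, y⁆ by
          simp only [commutatorElement_def]; group]
        exact L.mul_mem ((mem_normalizer_iff.mp (hLP2 h1) _).mp ih2) ih1
      | inv x1 h1 ih1 =>
        rw [show ⁅x1⁻¹, y⁆ = x1⁻¹ * ⁅x1, y⁆⁻¹ * x1⁻¹⁻¹ by simp only [commutatorElement_def]; group]
        exact (mem_normalizer_iff.mp (hLP2 (inv_mem h1)) _).mp (L.inv_mem ih1)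
    refine le_bot_iff.mp ((commutator_mono h1 le_rfl).trans ?_)
    rw [commutator_le]
    intro l hl y hy
    rw [mem_bot, commutatorElement_eq_one_iff_mul_comm]
    exact (mul_inv_eq_iff_eq_mul.mp (hcentL y hy l hl)).symm
  have hP2p : IsPGroup p P2 := by
    rintro ⟨x, hx⟩
    obtain ⟨k, hk⟩ := hodd x (hP2P hx)
    exact ⟨k, Subtype.ext (by simpa using hk)⟩
  obtain ⟨D, hD, hgD, hDp⟩ := (pcoreMod_iff _ _).mpr (hst P2 hP2p (g0 : G) (hD0n g0 hg0) hq)
  let ν : D0 →* ↥(normalizer (P2 : Set G)) :=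
    (K1.subtype.comp D0.subtype).codRestrict _ fun d => hD0n d d.2
  let ψ : D0 →* SL2 (ZMod p) := φ.comp D0.subtype
  have hψ : Function.Surjective ψ := fun A => by
    obtain ⟨d, hd, hdA⟩ := hD0surj A
    exact ⟨⟨d, hd⟩, hdA⟩
  have hImg : ((D.comap ν).map ψ).Normal := (hD.comap ν).map ψ hψ
  have hup : upper (1 : ZMod p) ∈ (D.comap ν).map ψ := ⟨⟨g0, hg0⟩, hgD, hφg0⟩
  have hlow : lower (1 : ZMod p) ∈ (D.comap ν).map ψ := by
    obtain ⟨w, w00, w01, w10, w11⟩ : ∃ w : SL2 (ZMod p),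
        w 0 0 = 0 ∧ w 0 1 = -1 ∧ w 1 0 = 1 ∧ w 1 1 = 0 :=
      ⟨⟨!![0, -1; 1, 0], by simp [Matrix.det_fin_two]⟩, rfl, rfl, rfl, rfl⟩
    have hw0 : lower 1 * (w * upper 1) = w := by
      apply sl2_ext <;> simp [sl2_mul, w00, w01, w10, w11]
    have hw : w * upper 1 * w⁻¹ = (lower 1)⁻¹ := by
      apply eq_inv_of_mul_eq_one_right
      rw [← mul_assoc, ← mul_assoc, mul_assoc (lower 1), hw0, mul_inv_cancel]
    have h1 := hImg.conj_mem _ hup w
    rw [hw] at h1
    exact inv_mem_iff.mp h1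
  obtain ⟨d, hd, hdA⟩ : (-1 : SL2 (ZMod p)) ∈ (D.comap ν).map ψ :=
    sl2_zmod_generated _ hup hlow ▸ mem_top _
  obtain ⟨k, hk⟩ := hDp _ hd
  have hk' : ((d : K1) : G) ^ p ^ k ∈ centralizer (P2 : Set G) := mem_subgroupOf.mp hk
  have hdk : φ ((d : K1) ^ p ^ k) = -1 := by
    rw [map_pow, show φ (d : K1) = -1 from hdA,
      (((Fact.out : p.Prime).odd_of_ne_two hp).pow).neg_one_pow]
  have h3 := hD0j _ (D0.pow_mem d.2 (p ^ k)) 1 0
  rw [hdk, SubmonoidClass.coe_pow, ← mem_centralizer_iff.mp hk' _ hjvP2,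
    mul_inv_cancel_right] at h3
  have h4 := congrArg π h3
  rw [hjπ, hjπ] at h4
  have h5 := hι h4
  simp at h5
  have h6 : (2 : ZMod p) = 0 := by linear_combination h5
  exact h2 h6

end CfsgLib.ZJ
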