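import Cfsg.Agent.ZJ.PStable
import Cfsg.Agent.ZJ.ReplacementMain
import Cfsg.Agent.Functor.Sylow
import Cfsg.Prelude.Def_TwoFusion

/-!
Glauberman's ZJ theorem, for a family of abelian subgroups closed under conjugation and
replacement, and a strongly closed subgroup of a Sylow subgroup.
-/

set_option autoImplicit false

namespace CfsgLib.ZJ

open Subgroup CfsgLib.Functor
open scoped commutatorElement

variable {G : Type*} [Group G]

/-- The members of `Q` inside `U` of largest order. -/
def fam (Q : Subgroup G → Prop) (U : Subgroup G) : Set (Subgroup G) :=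
  {A | Q A ∧ A ≤ U ∧ ∀ B, Q B → B ≤ U → Nat.card B ≤ Nat.card A}

/-- The intersection of the members of largest order. -/
def famCenter (Q : Subgroup G → Prop) (U : Subgroup G) : Subgroup G := sInf (fam Q U)

/-- Properties of an admissible class of abelian subgroups. -/
structure Admissible (Q : Subgroup G → Prop) : Prop where
  bot : Q ⊥
  comm : ∀ A, Q A → IsMulCommutative A
  map : ∀ (e : MulAut G) A, Q A → Q (A.map e.toMonoidHom)
  repl : ∀ (A B : Subgroup G) (b : G), Q A → ReplData A B b → Odd (orderOf b) → Q (repl A b)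

variable [Finite G] {Q : Subgroup G → Prop}

theorem exists_fam (hQ : Admissible Q) (U : Subgroup G) : ∃ A, A ∈ fam Q U := by
  obtain ⟨A, ⟨hA, hAU⟩, hmax⟩ := Set.exists_max_image {A : Subgroup G | Q A ∧ A ≤ U}
    (fun A => Nat.card A) (Set.toFinite _) ⟨⊥, hQ.bot, bot_le⟩
  exact ⟨A, hA, hAU, fun B hB hBU => hmax B ⟨hB, hBU⟩⟩

theorem famCenter_le (hQ : Admissible Q) (U : Subgroup G) : famCenter Q U ≤ U := by
  obtain ⟨A, hA⟩ := exists_fam hQ U
  exact (sInf_le hA).trans hA.2.1

theorem famCenter_comm (hQ : Admissible Q) {U : Subgroup G} {x y : G}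
    (hx : x ∈ famCenter Q U) (hy : y ∈ famCenter Q U) : x * y = y * x := by
  obtain ⟨A, hA⟩ := exists_fam hQ U
  exact congrArg Subtype.val
    ((hQ.comm A hA.1).is_comm.comm ⟨x, sInf_le hA hx⟩ ⟨y, sInf_le hA hy⟩)

omit [Finite G] in
theorem famCenter_map_le (hQ : Admissible Q) (e : MulAut G) (U : Subgroup G) :
    (famCenter Q U).map e.toMonoidHom ≤ famCenter Q (U.map e.toMonoidHom) := by
  refine le_sInf fun A hA => ?_
  have hinv : ∀ C : Subgroup G, (C.map e⁻¹.toMonoidHom).map e.toMonoidHom = C := fun C => by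
    ext x
    simp
  have hinv' : ∀ C : Subgroup G, (C.map e.toMonoidHom).map e⁻¹.toMonoidHom = C := fun C => by
    ext x
    simp
  have h1 : A.map e⁻¹.toMonoidHom ∈ fam Q U := by
    refine ⟨hQ.map e⁻¹ A hA.1, (map_mono hA.2.1).trans (hinv' U).le, fun B hB hBU => ?_⟩
    rw [← Nat.card_congr (A.equivMapOfInjective e⁻¹.toMonoidHom e⁻¹.injective).toEquiv,
      Nat.card_congr (B.equivMapOfInjective e.toMonoidHom e.injective).toEquiv]
    exact hA.2.2 _ (hQ.map e B hB) (map_mono hBU)
  exact (map_mono (sInf_le h1)).trans (hinv A).le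

omit [Finite G] in
theorem famCenter_map (hQ : Admissible Q) (e : MulAut G) (U : Subgroup G) :
    (famCenter Q U).map e.toMonoidHom = famCenter Q (U.map e.toMonoidHom) := by
  refine le_antisymm (famCenter_map_le hQ e U) ?_
  have h := map_mono (f := e.toMonoidHom) (famCenter_map_le hQ e⁻¹ (U.map e.toMonoidHom))
  have hinv : ∀ C : Subgroup G, (C.map e⁻¹.toMonoidHom).map e.toMonoidHom = C := fun C => by
    ext x
    simp
  have hinv' : ∀ C : Subgroup G, (C.map e.toMonoidHom).map e⁻¹.toMonoidHom = C := fun C => by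
    ext x
    simp
  rwa [hinv, hinv'] at h

omit [Finite G] in
theorem normalizer_le_famCenter (hQ : Admissible Q) (U : Subgroup G) :
    normalizer (U : Set G) ≤ normalizer (famCenter Q U : Set G) := by
  intro n hn
  rw [mem_normalizer_iff_map_conj_eq] at hn ⊢
  exact (famCenter_map hQ (MulAut.conj n) U).trans (by rw [show Subgroup.map (MulAut.conj n).toMonoidHom U = U from hn])

variable {p : ℕ} [Fact p.Prime]

/-- A normal subgroup that is a p-group modulo `C` lies in any subgroup containing a Sylow subgroup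
of it and its intersection with `C`. -/
theorem le_of_sylowIn_of_mod {K C T M : Subgroup G} [C.Normal] (hT : IsSylowIn p T K)
    (hK : ∀ x ∈ K, ∃ k, x ^ p ^ k ∈ C) (hTM : T ≤ M) (hCM : K ⊓ C ≤ M) : K ≤ M := by
  have hP : IsPGroup p (K ⧸ C.subgroupOf K) := fun x => by
    obtain ⟨x, rfl⟩ := QuotientGroup.mk_surjective x
    obtain ⟨k, hk⟩ := hK x x.2
    exact ⟨k, by rw [← QuotientGroup.mk_pow]; exact (QuotientGroup.eq_one_iff _).mpr (mem_subgroupOf.mpr hk)⟩
  obtain ⟨k, hk⟩ := hP.exists_card_eq
  have h1 : (M ⊓ K).relIndex K ∣ p ^ k := by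
    refine (relIndex_dvd_of_le_left K (le_inf hCM inf_le_left)).trans ?_
    rw [inf_comm, inf_relIndex_right, relIndex, ← hk]
    exact dvd_rfl
  have h2 : ¬ p ∣ (M ⊓ K).relIndex K := fun h =>
    hT.2.2 (h.trans (relIndex_dvd_of_le_left K (le_inf hTM hT.1)))
  have h3 : (M ⊓ K).relIndex K = 1 := by
    obtain ⟨j, -, hj⟩ := (Nat.dvd_prime_pow Fact.out).mp h1
    rcases Nat.eq_zero_or_pos j with rfl | hpos
    · simpa using hj
    · exact absurd (hj ▸ dvd_pow_self p hpos.ne') h2
  exact (relIndex_eq_one.mp h3).trans inf_le_left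

/-- The stability hypothesis. -/
def StableNormal (p : ℕ) (G : Type*) [Group G] : Prop :=
  ∀ (P : Subgroup G) [P.Normal], IsPGroup p P → ∀ a : G,
    ⁅⁅P, zpowers a⁆, zpowers a⁆ = ⊥ → PCoreMod p (centralizer (P : Set G)) a

/-- The intersection of a normal p-subgroup with `famCenter Q D` is normal if the quadratic elements
of the members of largest order are in the p-cores. -/
theorem inf_famCenter_normal_of (hp : p ≠ 2) (hQ : Admissible Q) (S : Sylow p G) (D : Subgroup G)
    (hD : Cfsg.IsStronglyClosed D (S : Subgroup G))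
    (hst : ∀ (B : Subgroup G) [B.Normal], IsPGroup p B →
      B ≤ normalClosure ((B ⊓ famCenter Q D : Subgroup G) : Set G) →
      ∀ A ∈ fam Q D, ∀ a ∈ A, ⁅⁅B, zpowers a⁆, zpowers a⁆ = ⊥ →
        PCoreMod p (centralizer (B : Set G)) a) :
    ∀ B : Subgroup G, B.Normal → IsPGroup p B → (B ⊓ famCenter Q D).Normal := by
  set Z := famCenter Q D with hZ
  have hSD : (S : Subgroup G) ≤ normalizer (D : Set G) := by
    intro s hs
    rw [mem_normalizer_iff]
    intro x
    refine ⟨fun hx => hD.2 x hx s (mul_mem (mul_mem hs (hD.1 hx)) (inv_mem hs)), fun hx => ?_⟩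
    have := hD.2 _ hx s⁻¹ (mul_mem (mul_mem (inv_mem hs) (hD.1 hx)) (by simpa using hs))
    simpa [mul_assoc] using this
  have hSZ : (S : Subgroup G) ≤ normalizer (Z : Set G) := hSD.trans (normalizer_le_famCenter hQ D)
  have hZD : Z ≤ D := famCenter_le hQ D
  intro B hBn hBp
  obtain ⟨n, hn⟩ : ∃ n, Nat.card B = n := ⟨_, rfl⟩
  induction n using Nat.strong_induction_on generalizing B with
  | _ n ih =>
    subst hn
    set Y := B ⊓ Z with hY
    set B1 := normalClosure (Y : Set G) with hB1
    by_contra hnot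
    have hB1B : B1 ≤ B := normalClosure_le_normal (fun x hx => hx.1)
    have hB1eq : B1 = B := by
      by_contra hne
      apply hnot
      have h1 := ih _ (Solvable.card_lt_of_lt (lt_of_le_of_ne hB1B hne)) B1 normalClosure_normal
        (hBp.to_le hB1B) rfl
      rwa [le_antisymm (inf_le_inf_right Z hB1B)
        (le_inf subset_normalClosure inf_le_right)] at h1
    have hBS : B ≤ S := by
      obtain ⟨R, hR⟩ := hBp.exists_le_sylow
      obtain ⟨g, rfl⟩ := MulAction.exists_smul_eq G R S
      intro x hx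
      rw [Sylow.coe_subgroup_smul]
      exact ⟨g⁻¹ * x * g, hR (by simpa using hBn.conj_mem x hx g⁻¹), by simp [mul_assoc]⟩
    have hSY : (S : Subgroup G) ≤ normalizer (Y : Set G) := by
      intro s hs
      rw [mem_normalizer_iff]
      intro x
      exact and_congr ⟨fun h => hBn.conj_mem x h s, fun h => by
        have := hBn.conj_mem _ h s⁻¹
        simpa [mul_assoc] using this⟩ (mem_normalizer_iff.mp (hSZ hs) x)
    -- the derived group of `B` is central in `B` and lies in `Z`
    have hB'lt : B ≠ ⊥ → ⁅B, B⁆ < B := by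
      intro hB0
      haveI := hBp.isNilpotent
      haveI : Nontrivial B := (nontrivial_iff_ne_bot B).2 hB0
      have h := Group.IsSolvable.commutator_lt_top_of_nontrivial B
      rw [← map_subtype_lt_map_subtype, map_subtype_commutator] at h
      rwa [← MonoidHom.range_eq_map, range_subtype] at h
    have hB0 : B ≠ ⊥ := by
      intro h0
      apply hnot
      have : Y = ⊥ := le_bot_iff.mp (inf_le_left.trans h0.le)
      rw [this]
      infer_instance
    have hB'n : (⁅B, B⁆ ⊓ Z).Normal :=
      ih _ (Solvable.card_lt_of_lt (hB'lt hB0)) _ inferInstance (hBp.to_le (commutator_le_self B)) rfl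
    have hYB : ∀ y ∈ Y, ∀ x ∈ B, ⁅x, y⁆ ∈ ⁅B, B⁆ ⊓ Z := by
      intro y hy x hx
      refine ⟨commutator_mem_commutator hx hy.1, ?_⟩
      rw [commutatorElement_def]
      exact Z.mul_mem ((mem_normalizer_iff.mp (hSZ (hBS hx)) y).mp hy.2) (Z.inv_mem hy.2)
    have hB'Z : ⁅B, B⁆ ≤ Z := by
      have h1 : B ≤ (centralizer ((B.map (QuotientGroup.mk' (⁅B, B⁆ ⊓ Z)) : Subgroup _) : Set _)).comap
          (QuotientGroup.mk' (⁅B, B⁆ ⊓ Z)) := by
        haveI := hB'n
        haveI : (B.map (QuotientGroup.mk' (⁅B, B⁆ ⊓ Z))).Normal :=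
          hBn.map _ (QuotientGroup.mk'_surjective _)
        conv_lhs => rw [← hB1eq]
        refine normalClosure_le_normal fun y hy => ?_
        rw [SetLike.mem_coe, mem_comap, mem_centralizer_iff]
        rintro _ ⟨x, hx, rfl⟩
        rw [← commutatorElement_eq_one_iff_mul_comm, ← map_commutatorElement]
        exact (QuotientGroup.eq_one_iff _).mpr (hYB y hy x hx)
      refine (commutator_le.mpr fun x hx y hy => ?_).trans (inf_le_right (a := ⁅B, B⁆))
      haveI := hB'n
      refine (QuotientGroup.eq_one_iff _).mp ?_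
      rw [← QuotientGroup.mk'_apply (N := ⁅B, B⁆ ⊓ Z), map_commutatorElement,
        commutatorElement_eq_one_iff_mul_comm]
      exact mem_centralizer_iff.mp (h1 hy) _ (mem_map_of_mem _ hx)
    have hB'cent : ⁅⁅B, B⁆, B⁆ = ⊥ := by
      rw [commutator_eq_bot_iff_le_centralizer]
      intro c hc
      rw [mem_centralizer_iff]
      intro x hx
      haveI : (⁅B, B⁆).Normal := inferInstance
      have h1 : B1 ≤ centralizer ((⁅B, B⁆ : Subgroup G) : Set G) := normalClosure_le_normal fun y hy =>
        mem_centralizer_iff.mpr fun d hd => famCenter_comm hQ (hB'Z hd) hy.2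
      exact (mem_centralizer_iff.mp (h1 (hB1eq.symm ▸ hx)) c hc).symm
    -- the largest normal subgroup normalizing `Y`
    set N := normalizer (Y : Set G) with hN
    set L := N.normalCore with hL
    have hLN : L ≤ N := normalCore_le N
    have hBL : B ≤ L := normal_le_normalCore.mpr (hBS.trans hSY)
    have hSL : IsSylowIn p ((S : Subgroup G) ⊓ L) L :=
      (isSylowIn_top S).inf_normal le_top (by rw [normalizer_eq_top (H := L)])
    have hfrat : ∀ g : G, ∃ l ∈ L, ∃ m ∈ normalizer (((D ⊓ L : Subgroup G)) : Set G), g = m * l := by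
      intro g
      obtain ⟨k, hk, hkeq⟩ := hSL.exists_cj_eq (hSL.cj_of_mem
        (g := g) (by rw [normalizer_eq_top (H := L)]; exact mem_top g))
      rw [cj_cj, ← mem_normalizer_iff_cj] at hkeq
      refine ⟨g⁻¹ * k⁻¹ * g, ?_, k * g, ?_, by group⟩
      · simpa using (normalCore_normal N).conj_mem _ (inv_mem hk) g⁻¹
      have hstep : ∀ m ∈ normalizer (((S : Subgroup G) ⊓ L : Subgroup G) : Set G),
          ∀ x ∈ D ⊓ L, m * x * m⁻¹ ∈ D ⊓ L := fun m hm x hx =>
        have h := (mem_normalizer_iff.mp hm x).mp ⟨hD.1 hx.1, hx.2⟩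
        ⟨hD.2 x hx.1 m h.1, h.2⟩
      rw [mem_normalizer_iff]
      intro x
      refine ⟨hstep _ hkeq x, fun hx => ?_⟩
      have := hstep _ (inv_mem hkeq) _ hx
      simpa [mul_assoc] using this
    have hfam : ∀ A ∈ fam Q D, A ≤ L → fam Q (D ⊓ L) ⊆ fam Q D := fun A hA hAL C hC =>
      ⟨hC.1, hC.2.1.trans inf_le_left, fun E hE hED =>
        (hA.2.2 E hE hED).trans (hC.2.2 A hA.1 (le_inf hA.2.1 hAL))⟩
    have hmem : ∀ A ∈ fam Q D, A ≤ L → A ∈ fam Q (D ⊓ L) := fun A hA hAL =>
      ⟨hA.1, le_inf hA.2.1 hAL, fun E hE hEU => hA.2.2 E hE (hEU.trans inf_le_left)⟩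
    -- some member of largest order is not in `L`
    obtain ⟨A1, hA1, hA1L⟩ : ∃ A ∈ fam Q D, ¬ A ≤ L := by
      by_contra hcon
      push Not at hcon
      apply hnot
      obtain ⟨A1, hA1⟩ := exists_fam hQ D
      have hZeq : famCenter Q (D ⊓ L) = Z := le_antisymm
        (sInf_le_sInf fun A hA => hmem A hA (hcon A hA))
        (sInf_le_sInf (hfam A1 hA1 (hcon A1 hA1)))
      rw [← normalizer_eq_top_iff, eq_top_iff]
      intro g _
      obtain ⟨l, hl, m, hm, rfl⟩ := hfrat g
      refine mul_mem ?_ (hLN hl)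
      have hmZ := normalizer_le_famCenter hQ _ hm
      rw [hZeq] at hmZ
      rw [mem_normalizer_iff]
      intro x
      exact and_congr ⟨fun h => hBn.conj_mem x h m, fun h => by
        have := hBn.conj_mem _ h m⁻¹
        simpa [mul_assoc] using this⟩ (mem_normalizer_iff.mp hmZ x)
    obtain ⟨A, ⟨hA, hAL⟩, hmax⟩ := Set.exists_max_image
      {A : Subgroup G | A ∈ fam Q D ∧ ¬ A ≤ L} (fun A => Nat.card ↥(A ⊓ B)) (Set.toFinite _)
      ⟨A1, hA1, hA1L⟩
    have hAc := hQ.comm A hA.1
    have hAS : A ≤ S := hA.2.1.trans hD.1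
    -- `B` does not normalize `A`
    have hBA : ¬ B ≤ normalizer (A : Set G) := by
      intro hle
      apply hAL
      intro a ha
      have hq : ⁅⁅B, zpowers a⁆, zpowers a⁆ = ⊥ := by
        have h1 : ⁅B, zpowers a⁆ ≤ A := by
          rw [commutator_le]
          intro x hx y hy
          have hy' := zpowers_le.mpr ha hy
          rw [commutatorElement_def]
          exact A.mul_mem ((mem_normalizer_iff.mp (hle hx) y).mp hy') (A.inv_mem hy')
        refine le_bot_iff.mp ((commutator_mono h1 (zpowers_le.mpr ha)).trans ?_)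
        exact (commutator_eq_bot_iff_le_centralizer.mpr
          (le_centralizer_iff_isMulCommutative.mpr hAc)).le
      obtain ⟨K, hKn, haK, hKp⟩ := hst B hBp hB1eq.ge A hA a ha hq
      have hKN : K ≤ N := by
        refine le_of_sylowIn_of_mod ((isSylowIn_top S).inf_normal le_top
          (by rw [normalizer_eq_top (H := K)])) hKp (inf_le_left.trans hSY) ?_
        intro c hc
        rw [hN, mem_normalizer_iff]
        intro x
        constructor
        · intro hx
          rwa [← mem_centralizer_iff.mp hc.2 x hx.1, mul_inv_cancel_right]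
        · intro hx
          have := mem_centralizer_iff.mp hc.2 _ hx.1
          rw [inv_mul_cancel_right] at this
          rwa [← mul_left_cancel this] at hx
      exact (normal_le_normalCore.mpr hKN : K ≤ L) haK
    have hBA' : ⁅B, B⁆ ≤ A := hB'Z.trans (sInf_le hA)
    obtain ⟨b, R, hb, hbA⟩ := exists_replacement_in (S.2.to_le (sup_le hAS hBS)) hAc hBA'
      (by rw [normalizer_eq_top (H := B)]; exact le_top) hBA
    have hodd : Odd (orderOf b) := by
      obtain ⟨k, hk⟩ := IsPGroup.iff_orderOf.mp hBp ⟨b, hb⟩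
      rw [show orderOf b = p ^ k by simpa using hk]
      exact ((Fact.out : p.Prime).odd_of_ne_two hp).pow
    have hAD' : repl A b ≤ D := (repl_le_sup A b).trans (sup_le hA.2.1 (by
      rintro _ ⟨a, ha, rfl⟩
      have := (mem_normalizer_iff.mp (hSD (inv_mem (hBS hb))) a).mp (hA.2.1 ha)
      simpa using this))
    have hA' : repl A b ∈ fam Q D := ⟨hQ.repl A B b hA.1 R hodd, hAD', fun C hC hCD =>
      (R.card_repl (Or.inl hodd)).symm ▸ hA.2.2 C hC hCD⟩
    have hA'L : repl A b ≤ L := by
      by_contra hnL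
      exact absurd (hmax _ ⟨hA', hnL⟩) (not_le.mpr (Solvable.card_lt_of_lt (R.inf_lt hbA)))
    -- the conjugates of `Y` lie in the centre for `D ∩ L`
    have hYX : Y ≤ famCenter Q (D ⊓ L) :=
      inf_le_right.trans (sInf_le_sInf (hfam _ hA' hA'L))
    have hBX : B ≤ famCenter Q (D ⊓ L) := by
      rw [← hB1eq]
      refine (closure_le _).mpr fun z hz => ?_
      obtain ⟨y, hy, hyz⟩ := Group.mem_conjugatesOfSet_iff.mp hz
      obtain ⟨g, rfl⟩ := isConj_iff.mp hyz
      obtain ⟨l, hl, m, hm, rfl⟩ := hfrat g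
      have h1 : l * y * l⁻¹ ∈ famCenter Q (D ⊓ L) :=
        hYX ((mem_normalizer_iff.mp (hLN hl) y).mp hy)
      have h2 := (mem_normalizer_iff.mp (normalizer_le_famCenter hQ _ hm) _).mp h1
      simpa [mul_assoc] using h2
    exact hBA ((hBX.trans (sInf_le (hmem _ hA' hA'L))).trans R.repl_le_normalizer)

/-- In a p-stable group, the intersection of a normal p-subgroup with `famCenter Q D` is normal. -/
theorem inf_famCenter_normal (hp : p ≠ 2) (hQ : Admissible Q) (S : Sylow p G) (D : Subgroup G)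
    (hD : Cfsg.IsStronglyClosed D (S : Subgroup G)) (hst : StableNormal p G) :
    ∀ B : Subgroup G, B.Normal → IsPGroup p B → (B ⊓ famCenter Q D).Normal :=
  inf_famCenter_normal_of hp hQ S D hD fun B _ hB _ _ _ a _ hq => hst B hB a hq

end CfsgLib.ZJ
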